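/-
The subgroup generated by the derangements of a transitive group.
-/
import Mathlib
import Cfsg.Agent.H33.Trans
import Cfsg.Agent.Perm.RegularNormal

set_option autoImplicit false

namespace Cfsg.Agent.H68

open MulAction
open scoped Pointwise

variable {G Ω : Type*} [Group G] [Finite G] [MulAction G Ω] [Finite Ω]

/-- The subgroup generated by the derangements. -/
abbrev derSub (G Ω : Type*) [Group G] [MulAction G Ω] : Subgroup G :=
  Subgroup.closure {g : G | ∀ ω : Ω, g • ω ≠ ω}

theorem derSub_normal : (derSub G Ω).Normal := by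
  refine ⟨fun g hg x => ?_⟩
  induction hg using Subgroup.closure_induction with
  | mem g hg =>
    refine Subgroup.subset_closure fun ω h => hg (x⁻¹ • ω) ?_
    rw [mul_smul, mul_smul] at h
    exact eq_inv_smul_iff.2 h
  | one => simp
  | mul g h _ _ ihg ihh =>
    have : x * (g * h) * x⁻¹ = (x * g * x⁻¹) * (x * h * x⁻¹) := by group
    rw [this]; exact mul_mem ihg ihh
  | inv g _ ih =>
    have : x * g⁻¹ * x⁻¹ = (x * g * x⁻¹)⁻¹ := by group
    rw [this]; exact inv_mem ih

theorem burnside (H : Type*) (X : Type*) [Group H] [Fintype H] [Finite X] [MulAction H X] :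
    ∑ h : H, Nat.card (fixedBy X h) = Nat.card (orbitRel.Quotient H X) * Nat.card H := by
  classical
  have := Fintype.ofFinite X
  have := Fintype.ofFinite (orbitRel.Quotient H X)
  simp only [Nat.card_eq_fintype_card]
  exact sum_card_fixedBy_eq_card_orbits_mul_card_group H X

/-- The fundamental count: transitivity, and one fixed point outside. -/
theorem derSub_spec [Nonempty Ω] (htrans : IsPretransitive G Ω) :
    IsPretransitive (derSub G Ω) Ω ∧
      ∀ g : G, g ∉ derSub G Ω → Nat.card (fixedBy Ω g) = 1 := by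
  classical
  have := Fintype.ofFinite G
  set D := derSub G Ω with hD
  have hfix : ∀ g : G, g ∉ D → 1 ≤ Nat.card (fixedBy Ω g) := by
    intro g hg
    by_contra h
    refine hg (Subgroup.subset_closure fun ω hω => h ?_)
    have : Nonempty (fixedBy Ω g) := ⟨⟨ω, hω⟩⟩
    exact Nat.card_pos
  have hG := burnside G Ω
  have hone : Nat.card (orbitRel.Quotient G Ω) = 1 := by
    have := (pretransitive_iff_subsingleton_quotient G Ω).1 htrans
    have : Nonempty (orbitRel.Quotient G Ω) := ⟨Quotient.mk'' (Classical.arbitrary Ω)⟩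
    exact Nat.card_unique
  have hDs : ∑ g ∈ Finset.univ.filter (· ∈ D), Nat.card (fixedBy Ω g) =
      Nat.card (orbitRel.Quotient D Ω) * Nat.card D := by
    rw [← burnside D Ω, Finset.sum_subtype _ (p := (· ∈ D)) (fun g => by simp)]
    rfl
  rw [← Finset.sum_filter_add_sum_filter_not Finset.univ (· ∈ D), hDs, hone, one_mul] at hG
  have hcount : (Finset.univ.filter (· ∈ D)).card + (Finset.univ.filter fun g => g ∉ D).card =
      Nat.card G := by
    rw [Finset.card_filter_add_card_filter_not, Finset.card_univ, Nat.card_eq_fintype_card]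
  have hDc : (Finset.univ.filter (· ∈ D)).card = Nat.card D := by
    rw [Nat.card_eq_fintype_card, Fintype.card_subtype]
  have hle : (Finset.univ.filter fun g => g ∉ D).card ≤
      ∑ g ∈ Finset.univ.filter (fun g => g ∉ D), Nat.card (fixedBy Ω g) := by
    rw [Finset.card_eq_sum_ones]
    exact Finset.sum_le_sum fun g hg => hfix g (Finset.mem_filter.1 hg).2
  have hq : 1 ≤ Nat.card (orbitRel.Quotient D Ω) := by
    have : Nonempty (orbitRel.Quotient D Ω) := ⟨Quotient.mk'' (Classical.arbitrary Ω)⟩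
    exact Nat.card_pos
  have hq1 : Nat.card (orbitRel.Quotient D Ω) = 1 := by
    by_contra h
    have h2 : 2 * Nat.card D ≤ Nat.card (orbitRel.Quotient D Ω) * Nat.card D :=
      Nat.mul_le_mul_right _ (by omega)
    have : 0 < Nat.card D := Nat.card_pos
    omega
  refine ⟨(pretransitive_iff_subsingleton_quotient D Ω).2
    (Nat.card_eq_one_iff_unique.1 hq1).1, fun g hg => ?_⟩
  rw [hq1, one_mul] at hG
  have heq : ∑ g ∈ Finset.univ.filter (fun g => g ∉ D), (1 : ℕ) =
      ∑ g ∈ Finset.univ.filter (fun g => g ∉ D), Nat.card (fixedBy Ω g) := by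
    rw [← Finset.card_eq_sum_ones]; omega
  exact ((Finset.sum_eq_sum_iff_of_le fun g hg => hfix g (Finset.mem_filter.1 hg).2).1 heq g
    (Finset.mem_filter.2 ⟨Finset.mem_univ _, hg⟩)).symm

theorem rank_eq [Nonempty Ω] (htrans : IsPretransitive G Ω) :
    Nat.card (orbitRel.Quotient (derSub G Ω) (Ω × Ω)) - 1 =
      (Nat.card (orbitRel.Quotient G (Ω × Ω)) - 1) * (derSub G Ω).index := by
  classical
  have := Fintype.ofFinite G
  obtain ⟨-, hout⟩ := derSub_spec htrans
  set D := derSub G Ω with hD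
  have hG := burnside G (Ω × Ω)
  have hDs : ∑ g ∈ Finset.univ.filter (· ∈ D), Nat.card (fixedBy (Ω × Ω) g) =
      Nat.card (orbitRel.Quotient D (Ω × Ω)) * Nat.card D := by
    rw [← burnside D (Ω × Ω), Finset.sum_subtype _ (p := (· ∈ D)) (fun g => by simp)]
    rfl
  have hsq : ∀ g : G, Nat.card (fixedBy (Ω × Ω) g) =
      Nat.card (fixedBy Ω g) * Nat.card (fixedBy Ω g) := by
    intro g
    rw [← Nat.card_prod]
    refine Nat.card_congr
      { toFun := fun z => (⟨z.1.1, congrArg Prod.fst z.2⟩, ⟨z.1.2, congrArg Prod.snd z.2⟩)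
        invFun := fun z => ⟨(z.1.1, z.2.1), Prod.ext z.1.2 z.2.2⟩
        left_inv := fun z => rfl
        right_inv := fun z => rfl }
  have hns : ∑ g ∈ Finset.univ.filter (fun g => g ∉ D), Nat.card (fixedBy (Ω × Ω) g) =
      (Finset.univ.filter fun g => g ∉ D).card := by
    rw [Finset.card_eq_sum_ones]
    exact Finset.sum_congr rfl fun g hg => by rw [hsq, hout g (Finset.mem_filter.1 hg).2]
  rw [← Finset.sum_filter_add_sum_filter_not Finset.univ (· ∈ D), hDs, hns,
    ← D.card_mul_index] at hG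
  have hcount : (Finset.univ.filter (· ∈ D)).card + (Finset.univ.filter fun g => g ∉ D).card =
      Nat.card D * D.index := by
    rw [Finset.card_filter_add_card_filter_not, Finset.card_univ, ← Nat.card_eq_fintype_card,
      D.card_mul_index]
  have hDc : (Finset.univ.filter (· ∈ D)).card = Nat.card D := by
    rw [Nat.card_eq_fintype_card, Fintype.card_subtype]
  rw [hDc] at hcount
  obtain ⟨s, hs⟩ : ∃ s, Nat.card (orbitRel.Quotient G (Ω × Ω)) = s + 1 := by
    have : Nonempty (orbitRel.Quotient G (Ω × Ω)) :=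
      ⟨Quotient.mk'' (Classical.arbitrary Ω, Classical.arbitrary Ω)⟩
    exact Nat.exists_eq_succ_of_ne_zero Nat.card_pos.ne'
  obtain ⟨t, ht⟩ : ∃ t, Nat.card (orbitRel.Quotient D (Ω × Ω)) = t + 1 := by
    have : Nonempty (orbitRel.Quotient D (Ω × Ω)) :=
      ⟨Quotient.mk'' (Classical.arbitrary Ω, Classical.arbitrary Ω)⟩
    exact Nat.exists_eq_succ_of_ne_zero Nat.card_pos.ne'
  rw [ht, hs] at hG ⊢
  simp only [Nat.add_sub_cancel]
  refine Nat.eq_of_mul_eq_mul_right (Nat.card_pos (α := D)) ?_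
  nlinarith

/-- A stabilizer-invariant set avoiding the point has size divisible by the index. -/
theorem index_dvd_of_invariant (htrans : IsPretransitive G Ω) (a : Ω) (s : Set Ω)
    (ha : a ∉ s) (hinv : ∀ g ∈ stabilizer G a, ∀ y ∈ s, g • y ∈ s) :
    (derSub G Ω).index ∣ s.ncard := by
  have : Nonempty Ω := ⟨a⟩
  obtain ⟨hDt, hout⟩ := derSub_spec htrans
  have hidx : ((derSub G Ω).subgroupOf (stabilizer G a)).index = (derSub G Ω).index := by
    have := derSub_normal (G := G) (Ω := Ω)
    have hsup : derSub G Ω ⊔ stabilizer G a = ⊤ := Cfsg.Agent.Perm.sup_stabilizer_eq_top hDt a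
    have h := Subgroup.relIndex_sup_right (K := derSub G Ω) (H := stabilizer G a)
    rw [sup_comm, hsup, Subgroup.relIndex_top_right] at h
    exact h.symm
  rw [← hidx]
  refine Cfsg.Agent.H33.dvd_card_of_orbits (G := stabilizer G a) s (Set.toFinite _)
    (fun g y hy => hinv g g.2 y hy) fun y hy => ?_
  rw [← index_stabilizer]
  refine Subgroup.index_dvd_of_le fun g hg => ?_
  rw [Subgroup.mem_subgroupOf]
  by_contra hgD
  have h1 : Subsingleton (fixedBy Ω (g : G)) := (Nat.card_eq_one_iff_unique.1 (hout g hgD)).1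
  have e : a = y := congrArg Subtype.val (h1.elim (⟨a, g.2⟩ : fixedBy Ω (g : G)) ⟨y, hg⟩)
  exact ha (by rw [e]; exact hy)

theorem index_dvd_sub_one (htrans : IsPretransitive G Ω) (a : Ω) :
    (derSub G Ω).index ∣ Nat.card Ω - 1 := by
  have := index_dvd_of_invariant htrans a ({a}ᶜ : Set Ω) (by simp) (fun g hg y hy h => hy (by
    rw [Set.mem_singleton_iff] at h ⊢
    exact smul_left_cancel g (h.trans (mem_stabilizer_iff.1 hg).symm)))
  rwa [Set.ncard_compl, Set.ncard_singleton] at this

theorem isPrimePow_of_index_eq [FaithfulSMul G Ω] (htrans : IsPretransitive G Ω)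
    (hΩ : 2 ≤ Nat.card Ω) (hm : (derSub G Ω).index = Nat.card Ω - 1) : IsPrimePow (Nat.card Ω) := by
  classical
  have : Nontrivial Ω := Finite.one_lt_card_iff_nontrivial.1 hΩ
  obtain ⟨a, b, hab⟩ := exists_pair_ne Ω
  set D := derSub G Ω with hD
  have := derSub_normal (G := G) (Ω := Ω)
  obtain ⟨hDt, hout⟩ := derSub_spec htrans
  have hidx : (D.subgroupOf (stabilizer G a)).index = D.index := by
    have hsup : D ⊔ stabilizer G a = ⊤ := Cfsg.Agent.Perm.sup_stabilizer_eq_top hDt a
    have h := Subgroup.relIndex_sup_right (K := D) (H := stabilizer G a)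
    rw [sup_comm, hsup, Subgroup.relIndex_top_right] at h
    exact h.symm
  have key : ∀ y : Ω, y ≠ a → orbit (stabilizer G a) y = {a}ᶜ ∧
      stabilizer (stabilizer G a) y = D.subgroupOf (stabilizer G a) := by
    intro y hy
    have hle : stabilizer (stabilizer G a) y ≤ D.subgroupOf (stabilizer G a) := by
      intro g hg
      rw [Subgroup.mem_subgroupOf]
      by_contra hgD
      have h1 : Subsingleton (fixedBy Ω (g : G)) := (Nat.card_eq_one_iff_unique.1 (hout g hgD)).1
      exact hy (congrArg Subtype.val (h1.elim (⟨a, g.2⟩ : fixedBy Ω (g : G)) ⟨y, hg⟩)).symm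
    have hsub : orbit (stabilizer G a) y ⊆ {a}ᶜ := by
      rintro z ⟨g, rfl⟩ (h : g • y = a)
      exact hy (smul_left_cancel g (h.trans (mem_stabilizer_iff.1 g.2).symm))
    have h1 : (orbit (stabilizer G a) y).ncard ≤ D.index := by
      rw [hm, ← Set.ncard_singleton a, ← Set.ncard_compl]
      exact Set.ncard_le_ncard hsub (Set.toFinite _)
    have h2 := Subgroup.index_dvd_of_le hle
    rw [hidx, index_stabilizer] at h2
    have h3 : (orbit (stabilizer G a) y).ncard = D.index :=
      le_antisymm h1 (Nat.le_of_dvd ((Set.ncard_pos (Set.toFinite _)).2 ⟨y, mem_orbit_self y⟩) h2)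
    refine ⟨Set.eq_of_subset_of_ncard_le hsub (by rw [h3, hm, Set.ncard_compl, Set.ncard_singleton])
      (Set.toFinite _), ?_⟩
    refine le_antisymm hle ?_
    refine (Subgroup.relIndex_eq_one.1 ?_)
    have h4 := Subgroup.relIndex_mul_index hle
    rw [hidx, index_stabilizer, h3] at h4
    exact Nat.eq_of_mul_eq_mul_right (Nat.pos_of_ne_zero Subgroup.index_ne_zero_of_finite)
      (by rw [h4, one_mul])
  have hfree : ∀ n ∈ D, n • a = a → n = 1 := by
    intro n hn hna
    refine FaithfulSMul.eq_of_smul_eq_smul fun y : Ω => ?_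
    rw [one_smul]
    rcases eq_or_ne y a with rfl | hy
    · exact hna
    · have hmem : (⟨n, hna⟩ : stabilizer G a) ∈ stabilizer (stabilizer G a) y := by
        rw [(key y hy).2]; exact hn
      exact hmem
  have hfree' : ∀ x : Ω, stabilizer D x = ⊥ := Cfsg.Agent.Perm.free_of_stabilizer_eq_bot hDt (a := a)
    ((Subgroup.eq_bot_iff_forall _).2 fun n hn => Subtype.ext (hfree n n.2 hn))
  have hconj : ∀ m ∈ D, ∀ n ∈ D, m ≠ 1 → n ≠ 1 → ∃ g : G, g * m * g⁻¹ = n := by
    intro m hm n hn hm1 hn1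
    have hma : m • a ≠ a := fun h => hm1 (hfree m hm h)
    have hna : n • a ≠ a := fun h => hn1 (hfree n hn h)
    have h1 : n • a ∈ orbit (stabilizer G a) (m • a) := by rw [(key _ hma).1]; exact hna
    obtain ⟨g, hg⟩ := h1
    refine ⟨g, Cfsg.Agent.Perm.eq_of_smul_eq_of_free hfree'
      (‹D.Normal›.conj_mem m hm g) hn a ?_⟩
    rw [← hg]
    show ((g : G) * m * (g : G)⁻¹) • a = (g : G) • m • a
    rw [mul_smul, mul_smul, mem_stabilizer_iff.1 (inv_mem g.2)]
  obtain ⟨-, p, hp, hexp⟩ := Cfsg.Agent.Perm.elementary_of_conj hconj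
  obtain ⟨k, hk⟩ := Cfsg.Agent.Perm.card_prime_pow_of_exp hp hexp
  rw [Cfsg.Agent.Perm.card_eq_of_regular hDt hfree' a] at hk
  refine (isPrimePow_nat_iff _).2 ⟨p, k, hp, Nat.pos_of_ne_zero fun h => ?_, hk.symm⟩
  rw [h, pow_zero] at hk
  omega

theorem index_le_sqrt (htrans : IsPretransitive G Ω) (himp : ¬ IsPreprimitive G Ω) :
    ((derSub G Ω).index : ℝ) ≤ Real.sqrt (Nat.card Ω) - 1 := by
  classical
  have hB : ∃ B : Set Ω, IsBlock G B ∧ ¬ IsTrivialBlock B := by
    by_contra h
    push Not at h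
    exact himp ⟨fun {B} hB => h B hB⟩
  obtain ⟨B, hB, hBt⟩ := hB
  obtain ⟨h1, h2⟩ := not_or.1 hBt
  obtain ⟨a, ha, b, hb, hab⟩ : ∃ a ∈ B, ∃ b ∈ B, a ≠ b := by
    by_contra h
    push Not at h
    exact h1 fun x hx y hy => h x hx y hy
  set m := (derSub G Ω).index with hm
  have hm1 : m ∣ B.ncard - 1 := by
    have h := index_dvd_of_invariant htrans a (B \ {a}) (by simp) (fun g hg y hy => by
      have hga : g • a = a := hg
      have hgB : g • B = B := isBlock_iff_smul_eq_of_nonempty.1 hB
        (g := g) ⟨a, ⟨a, ha, hga⟩, ha⟩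
      refine ⟨by rw [← hgB]; exact Set.smul_mem_smul_set hy.1, fun h => hy.2 ?_⟩
      rw [Set.mem_singleton_iff] at h ⊢
      exact smul_left_cancel g (h.trans hga.symm))
    rwa [Set.ncard_sdiff_singleton_of_mem ha] at h
  have hc := hB.ncard_block_mul_ncard_orbit_eq ⟨a, ha⟩
  set c := (orbit G B).ncard with hcdef
  have hmn : m ∣ Nat.card Ω - 1 := index_dvd_sub_one htrans a
  have hb2 : 2 ≤ B.ncard := (Set.one_lt_ncard (Set.toFinite _)).2 ⟨a, ha, b, hb, hab⟩
  have hc2 : 2 ≤ c := by
    by_contra h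
    have : B.ncard = Nat.card Ω := by
      rcases Nat.lt_or_ge c 1 with h0 | h0
      · rw [show c = 0 by omega, mul_zero] at hc
        have : Nonempty Ω := ⟨a⟩
        have : 0 < Nat.card Ω := Nat.card_pos
        omega
      · rw [show c = 1 by omega, mul_one] at hc; exact hc
    exact h2 (Set.eq_of_subset_of_ncard_le (Set.subset_univ B) (by rw [Set.ncard_univ, this]) (Set.toFinite _))
  have hm2 : m ∣ c - 1 := by
    have h : Nat.card Ω - 1 = c * (B.ncard - 1) + (c - 1) := by
      rw [← hc, Nat.mul_sub, mul_comm c B.ncard, mul_one]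
      have : c ≤ B.ncard * c := Nat.le_mul_of_pos_left _ (by omega)
      omega
    rw [h] at hmn
    exact (Nat.dvd_add_right (hm1.mul_left c)).1 hmn
  have h3 := Nat.le_of_dvd (by omega) hm1
  have h4 := Nat.le_of_dvd (by omega) hm2
  have h5 : (m + 1) * (m + 1) ≤ Nat.card Ω := by
    rw [← hc]; exact Nat.mul_le_mul (by omega) (by omega)
  rw [le_sub_iff_add_le]
  apply Real.le_sqrt_of_sq_le
  rw [pow_two]
  exact_mod_cast h5

end Cfsg.Agent.H68
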