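import Mathlib

/-!
Minimal normal subgroups: a non-abelian one is the product of a simple factor and the join of the
other conjugates of that factor, commuting with it and meeting it trivially.
-/

namespace Cfsg.Agent.H68

variable {G : Type*} [Group G]

/-- `g T g⁻¹`. -/
def cj (g : G) (T : Subgroup G) : Subgroup G := T.map (MulAut.conj g).toMonoidHom

theorem mem_cj {g x : G} {T : Subgroup G} : x ∈ cj g T ↔ g⁻¹ * x * g ∈ T := by
  constructor
  · rintro ⟨y, hy, rfl⟩
    simpa [mul_assoc] using hy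
  · intro h
    exact ⟨_, h, by simp [mul_assoc]⟩

theorem cj_mul (g h : G) (T : Subgroup G) : cj (g * h) T = cj g (cj h T) := by
  ext x
  simp [mem_cj, mul_assoc]

theorem cj_eq_self_of_mem_normalizer {g : G} {T : Subgroup G}
    (h : g ∈ Subgroup.normalizer (T : Set G)) : cj g T = T := by
  ext x
  have h' := (Subgroup.mem_normalizer_iff.mp (inv_mem h) x)
  rw [inv_inv] at h'
  rw [mem_cj]
  exact h'.symm

theorem le_cj_of_forall {g : G} {T : Subgroup G} (h : ∀ x ∈ T, g * x * g⁻¹ ∈ T) [Finite G] :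
    cj g T = T := by
  have hle : cj g T ≤ T := by
    rintro x ⟨y, hy, rfl⟩
    simpa using h y hy
  refine Subgroup.eq_of_le_of_card_ge hle (le_of_eq ?_)
  exact Nat.card_congr (Subgroup.equivMapOfInjective _ _ (MulEquiv.injective _)).toEquiv

/-- The join of the conjugates of `T` other than `T`. -/
def others (T : Subgroup G) : Subgroup G := ⨆ g : {g : G // cj g T ≠ T}, cj g.1 T

theorem cj_le_others {T : Subgroup G} {g : G} (h : cj g T ≠ T) : cj g T ≤ others T :=
  le_iSup (fun g : {g : G // cj g T ≠ T} => cj g.1 T) ⟨g, h⟩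

/-- `T` is a simple direct factor of the minimal normal subgroup `N`. -/
structure IsFactor (N T : Subgroup G) : Prop where
  le : T ≤ N
  ne_bot : T ≠ ⊥
  normalized : ∀ n ∈ N, ∀ t ∈ T, n * t * n⁻¹ ∈ T
  minimal : ∀ U : Subgroup G, U ≤ T → U ≠ ⊥ → (∀ n ∈ N, ∀ u ∈ U, n * u * n⁻¹ ∈ U) → U = T
  others_le : others T ≤ N
  others_normalized : ∀ n ∈ N, ∀ u ∈ others T, n * u * n⁻¹ ∈ others T
  comm : ∀ t ∈ T, ∀ u ∈ others T, t * u = u * t
  inf_others : T ⊓ others T = ⊥
  exists_mul : ∀ n ∈ N, ∃ t ∈ T, ∃ u ∈ others T, n = t * u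
  simple : IsSimpleGroup T
  noncomm : ¬ IsMulCommutative T

namespace IsFactor

variable {N T : Subgroup G}

theorem eq_one_of_mem (hF : IsFactor N T) {x : G} (h1 : x ∈ T) (h2 : x ∈ others T) : x = 1 :=
  Subgroup.mem_bot.mp (hF.inf_others ▸ ⟨h1, h2⟩)

/-- The decomposition `t * u` is unique. -/
theorem mul_inj (hF : IsFactor N T) {t t' u u' : G} (ht : t ∈ T) (ht' : t' ∈ T)
    (hu : u ∈ others T) (hu' : u' ∈ others T) (h : t * u = t' * u') : t = t' ∧ u = u' := by
  have h1 : t'⁻¹ * t = u' * u⁻¹ := by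
    calc t'⁻¹ * t = t'⁻¹ * (t * u) * u⁻¹ := by group
      _ = u' * u⁻¹ := by rw [h]; group
  have h2 := hF.eq_one_of_mem (mul_mem (inv_mem ht') ht)
    (h1 ▸ mul_mem hu' (inv_mem hu))
  have h3 : t = t' := (inv_mul_eq_one.mp h2).symm
  exact ⟨h3, by subst h3; exact mul_left_cancel h⟩

theorem others_eq_bot_iff [Finite G] (hF : IsFactor N T) : others T = ⊥ ↔ T = N := by
  constructor
  · intro h
    refine le_antisymm hF.le fun n hn => ?_
    obtain ⟨t, ht, u, hu, rfl⟩ := hF.exists_mul n hn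
    rw [h, Subgroup.mem_bot] at hu
    simpa [hu] using ht
  · intro h
    rw [eq_bot_iff]
    refine hF.inf_others ▸ le_inf ?_ le_rfl
    exact hF.others_le.trans h.ge

theorem exists_cj_ne [Finite G] (hF : IsFactor N T) (h : T ≠ N) : ∃ g : G, cj g T ≠ T := by
  by_contra hc
  push Not at hc
  refine h ((hF.others_eq_bot_iff).mp (le_bot_iff.mp (iSup_le fun g => ?_)))
  exact absurd (hc g.1) g.2

theorem center_eq_bot (hF : IsFactor N T) {x : G} (hx : x ∈ T)
    (h : ∀ t ∈ T, t * x = x * t) : x = 1 := by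
  have := hF.simple
  rcases (Subgroup.center T).normal_of_characteristic.eq_bot_or_eq_top with hc | hc
  · have : (⟨x, hx⟩ : T) ∈ Subgroup.center T :=
      Subgroup.mem_center_iff.mpr fun t => Subtype.ext (h t t.2)
    rw [hc, Subgroup.mem_bot] at this
    exact congrArg Subtype.val this
  · refine absurd ?_ hF.noncomm
    constructor
    constructor
    intro a b
    have : b ∈ Subgroup.center T := hc ▸ Subgroup.mem_top b
    exact Subgroup.mem_center_iff.mp this a

end IsFactor

/-- A non-abelian minimal normal subgroup of a finite group has a simple factor. -/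
theorem exists_factor [Finite G] (N : Subgroup G) [hN : N.Normal] (hN1 : N ≠ ⊥)
    (hmin : ∀ M : Subgroup G, M.Normal → M ≤ N → M = ⊥ ∨ M = N)
    (hnc : ¬ IsMulCommutative N) : ∃ T : Subgroup G, IsFactor N T := by
  obtain ⟨T, -, hT⟩ := Finite.exists_le_minimal
    (p := fun U : Subgroup G => U ≤ N ∧ U ≠ ⊥ ∧ ∀ n ∈ N, ∀ t ∈ U, n * t * n⁻¹ ∈ U)
    (a := N) ⟨le_rfl, hN1, fun n hn t ht => mul_mem (mul_mem hn ht) (inv_mem hn)⟩
  obtain ⟨hTN, hT1, hTn⟩ := hT.prop
  have hTmin : ∀ U : Subgroup G, U ≤ T → U ≠ ⊥ → (∀ n ∈ N, ∀ u ∈ U, n * u * n⁻¹ ∈ U) → U = T :=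
    fun U hU hU1 hUn => le_antisymm hU (hT.le_of_le ⟨hU.trans hTN, hU1, hUn⟩ hU)
  have cN : ∀ g, cj g T ≤ N := by
    intro g x hx
    have := hN.conj_mem _ (hTN (mem_cj.mp hx)) g
    simpa [mul_assoc] using this
  have cn : ∀ g, ∀ n ∈ N, ∀ x ∈ cj g T, n * x * n⁻¹ ∈ cj g T := by
    intro g n hn x hx
    rw [mem_cj]
    have h1 : g⁻¹ * n * g ∈ N := by simpa using hN.conj_mem n hn g⁻¹
    simpa [mul_assoc] using hTn _ h1 _ (mem_cj.mp hx)
  have ctriv : ∀ g, cj g T ≠ T → T ⊓ cj g T = ⊥ := by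
    intro g hg
    by_contra h
    have hle : T ≤ cj g T := by
      have := hTmin _ inf_le_left h fun n hn x hx => ⟨hTn n hn x hx.1, cn g n hn x hx.2⟩
      exact this.ge.trans inf_le_right
    refine hg (Subgroup.eq_of_le_of_card_ge hle (le_of_eq ?_)).symm
    exact (Nat.card_congr (Subgroup.equivMapOfInjective _ _ (MulEquiv.injective _)).toEquiv).symm
  have comm : ∀ g, cj g T ≠ T → ∀ t ∈ T, ∀ x ∈ cj g T, t * x = x * t := by
    intro g hg t ht x hx
    have h : t * x * t⁻¹ * x⁻¹ ∈ T ⊓ cj g T := by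
      refine ⟨?_, ?_⟩
      · have := hTn x (cN g hx) _ (inv_mem ht)
        simpa [mul_assoc] using mul_mem ht this
      · exact (cj g T).mul_mem (cn g t (hTN ht) x hx) ((cj g T).inv_mem hx)
    rw [ctriv g hg, Subgroup.mem_bot] at h
    calc t * x = t * x * t⁻¹ * t := by group
      _ = x * t := by rw [mul_inv_eq_one.mp h]
  have hoN : others T ≤ N := iSup_le fun g => cN g.1
  have hon : ∀ n ∈ N, ∀ u ∈ others T, n * u * n⁻¹ ∈ others T := by
    intro n hn
    have : others T ≤ (others T).comap (MulAut.conj n).toMonoidHom := iSup_le fun g x hx =>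
      cj_le_others g.2 (cn g.1 n hn x hx)
    intro u hu
    have h2 := this hu
    rw [Subgroup.mem_comap] at h2
    simpa using h2
  have hcomm : ∀ t ∈ T, ∀ u ∈ others T, t * u = u * t := by
    intro t ht
    have : others T ≤ Subgroup.centralizer ({t} : Set G) := iSup_le fun g x hx => by
      rw [Subgroup.mem_centralizer_singleton_iff]
      exact (comm g.1 g.2 t ht x hx).symm
    intro x hx
    exact (Subgroup.mem_centralizer_singleton_iff.mp (this hx)).symm
  -- the conjugates of `T` generate `N`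
  have hJ : (⨆ g : G, cj g T) = N := by
    have hnormal : (⨆ g : G, cj g T).Normal := by
      refine ⟨fun x hx h => ?_⟩
      have hle : (⨆ g : G, cj g T) ≤ Subgroup.comap (MulAut.conj h).toMonoidHom
          (⨆ g : G, cj g T) := by
        refine iSup_le fun g y hy => ?_
        rw [Subgroup.mem_comap]
        refine Subgroup.mem_iSup_of_mem (h * g) ?_
        rw [mem_cj] at hy ⊢
        simpa [mul_assoc] using hy
      have h2 := hle hx
      rw [Subgroup.mem_comap] at h2
      simpa using h2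
    refine (hmin _ hnormal (iSup_le cN)).resolve_left fun h => hT1 ?_
    refine le_bot_iff.mp (le_trans ?_ h.le)
    refine le_iSup_of_le (1 : G) ?_
    intro x hx
    rw [mem_cj]
    simpa using hx
  have hmul : ∀ n ∈ N, ∃ t ∈ T, ∃ u ∈ others T, n = t * u := by
    intro n hn
    have hle : N ≤ T ⊔ others T := by
      rw [← hJ]
      refine iSup_le fun g => ?_
      by_cases hg : cj g T = T
      · rw [hg]; exact le_sup_left
      · exact (cj_le_others hg).trans le_sup_right
    have hnorm : T ≤ Subgroup.normalizer (others T : Set G) := fun t ht => by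
      rw [Subgroup.mem_normalizer_iff]
      refine fun x => ⟨hon t (hTN ht) x, fun hx => ?_⟩
      simpa [mul_assoc] using hon t⁻¹ (inv_mem (hTN ht)) _ hx
    have h' : n ∈ T ⊔ others T := hle hn
    rw [← SetLike.mem_coe, Subgroup.coe_mul_of_left_le_normalizer_right _ _ hnorm] at h'
    obtain ⟨t, ht, u, hu, rfl⟩ := h'
    exact ⟨t, ht, u, hu, rfl⟩
  have hnotcomm : ¬ IsMulCommutative T := by
    intro hab
    have habT : ∀ t ∈ T, ∀ x ∈ T, t * x = x * t := fun t ht x hx =>
      congrArg Subtype.val (hab.is_comm.comm ⟨t, ht⟩ ⟨x, hx⟩)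
    have hall : ∀ n ∈ N, ∀ t ∈ T, t * n = n * t := by
      intro n hn t ht
      obtain ⟨s, hs, x, hx, rfl⟩ := hmul n hn
      rw [← mul_assoc, habT t ht s hs, mul_assoc, hcomm t ht x hx, mul_assoc]
    apply hnc
    refine ⟨⟨fun a b => Subtype.ext ?_⟩⟩
    have hle : N ≤ Subgroup.centralizer ({(a : G)} : Set G) := by
      refine hJ.ge.trans (iSup_le fun g x hx => ?_)
      rw [Subgroup.mem_centralizer_singleton_iff]
      have h1 : g⁻¹ * (a : G) * g ∈ N := by simpa using hN.conj_mem _ a.2 g⁻¹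
      have h3 := congrArg (fun y => g * y * g⁻¹) (hall _ h1 _ (mem_cj.mp hx))
      simpa [mul_assoc] using h3
    exact (Subgroup.mem_centralizer_singleton_iff.mp (hle b.2)).symm
  have hcenter : T ⊓ Subgroup.centralizer (T : Set G) = ⊥ := by
    by_contra h
    have hle : T ⊓ Subgroup.centralizer (T : Set G) = T := by
      refine hTmin _ inf_le_left h fun n hn x hx => ⟨hTn n hn x hx.1, fun t ht => ?_⟩
      have h2 := Subgroup.mem_centralizer_iff.mp hx.2 _ (hTn n⁻¹ (inv_mem hn) t ht)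
      calc t * (n * x * n⁻¹) = n * ((n⁻¹ * t * n⁻¹⁻¹) * x) * n⁻¹ := by group
        _ = n * x * n⁻¹ * t := by rw [h2]; group
    refine hnotcomm ⟨⟨fun a b => Subtype.ext ?_⟩⟩
    have ha : (a : G) ∈ T ⊓ Subgroup.centralizer (T : Set G) := hle.symm ▸ a.2
    exact (Subgroup.mem_centralizer_iff.mp ha.2 b b.2).symm
  have hinf : T ⊓ others T = ⊥ := by
    rw [eq_bot_iff]
    rintro x ⟨hx1, hx2⟩
    have : x ∈ T ⊓ Subgroup.centralizer (T : Set G) := ⟨hx1, fun t ht => hcomm t ht x hx2⟩
    rwa [hcenter] at this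
  have hsimple : IsSimpleGroup T := by
    have : Nontrivial T := (Subgroup.nontrivial_iff_ne_bot T).mpr hT1
    refine ⟨fun K hK => ?_⟩
    by_cases hK1 : K = ⊥
    · exact Or.inl hK1
    right
    have h1 : K.map T.subtype = T := by
      refine hTmin _ (Subgroup.map_subtype_le K) ?_ ?_
      · rwa [Ne, Subgroup.map_eq_bot_iff_of_injective _ T.subtype_injective]
      · rintro n hn _ ⟨k, hk, rfl⟩
        obtain ⟨s, hs, u, hu, rfl⟩ := hmul n hn
        refine ⟨⟨s, hs⟩ * k * ⟨s, hs⟩⁻¹, hK.conj_mem k hk _, ?_⟩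
        have h2 : u * (k : G) * u⁻¹ = k := by rw [← hcomm k k.2 u hu]; group
        simp only [map_mul, map_inv, Subgroup.coe_subtype, mul_inv_rev]
        calc s * (k : G) * s⁻¹ = s * (u * k * u⁻¹) * s⁻¹ := by rw [h2]
          _ = s * u * k * (u⁻¹ * s⁻¹) := by group
    apply Subgroup.map_injective T.subtype_injective
    rw [h1, ← MonoidHom.range_eq_map, Subgroup.range_subtype]
  exact ⟨T, hTN, hT1, hTn, hTmin, hoN, hon, hcomm, hinf, hmul, hsimple, hnotcomm⟩

end Cfsg.Agent.H68
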