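/-
Closures of affine groups: extending maps of few points to affine maps.
-/
import Mathlib

set_option autoImplicit false

namespace Cfsg.Agent.H68

theorem exists_equiv_of_indep {K V : Type*} [Field K] [AddCommGroup V] [Module K V]
    [FiniteDimensional K V] {ι : Type*} [Finite ι] (u u' : ι → V) (hu : LinearIndependent K u)
    (hu' : LinearIndependent K u') : ∃ g : V ≃ₗ[K] V, ∀ i, g (u i) = u' i := by
  let b := Module.Basis.span hu
  let b' := Module.Basis.span hu'
  obtain ⟨g, hg⟩ := Submodule.exists_linearEquiv_restrict_eq (b.equiv b' (Equiv.refl ι))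
  refine ⟨g, fun i => ?_⟩
  have h := hg (b i)
  rw [Module.Basis.equiv_apply, Equiv.refl_apply] at h
  simpa [b, b', Module.Basis.span_apply] using h.symm

theorem exists_equiv_single {K V : Type*} [Field K] [AddCommGroup V] [Module K V]
    [FiniteDimensional K V] {u u' : V} (hu : u ≠ 0) (hu' : u' ≠ 0) :
    ∃ g : V ≃ₗ[K] V, g u = u' := by
  obtain ⟨g, hg⟩ := exists_equiv_of_indep (K := K) (fun _ : Fin 1 => u) (fun _ => u')
    (linearIndependent_unique_iff.2 hu) (linearIndependent_unique_iff.2 hu')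
  exact ⟨g, hg 0⟩

theorem indep_pair_two {V : Type*} [AddCommGroup V] [Module (ZMod 2) V] {u v : V} (hu : u ≠ 0)
    (hv : v ≠ 0) (huv : u ≠ v) : LinearIndependent (ZMod 2) ![u, v] := by
  rw [LinearIndependent.pair_iff]
  intro s t h
  have hadd : ∀ x : V, x + x = 0 := fun x => by
    rw [← two_smul (ZMod 2) x, show (2 : ZMod 2) = 0 from rfl, zero_smul]
  have cases : ∀ z : ZMod 2, z = 0 ∨ z = 1 := by decide
  rcases cases s with rfl | rfl <;> rcases cases t with rfl | rfl
  · exact ⟨rfl, rfl⟩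
  · simp at h; exact absurd h hv
  · simp at h; exact absurd h hu
  · simp at h
    exact absurd (eq_of_sub_eq_zero (a := u) (b := v) (by
      rw [sub_eq_add_neg, neg_eq_of_add_eq_zero_left (hadd v), h])) huv

/-- A permutation agreeing on every triple with an affine map respects affine combinations. -/
theorem affine_combination {K V : Type*} [Field K] [AddCommGroup V] [Module K V]
    (G : Set (Equiv.Perm V))
    (haff : G ⊆ {τ : Equiv.Perm V | ∃ (A : V ≃ₗ[K] V) (b : V), ∀ x, τ x = A x + b})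
    (σ : Equiv.Perm V) (hσ : ∀ t : Fin 3 → V, ∃ g ∈ G, ∀ i, σ (t i) = g (t i))
    (a b : V) (c : K) : σ (a + c • (b - a)) = σ a + c • (σ b - σ a) := by
  obtain ⟨g, hg, hgt⟩ := hσ ![a, b, a + c • (b - a)]
  obtain ⟨A, w, hA⟩ := haff hg
  have h0 : σ a = g a := hgt 0
  have h1 : σ b = g b := hgt 1
  have h2 : σ (a + c • (b - a)) = g (a + c • (b - a)) := hgt 2
  rw [h0, h1, h2, hA, hA, hA, map_add, map_smul, map_sub, add_sub_add_right_eq_sub]
  abel

theorem exists_det_fixing {K V : Type*} [Field K] [AddCommGroup V] [Module K V]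
    [FiniteDimensional K V] (U : Submodule K V) (hU : U < ⊤) (c : K) (hc : c ≠ 0) :
    ∃ D : V ≃ₗ[K] V, LinearMap.det (D : V →ₗ[K] V) = c ∧ ∀ x ∈ U, D x = x := by
  obtain ⟨f, hf0, hf⟩ := U.exists_le_ker_of_lt_top hU
  obtain ⟨w, hw⟩ : ∃ w, f w ≠ 0 := by
    by_contra h
    push Not at h
    exact hf0 (LinearMap.ext h)
  let v : V := ((c - 1) * (f w)⁻¹) • w
  have hdet : LinearMap.det (LinearMap.transvection f v) = c := by
    rw [LinearMap.transvection.det, map_smul, smul_eq_mul, mul_assoc, inv_mul_cancel₀ hw]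
    ring
  refine ⟨LinearMap.equivOfIsUnitDet (f := LinearMap.transvection f v)
    (by rw [hdet]; exact isUnit_iff_ne_zero.2 hc), ?_, fun x hx => ?_⟩
  · rw [LinearMap.coe_equivOfIsUnitDet, hdet]
  · rw [← LinearEquiv.coe_toLinearMap, LinearMap.coe_equivOfIsUnitDet, LinearMap.transvection.apply,
      LinearMap.mem_ker.1 (hf hx), zero_smul, add_zero]

end Cfsg.Agent.H68
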