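/-
The affine group `F² ⋊ SL(2,F)` over the field with four elements: element orders.
-/
import Mathlib
import Cfsg.Agent.H55.AltOrders

set_option autoImplicit false

namespace Cfsg.Agent.H68.AffFour

open Matrix Polynomial

variable {F : Type*} [Field F]

/-- Special matrices with last row `(0,0,1)`. -/
abbrev affSet (F : Type*) [Field F] : Set (SpecialLinearGroup (Fin 3) F) :=
  {M : SpecialLinearGroup (Fin 3) F |
    (M : Matrix (Fin 3) (Fin 3) F) 2 0 = 0 ∧ (M : Matrix (Fin 3) (Fin 3) F) 2 1 = 0 ∧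
      (M : Matrix (Fin 3) (Fin 3) F) 2 2 = 1}

theorem mem_affSet_iff (M : SpecialLinearGroup (Fin 3) F) :
    M ∈ affSet F ↔ Matrix.vecMul (Pi.single 2 1) (M : Matrix (Fin 3) (Fin 3) F) = Pi.single 2 1 := by
  constructor
  · rintro ⟨h0, h1, h2⟩
    funext j
    fin_cases j <;> simp [h0, h1, h2]
  · intro h
    exact ⟨by simpa using congrFun h 0, by simpa using congrFun h 1, by simpa using congrFun h 2⟩

theorem closure_affSet {M : SpecialLinearGroup (Fin 3) F}
    (h : M ∈ Subgroup.closure (affSet F)) : M ∈ affSet F := by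
  induction h using Subgroup.closure_induction with
  | mem x hx => exact hx
  | one => rw [mem_affSet_iff]; simp
  | mul x y _ _ hx hy =>
    rw [mem_affSet_iff] at hx hy ⊢
    show Matrix.vecMul _ ((x : Matrix (Fin 3) (Fin 3) F) * (y : Matrix (Fin 3) (Fin 3) F)) = _
    rw [← vecMul_vecMul, hx, hy]
  | inv x _ hx =>
    rw [mem_affSet_iff] at hx ⊢
    have e : (x : Matrix (Fin 3) (Fin 3) F) *
        ((x⁻¹ : SpecialLinearGroup (Fin 3) F) : Matrix (Fin 3) (Fin 3) F) = 1 :=
      congrArg Subtype.val (mul_inv_cancel x)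
    conv_lhs => rw [← hx]
    rw [vecMul_vecMul, e, vecMul_one]

theorem mem_closure_iff {M : SpecialLinearGroup (Fin 3) F} :
    M ∈ Subgroup.closure (affSet F) ↔ M ∈ affSet F :=
  ⟨closure_affSet, fun h => Subgroup.subset_closure h⟩

/-- A matrix with last row `(0,0,1)` and determinant one kills an explicit cubic. -/
theorem cubic (M : SpecialLinearGroup (Fin 3) F) (h : M ∈ affSet F) :
    aeval (M : Matrix (Fin 3) (Fin 3) F)
      ((X - 1) * (X ^ 2 - C ((M : Matrix (Fin 3) (Fin 3) F) 0 0 + (M : Matrix (Fin 3) (Fin 3) F) 1 1) * X + 1)) = 0 := by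
  obtain ⟨h0, h1, h2⟩ := h
  have hd := M.det_coe
  rw [det_fin_three] at hd
  simp only [h0, h1, h2] at hd
  simp only [map_mul, map_sub, map_add, map_pow, aeval_X, map_one, aeval_C,
    Algebra.algebraMap_eq_smul_one, smul_mul_assoc, one_mul, pow_two]
  ext i j
  fin_cases i <;> fin_cases j <;>
    simp [Matrix.mul_apply, Fin.sum_univ_three, h0, h1, h2, Matrix.one_apply]
  all_goals
    first
    | ring1
    | linear_combination (-((M : Matrix (Fin 3) (Fin 3) F) 0 0 - 1)) * hd
    | linear_combination (-((M : Matrix (Fin 3) (Fin 3) F) 0 1)) * hd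
    | linear_combination (-((M : Matrix (Fin 3) (Fin 3) F) 0 2)) * hd
    | linear_combination (-((M : Matrix (Fin 3) (Fin 3) F) 1 0)) * hd
    | linear_combination (-((M : Matrix (Fin 3) (Fin 3) F) 1 1 - 1)) * hd
    | linear_combination (-((M : Matrix (Fin 3) (Fin 3) F) 1 2)) * hd

variable [Fintype F]

theorem charP_two (hF : Fintype.card F = 4) : CharP F 2 := by
  obtain ⟨p, hp⟩ := CharP.exists F
  obtain ⟨n, hpp, hc⟩ := FiniteField.card F p
  have h4 : p ∣ 4 := by rw [← hF, hc]; exact dvd_pow_self p n.ne_zero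
  have : p ∣ 2 := hpp.dvd_of_dvd_pow (show p ∣ 2 ^ 2 by simpa using h4)
  rwa [(Nat.prime_dvd_prime_iff_eq hpp Nat.prime_two).1 this] at hp

theorem elems_four (hF : Fintype.card F = 4) (t : F) : t = 0 ∨ t = 1 ∨ t ^ 2 + t + 1 = 0 := by
  have h := FiniteField.pow_card t
  rw [hF] at h
  have h' : t * ((t - 1) * (t ^ 2 + t + 1)) = 0 := by linear_combination h
  rcases mul_eq_zero.1 h' with h | h
  · exact Or.inl h
  rcases mul_eq_zero.1 h with h | h
  · exact Or.inr (Or.inl (sub_eq_zero.1 h))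
  · exact Or.inr (Or.inr h)

theorem pow_of_trace (hF : Fintype.card F = 4) (M : SpecialLinearGroup (Fin 3) F) (h : M ∈ affSet F) :
    ((M : Matrix (Fin 3) (Fin 3) F) 0 0 + (M : Matrix (Fin 3) (Fin 3) F) 1 1 = 0 → M ^ 4 = 1) ∧
    ((M : Matrix (Fin 3) (Fin 3) F) 0 0 + (M : Matrix (Fin 3) (Fin 3) F) 1 1 = 1 → M ^ 3 = 1) ∧
    (((M : Matrix (Fin 3) (Fin 3) F) 0 0 + (M : Matrix (Fin 3) (Fin 3) F) 1 1) ^ 2 +
      ((M : Matrix (Fin 3) (Fin 3) F) 0 0 + (M : Matrix (Fin 3) (Fin 3) F) 1 1) + 1 = 0 → M ^ 5 = 1) := by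
  have := charP_two hF
  have hc := cubic M h
  generalize (M : Matrix (Fin 3) (Fin 3) F) 0 0 + (M : Matrix (Fin 3) (Fin 3) F) 1 1 = t at hc ⊢
  have h2 : (2 : F[X]) = 0 := by rw [← map_ofNat C 2, CharTwo.two_eq_zero, map_zero]
  have fin : ∀ (n : ℕ) (g : F[X]), X ^ n - 1 = (X - 1) * (X ^ 2 - C t * X + 1) * g → M ^ n = 1 := by
    intro n g e
    have := congrArg (aeval (M : Matrix (Fin 3) (Fin 3) F)) e
    rw [map_mul, hc, zero_mul, map_sub, map_pow, aeval_X, map_one, sub_eq_zero] at this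
    apply Subtype.ext
    simpa using this
  refine ⟨fun ht => fin 4 (X + 1) (by rw [ht, map_zero]; ring), fun ht => fin 3 1 ?_, fun ht => ?_⟩
  · rw [ht, map_one]; linear_combination (X ^ 2 - X) * h2
  · have e : C t ^ 2 + C t + 1 = (0 : F[X]) := by
      rw [← map_pow, ← map_add, ← C_1, ← map_add, ht, map_zero]
    refine fin 5 (X ^ 2 + (C t + 1) * X + 1) ?_
    linear_combination (X - 1) * X ^ 2 * e - (X - 1) * X ^ 2 * h2

theorem pow_cases (hF : Fintype.card F = 4) (M : SpecialLinearGroup (Fin 3) F) (h : M ∈ affSet F) :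
    M ^ 4 = 1 ∨ M ^ 3 = 1 ∨ M ^ 5 = 1 := by
  obtain ⟨a, b, c⟩ := pow_of_trace hF M h
  rcases elems_four hF ((M : Matrix (Fin 3) (Fin 3) F) 0 0 + (M : Matrix (Fin 3) (Fin 3) F) 1 1)
    with ht | ht | ht
  · exact Or.inl (a ht)
  · exact Or.inr (Or.inl (b ht))
  · exact Or.inr (Or.inr (c ht))

theorem orders (hF : Fintype.card F = 4) :
    Set.range (orderOf : Subgroup.closure (affSet F) → ℕ) = {1, 2, 3, 4, 5} := by
  have := charP_two hF
  apply Set.Subset.antisymm
  · rintro _ ⟨⟨M, hM⟩, rfl⟩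
    rw [← Subgroup.orderOf_coe]
    have key : ∀ n, M ^ n = 1 → orderOf M ∈ n.divisors ∨ n = 0 := by
      intro n hn
      rcases eq_or_ne n 0 with h | h
      · exact Or.inr h
      · exact Or.inl (Nat.mem_divisors.2 ⟨orderOf_dvd_of_pow_eq_one hn, h⟩)
    rcases pow_cases hF M (closure_affSet hM) with h | h | h
    · have := key 4 h
      simp [show (4 : ℕ).divisors = {1, 2, 4} from rfl] at this ⊢
      tauto
    · have := key 3 h
      simp [show (3 : ℕ).divisors = {1, 3} from rfl] at this ⊢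
      tauto
    · have := key 5 h
      simp [show (5 : ℕ).divisors = {1, 5} from rfl] at this ⊢
      tauto
  · have mk : ∀ t x y : F, ∃ M : Subgroup.closure (affSet F),
        ((M : SpecialLinearGroup (Fin 3) F) : Matrix (Fin 3) (Fin 3) F) =
          !![t + 1, 1, x; t, 1, y; 0, 0, 1] := by
      intro t x y
      refine ⟨⟨⟨!![t + 1, 1, x; t, 1, y; 0, 0, 1], by simp [det_fin_three]⟩, ?_⟩, rfl⟩
      exact Subgroup.subset_closure ⟨rfl, rfl, rfl⟩
    obtain ⟨ω, hω0, hω1⟩ : ∃ ω : F, ω ≠ 0 ∧ ω ≠ 1 := by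
      classical
      by_contra h
      push Not at h
      have : Fintype.card F ≤ ({0, 1} : Finset F).card := by
        rw [← Finset.card_univ]
        refine Finset.card_le_card fun a _ => ?_
        rcases eq_or_ne a 0 with e | e
        · simp [e]
        · simp [h a e]
      have := this.trans Finset.card_le_two
      omega
    have hω : ω ^ 2 + ω + 1 = 0 := ((elems_four hF ω).resolve_left hω0).resolve_left hω1
    have h2 : (2 : F) = 0 := CharTwo.two_eq_zero
    have prime_ord : ∀ (n : ℕ) (M : Subgroup.closure (affSet F)), n.Prime → M ≠ 1 →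
        (M : SpecialLinearGroup (Fin 3) F) ^ n = 1 → orderOf M = n := by
      intro n M hn hne h
      have : Fact n.Prime := ⟨hn⟩
      exact orderOf_eq_prime (Subtype.ext (by simpa using h)) hne
    obtain ⟨a, ha⟩ := mk 0 0 1
    obtain ⟨b, hb⟩ := mk 1 0 0
    obtain ⟨c, hc⟩ := mk ω 0 0
    have hne : ∀ (M : Subgroup.closure (affSet F)) (i j : Fin 3),
        ((M : SpecialLinearGroup (Fin 3) F) : Matrix (Fin 3) (Fin 3) F) i j ≠
          (1 : Matrix (Fin 3) (Fin 3) F) i j → M ≠ 1 := by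
      rintro M i j h rfl
      simp at h
    have ha2 : a ^ 2 ≠ 1 := by
      apply hne _ 0 2
      simp [ha, pow_two, Matrix.mul_apply, Fin.sum_univ_three]
    have o4 : orderOf a = 4 := by
      refine (orderOf_eq_prime_pow (p := 2) (n := 1) (by simpa using ha2) ?_).trans rfl
      refine Subtype.ext ?_
      simpa using (pow_of_trace hF _ (closure_affSet a.2)).1 (by simp [ha]; linear_combination h2)
    have o3 : orderOf b = 3 :=
      prime_ord 3 b Nat.prime_three (hne _ 1 0 (by simp [hb]))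
        ((pow_of_trace hF _ (closure_affSet b.2)).2.1 (by simp [hb]; linear_combination h2))
    have o5 : orderOf c = 5 :=
      prime_ord 5 c (by norm_num) (hne _ 1 0 (by simp [hc, hω0]))
        ((pow_of_trace hF _ (closure_affSet c.2)).2.2
          (by simp [hc]; linear_combination hω + (2 * ω + 3) * h2))
    have hdiv : ∀ (g : Subgroup.closure (affSet F)) (d : ℕ), d ∣ orderOf g →
        d ∈ Set.range (orderOf : Subgroup.closure (affSet F) → ℕ) :=
      fun g d hd => ⟨g ^ (orderOf g / d), orderOf_pow_orderOf_div (orderOf_pos g).ne' hd⟩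
    simp only [Set.insert_subset_iff, Set.singleton_subset_iff]
    exact ⟨hdiv a 1 (one_dvd _), hdiv a 2 (by rw [o4]; norm_num), ⟨b, o3⟩, ⟨a, o4⟩, ⟨c, o5⟩⟩

theorem altSix : Set.range (orderOf : alternatingGroup (Fin 6) → ℕ) = {1, 2, 3, 4, 5} := by
  have arith : ∀ a : Fin 4, ∀ b : Fin 3, ∀ c d e : Fin 2,
      2 * a.1 + 3 * b.1 + 4 * c.1 + 5 * d.1 + 6 * e.1 ≤ 6 →
      (3 * a.1 + 4 * b.1 + 5 * c.1 + 6 * d.1 + 7 * e.1) % 2 = 0 →
      (if a.1 = 0 then 1 else 2).lcm ((if b.1 = 0 then 1 else 3).lcm ((if c.1 = 0 then 1 else 4).lcm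
        ((if d.1 = 0 then 1 else 5).lcm (if e.1 = 0 then 1 else 6)))) ∈ [1, 2, 3, 4, 5] := by
    decide +kernel
  have lrep : ∀ k v : ℕ, (Multiset.replicate k v).lcm = if k = 0 then 1 else v := by
    intro k v
    induction k with
    | zero => simp
    | succ j ih =>
      rw [Multiset.replicate_succ, Multiset.lcm_cons, ih]
      rcases j with _ | j <;> simp
  apply Set.Subset.antisymm
  · rintro _ ⟨σ, rfl⟩
    obtain ⟨m, h2, hs, he, hl⟩ := Cfsg.Agent.H55.type_of_alt σ
    have hle : ∀ v, v * m.count v ≤ 6 := by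
      intro v
      have h : Multiset.replicate (m.count v) v ≤ m := Multiset.le_count_iff_replicate_le.1 le_rfl
      obtain ⟨r, hr⟩ := Multiset.le_iff_exists_add.1 h
      rw [hr, Multiset.sum_add, Multiset.sum_replicate, smul_eq_mul] at hs
      rw [mul_comm]
      omega
    have hm : m = Multiset.replicate (m.count 2) 2 + (Multiset.replicate (m.count 3) 3 +
        (Multiset.replicate (m.count 4) 4 + (Multiset.replicate (m.count 5) 5 +
        Multiset.replicate (m.count 6) 6))) := by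
      ext v
      simp only [Multiset.count_add, Multiset.count_replicate]
      by_cases hv : v ∈ m
      · have := h2 v hv
        have := (Multiset.le_sum_of_mem hv).trans hs
        interval_cases v <;> simp
      · have hv0 := Multiset.count_eq_zero.2 hv
        rw [hv0]
        split_ifs <;> subst_vars <;> omega
    have := hle 2
    have := hle 3
    have := hle 4
    have := hle 5
    have := hle 6
    rw [hm] at hs he hl
    simp only [Multiset.sum_add, Multiset.sum_replicate, Multiset.card_add, Multiset.card_replicate,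
      smul_eq_mul, Nat.even_iff] at hs he
    simp only [Multiset.lcm_add, lrep] at hl
    have h := arith ⟨m.count 2, by omega⟩ ⟨m.count 3, by omega⟩ ⟨m.count 4, by omega⟩
      ⟨m.count 5, by omega⟩ ⟨m.count 6, by omega⟩ (by simp only; omega) (by simp only; omega)
    rw [← hl]
    simp only [List.mem_cons, List.not_mem_nil, or_false] at h
    simpa [GCDMonoid.lcm] using h
  · have w : ∀ (m : Multiset ℕ) (k : ℕ), (∀ a ∈ m, 2 ≤ a) → m.sum ≤ 6 →
        (m.sum + Multiset.card m) % 2 = 0 → m.lcm = k →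
        k ∈ Set.range (orderOf : alternatingGroup (Fin 6) → ℕ) := by
      intro m k h2 hs he hl
      obtain ⟨σ, hσ⟩ := Cfsg.Agent.H55.exists_alt_of_type m h2 hs (Nat.even_iff.2 he)
      exact ⟨σ, hσ.trans hl⟩
    simp only [Set.insert_subset_iff, Set.singleton_subset_iff]
    refine ⟨w 0 1 ?_ ?_ ?_ ?_, w {2, 2} 2 ?_ ?_ ?_ ?_, w {3} 3 ?_ ?_ ?_ ?_,
      w {4, 2} 4 ?_ ?_ ?_ ?_, w {5} 5 ?_ ?_ ?_ ?_⟩
    all_goals decide

theorem exists_translation (hF : Fintype.card F = 4) :
    ∃ (V : Subgroup (Subgroup.closure (affSet F))) (p : ℕ),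
      V.Normal ∧ V ≠ ⊥ ∧ p.Prime ∧ ∀ x : V, x ^ p = 1 := by
  have := charP_two hF
  let f : Subgroup.closure (affSet F) →* Matrix (Fin 2) (Fin 2) F :=
    { toFun := fun M => ((M : SpecialLinearGroup (Fin 3) F) : Matrix (Fin 3) (Fin 3) F).submatrix
        Fin.castSucc Fin.castSucc
      map_one' := by ext i j; fin_cases i <;> fin_cases j <;> simp
      map_mul' := fun M N => by
        obtain ⟨h0, h1, -⟩ := closure_affSet N.2
        ext i j
        fin_cases i <;> fin_cases j <;>
          simp [Matrix.mul_apply, Fin.sum_univ_three, Fin.sum_univ_two, h0, h1] }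
  refine ⟨f.ker, 2, MonoidHom.normal_ker f, ?_, Nat.prime_two, ?_⟩
  · intro h
    have hm : (⟨!![1, 0, 1; 0, 1, 0; 0, 0, 1], by simp [det_fin_three]⟩ : SpecialLinearGroup (Fin 3) F) ∈
        Subgroup.closure (affSet F) := Subgroup.subset_closure ⟨rfl, rfl, rfl⟩
    have hk : (⟨_, hm⟩ : Subgroup.closure (affSet F)) ∈ f.ker := by
      rw [MonoidHom.mem_ker]
      ext i j
      fin_cases i <;> fin_cases j <;> simp [f]
    rw [h, Subgroup.mem_bot] at hk
    have := congrArg (fun M : Subgroup.closure (affSet F) =>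
      ((M : SpecialLinearGroup (Fin 3) F) : Matrix (Fin 3) (Fin 3) F) 0 2) hk
    simp at this
  · rintro ⟨⟨M, hM⟩, hk⟩
    obtain ⟨h0, h1, h2⟩ := closure_affSet hM
    rw [MonoidHom.mem_ker] at hk
    have e : ∀ i j : Fin 2, (M : Matrix (Fin 3) (Fin 3) F) i.castSucc j.castSucc =
        (1 : Matrix (Fin 2) (Fin 2) F) i j := fun i j => congrFun (congrFun hk i) j
    have a00 : (M : Matrix (Fin 3) (Fin 3) F) 0 0 = 1 := e 0 0
    have a01 : (M : Matrix (Fin 3) (Fin 3) F) 0 1 = 0 := e 0 1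
    have a10 : (M : Matrix (Fin 3) (Fin 3) F) 1 0 = 0 := e 1 0
    have a11 : (M : Matrix (Fin 3) (Fin 3) F) 1 1 = 1 := e 1 1
    have : M ^ 2 = 1 := by
      apply Subtype.ext
      ext i j
      fin_cases i <;> fin_cases j <;>
        simp [pow_two, Matrix.mul_apply, Fin.sum_univ_three, h0, h1, h2, a00, a01, a10, a11,
          CharTwo.add_self_eq_zero]
    exact Subtype.ext (Subtype.ext (by simpa using this))

end Cfsg.Agent.H68.AffFour
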