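import Cfsg.Agent.H68.Factor
import Cfsg.Agent.Perm.Basic
import Cfsg.Agent.H69.Basic

/-!
Conjugacy classes of derangements in primitive groups that are not almost simple.
-/

namespace Cfsg.Agent.H68

open MulAction

variable {G : Type*} [Group G] {Ω : Type*} [MulAction G Ω]

/-- Derangement. -/
def Der (Ω : Type*) [MulAction G Ω] (g : G) : Prop := ∀ ω : Ω, g • ω ≠ ω

theorem der_conj {g : G} (h : Der Ω g) (x : G) : Der Ω (x * g * x⁻¹) := by
  intro ω hω
  rw [mul_smul, mul_smul, ← eq_inv_smul_iff] at hω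
  exact h _ hω

theorem der_of_isConj {g k : G} (h : Der Ω g) (hc : IsConj g k) : Der Ω k := by
  obtain ⟨x, rfl⟩ := isConj_iff.mp hc
  exact der_conj h x

variable (G Ω) in
/-- The type of conjugacy classes of derangements, as in the statements. -/
abbrev DerClasses : Type _ :=
  {c : ConjClasses G // ∃ g : G, ConjClasses.mk g = c ∧ ∀ ω : Ω, g • ω ≠ ω}

theorem three_le_derClasses [Finite G] {x y z : G} (hx : Der Ω x) (hy : Der Ω y) (hz : Der Ω z)
    (hxy : ¬ IsConj x y) (hxz : ¬ IsConj x z) (hyz : ¬ IsConj y z) :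
    3 ≤ Nat.card (DerClasses G Ω) := by
  let f : Fin 3 → DerClasses G Ω :=
    ![⟨_, x, rfl, hx⟩, ⟨_, y, rfl, hy⟩, ⟨_, z, rfl, hz⟩]
  have hf : Function.Injective f := by
    intro i j hij
    have h := congrArg Subtype.val hij
    fin_cases i <;> fin_cases j <;>
      simp only [f, Fin.isValue, Fin.zero_eta, Fin.mk_one, Fin.reduceFinMk, Matrix.cons_val_zero,
        Matrix.cons_val_one, Matrix.cons_val, ConjClasses.mk_eq_mk_iff_isConj] at h ⊢ <;>
      first
        | rfl
        | exact absurd h hxy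
        | exact absurd h hxz
        | exact absurd h hyz
        | exact absurd h.symm hxy
        | exact absurd h.symm hxz
        | exact absurd h.symm hyz
  have := Nat.card_le_card_of_injective f hf
  simpa using this

theorem isConj_of_card_derClasses_eq_one (h : Nat.card (DerClasses G Ω) = 1) {x y : G}
    (hx : Der Ω x) (hy : Der Ω y) : IsConj x y := by
  have := (Nat.card_eq_one_iff_unique.mp h).1
  exact ConjClasses.mk_eq_mk_iff_isConj.mp
    (congrArg Subtype.val (Subsingleton.elim (⟨_, x, rfl, hx⟩ : DerClasses G Ω) ⟨_, y, rfl, hy⟩))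

theorem isConj_of_card_derClasses_eq_two [Finite G] (h : Nat.card (DerClasses G Ω) = 2) {x y z : G}
    (hx : Der Ω x) (hy : Der Ω y) (hz : Der Ω z) : IsConj x y ∨ IsConj x z ∨ IsConj y z := by
  by_contra hc
  push Not at hc
  have := three_le_derClasses hx hy hz hc.1 hc.2.1 hc.2.2
  omega

/-- Non-trivial elements of two different prime orders in a non-trivial subgroup with trivial
centre. -/
theorem exists_two_prime_orders [Finite G] (N : Subgroup G) (hN1 : N ≠ ⊥)
    (hc : ∀ x ∈ N, (∀ n ∈ N, n * x = x * n) → x = 1) :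
    ∃ x ∈ N, ∃ y ∈ N, (orderOf x).Prime ∧ (orderOf y).Prime ∧ orderOf x ≠ orderOf y := by
  have : Nontrivial N := (Subgroup.nontrivial_iff_ne_bot N).mpr hN1
  set p := (Nat.card N).minFac with hp'
  have hp : p.Prime := Nat.minFac_prime Finite.one_lt_card.ne'
  have := Fact.mk hp
  obtain ⟨x, hx⟩ := exists_prime_orderOf_dvd_card' p (Nat.minFac_dvd (Nat.card N))
  by_cases h : ∀ q : ℕ, q.Prime → q ∣ Nat.card N → q = p
  · exfalso
    have hpg : IsPGroup p N := IsPGroup.of_card (n := (Nat.card N).primeFactorsList.length)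
      (Nat.eq_prime_pow_of_unique_prime_dvd Nat.card_pos.ne' fun {q} hq hqd => h q hq hqd)
    have hne := H69.inf_centralizer_ne_bot N hN1 hpg
    refine hne ((Subgroup.eq_bot_iff_forall _).mpr fun z hz => ?_)
    exact hc z hz.1 (Subgroup.mem_centralizer_iff.mp hz.2)
  · push Not at h
    obtain ⟨q, hq, hqd, hqp⟩ := h
    have := Fact.mk hq
    obtain ⟨y, hy⟩ := exists_prime_orderOf_dvd_card' q hqd
    exact ⟨x, x.2, y, y.2, by rw [Subgroup.orderOf_coe, hx]; exact hp,
      by rw [Subgroup.orderOf_coe, hy]; exact hq,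
      by rw [Subgroup.orderOf_coe, Subgroup.orderOf_coe, hx, hy]; exact Ne.symm hqp⟩

theorem not_isConj_of_orderOf {x y : G} (h : orderOf x ≠ orderOf y) : ¬ IsConj x y := by
  intro hc
  obtain ⟨g, rfl⟩ := isConj_iff.mp hc
  exact h (orderOf_injective (MulAut.conj g).toMonoidHom (MulAut.conj g).injective x).symm

/-- A primitive group with no abelian normal subgroup other than `1` that is not almost simple
has at least three classes of derangements. -/
theorem three_classes_of_not_affine [Finite G] [Nonempty Ω] [FaithfulSMul G Ω]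
    (hprim : IsPreprimitive G Ω)
    (hnas : ¬ ∃ T : Subgroup G, T.Normal ∧ IsSimpleGroup T ∧ ¬ IsMulCommutative T ∧
      Subgroup.centralizer (T : Set G) = ⊥)
    (N : Subgroup G) [hN : N.Normal] (hN1 : N ≠ ⊥)
    (hmin : ∀ M : Subgroup G, M.Normal → M ≤ N → M = ⊥ ∨ M = N)
    (hnc : ¬ IsMulCommutative N) : 3 ≤ Nat.card (DerClasses G Ω) := by
  classical
  obtain ⟨a⟩ := ‹Nonempty Ω›
  obtain ⟨T, hF⟩ := exists_factor N hN1 hmin hnc
  have hNt : IsPretransitive N Ω := Perm.transitive_of_normal hN1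
  have hNcenter : ∀ x ∈ N, (∀ n ∈ N, n * x = x * n) → x = 1 := by
    intro x hx h
    have hmem : x ∈ Subgroup.centralizer (N : Set G) ⊓ N :=
      ⟨Subgroup.mem_centralizer_iff.mpr h, hx⟩
    rcases hmin (Subgroup.centralizer (N : Set G) ⊓ N) inferInstance inf_le_right with h1 | h1
    · rwa [h1, Subgroup.mem_bot] at hmem
    · exfalso
      refine hnc ⟨⟨fun p q => Subtype.ext ?_⟩⟩
      have hp : (p : G) ∈ Subgroup.centralizer (N : Set G) ⊓ N := h1.symm ▸ p.2
      exact (Subgroup.mem_centralizer_iff.mp hp.1 q q.2).symm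
  by_cases hcen : Subgroup.centralizer (N : Set G) = ⊥
  swap
  · -- two regular normal subgroups
    have hct : IsPretransitive (Subgroup.centralizer (N : Set G)) Ω :=
      Perm.transitive_of_normal hcen
    have hCfree := Perm.free_iff.mp (Perm.centralizer_free (X := Ω) hNt)
    have hNfree : ∀ t ∈ N, t ≠ 1 → Der Ω t := fun t ht ht1 ω h => ht1
      (Perm.eq_one_of_commute_of_fixed (S := (Subgroup.centralizer (N : Set G) : Set G))
        (Perm.exists_mem_smul_eq hct)
        (fun s hs => (Subgroup.mem_centralizer_iff.mp hs t ht).symm) h)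
    obtain ⟨x, hx, y, hy, hxp, hyp, hxy⟩ := exists_two_prime_orders N hN1 hNcenter
    obtain ⟨c, hc, hc1⟩ := (Subgroup.bot_or_exists_ne_one _).resolve_left hcen
    have hcN : c ∉ N := fun h => hc1 (hNcenter c h (Subgroup.mem_centralizer_iff.mp hc))
    have hnot : ∀ z ∈ N, ¬ IsConj z c := by
      intro z hz hconj
      obtain ⟨g, rfl⟩ := isConj_iff.mp hconj
      exact hcN (hN.conj_mem z hz g)
    exact three_le_derClasses
      (hNfree x hx fun h => by rw [h, orderOf_one] at hxp; exact Nat.not_prime_one hxp)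
      (hNfree y hy fun h => by rw [h, orderOf_one] at hyp; exact Nat.not_prime_one hyp)
      (fun ω h => hc1 (hCfree c hc ω h)) (not_isConj_of_orderOf hxy) (hnot x hx) (hnot y hy)
  have hTN : T ≠ N := fun h => hnas ⟨N, hN, h ▸ hF.simple, hnc, hcen⟩
  obtain ⟨h0, hh0⟩ := hF.exists_cj_ne hTN
  by_cases hsemi : ∀ t ∈ T, t ≠ 1 → Der Ω t
  · -- the factor acts semiregularly
    obtain ⟨x, hx, y, hy, hxp, hyp, hxy⟩ := exists_two_prime_orders T hF.ne_bot
      fun x hx h => hF.center_eq_bot hx h
    have hx1 : x ≠ 1 := fun h => by rw [h, orderOf_one] at hxp; exact Nat.not_prime_one hxp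
    have hy1 : y ≠ 1 := fun h => by rw [h, orderOf_one] at hyp; exact Nat.not_prime_one hyp
    set z := h0 * y * h0⁻¹ with hz
    have hzo : z ∈ others T := cj_le_others hh0 ⟨y, hy, by simp [z]⟩
    have hcm : Commute x z := hF.comm x hx z hzo
    have hzord : orderOf z = orderOf y :=
      orderOf_injective (MulAut.conj h0).toMonoidHom (MulAut.conj h0).injective y
    have hcop : (orderOf x).Coprime (orderOf z) := by
      rw [hzord]; exact (Nat.coprime_primes hxp hyp).mpr hxy
    have hord : orderOf (x * z) = orderOf x * orderOf y := by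
      rw [hcm.orderOf_mul_eq_mul_orderOf_of_coprime hcop, hzord]
    refine three_le_derClasses (hsemi x hx hx1) (hsemi y hy hy1) (z := x * z) ?_
      (not_isConj_of_orderOf hxy) (not_isConj_of_orderOf ?_) (not_isConj_of_orderOf ?_)
    · intro ω hω
      have hpow : (x * z) ^ orderOf x • ω = ω := mem_stabilizer_iff.mp
        (pow_mem (mem_stabilizer_iff.mpr hω) _)
      rw [hcm.mul_pow, pow_orderOf_eq_one, one_mul] at hpow
      have hne : z ^ orderOf x ≠ 1 := by
        intro h
        have := Nat.Coprime.eq_one_of_dvd hcop.symm (orderOf_dvd_of_pow_eq_one h)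
        rw [hzord] at this
        exact Nat.not_prime_one (this ▸ hyp)
      have hd : Der Ω (y ^ orderOf x) := hsemi _ (pow_mem hy _) (fun h => hne (by
        rw [hz, conj_pow, h]; group))
      have := der_conj hd h0 ω
      rw [← conj_pow] at this
      exact this hpow
    · rw [hord]
      intro h
      exact hyp.one_lt.ne' (Nat.eq_of_mul_eq_mul_left hxp.pos (by rw [← h, mul_one]))
    · rw [hord]
      intro h
      exact hxp.one_lt.ne' (Nat.eq_of_mul_eq_mul_right hyp.pos (by rw [← h, one_mul]))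
  -- some non-trivial element of the factor fixes a point
  push Not at hsemi
  obtain ⟨t, ht, ht1, htfix⟩ := hsemi
  simp only [Der, not_forall, not_not] at htfix
  obtain ⟨ω₁, hω₁⟩ := htfix
  -- the projection of the point stabilizer
  let R : Subgroup T :=
    { carrier := {s : T | ∃ u ∈ others T, ((s : G) * u) • a = a}
      one_mem' := ⟨1, one_mem _, by simp⟩
      mul_mem' := by
        rintro s r ⟨u, hu, hus⟩ ⟨v, hv, hvt⟩
        refine ⟨u * v, mul_mem hu hv, ?_⟩
        have e : ((s * r : T) : G) * (u * v) = ((s : G) * u) * ((r : G) * v) := by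
          rw [Subgroup.coe_mul, mul_assoc (s : G) r, ← mul_assoc (r : G), hF.comm r r.2 u hu]
          group
        rw [e, mul_smul, hvt, hus]
      inv_mem' := by
        rintro r ⟨u, hu, hut⟩
        refine ⟨u⁻¹, inv_mem hu, ?_⟩
        have e : ((r⁻¹ : T) : G) * u⁻¹ = ((r : G) * u)⁻¹ := by
          rw [hF.comm r r.2 u hu, mul_inv_rev]; simp
        rw [e, inv_smul_eq_iff, hut] }
  have hR : R ≠ ⊤ := by
    intro hR
    have hle : T ⊓ stabilizer G a = T := by
      refine hF.minimal _ inf_le_left ?_ ?_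
      · intro hbot
        obtain ⟨n, hn, hne⟩ := Perm.exists_mem_smul_eq hNt a ω₁
        have hmem : n⁻¹ * t * n ∈ T ⊓ stabilizer G a := by
          refine ⟨by simpa using hF.normalized n⁻¹ (inv_mem hn) t ht, ?_⟩
          change (n⁻¹ * t * n) • a = a
          rw [mul_smul, mul_smul, hne, hω₁, ← hne, inv_smul_smul]
        rw [hbot, Subgroup.mem_bot] at hmem
        refine ht1 ?_
        calc t = n * (n⁻¹ * t * n) * n⁻¹ := by group
          _ = 1 := by rw [hmem]; group
      · rintro n hn x ⟨hx, hxa⟩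
        refine ⟨hF.normalized n hn x hx, ?_⟩
        obtain ⟨s, hs, u, hu, rfl⟩ := hF.exists_mul n hn
        have hsR : (⟨s, hs⟩ : T) ∈ R := hR ▸ Subgroup.mem_top _
        obtain ⟨v, hv, hsv⟩ := hsR
        have e : s * u * x * (s * u)⁻¹ = (s * v) * x * (s * v)⁻¹ := by
          rw [mul_inv_rev, mul_inv_rev, mul_assoc s u x, ← hF.comm x hx u hu, mul_assoc s v x,
            ← hF.comm x hx v hv]
          group
        rw [e]
        exact (stabilizer G a).mul_mem ((stabilizer G a).mul_mem hsv hxa)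
          ((stabilizer G a).inv_mem hsv)
    refine hF.ne_bot ((Subgroup.eq_bot_iff_forall T).mpr fun s hs => ?_)
    refine eq_of_smul_eq_smul fun v : Ω => ?_
    obtain ⟨n, hn, rfl⟩ := Perm.exists_mem_smul_eq hNt a v
    have h2 : (n⁻¹ * s * n) • a = a :=
      (hle.ge.trans inf_le_right) (by simpa using hF.normalized n⁻¹ (inv_mem hn) s hs)
    rw [mul_smul, mul_smul, inv_smul_eq_iff] at h2
    rw [one_smul]
    exact h2
  obtain ⟨d, hd⟩ := H69.exists_not_conj_mem R hR
  have hder : ∀ u ∈ others T, Der Ω ((d : G) * u) := by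
    intro u hu b hb
    obtain ⟨n, hn, rfl⟩ := Perm.exists_mem_smul_eq hNt a b
    obtain ⟨s, hs, y, hy, rfl⟩ := hF.exists_mul n hn
    apply hd ⟨s, hs⟩
    refine ⟨y⁻¹ * u * y, mul_mem (mul_mem (inv_mem hy) hu) hy, ?_⟩
    have hw : ((⟨s, hs⟩⁻¹ * d * ⟨s, hs⟩ : T) : G) * (y⁻¹ * u * y)
        = (s * y)⁻¹ * ((d : G) * u) * (s * y) := by
      have hw1 : s⁻¹ * (d : G) * s ∈ T := mul_mem (mul_mem (inv_mem hs) d.2) hs
      have e1 := hF.comm _ hw1 y⁻¹ (inv_mem hy)
      have e2 := hF.comm s hs u hu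
      calc ((⟨s, hs⟩⁻¹ * d * ⟨s, hs⟩ : T) : G) * (y⁻¹ * u * y)
          = (s⁻¹ * (d : G) * s * y⁻¹) * u * y := by simp [mul_assoc]
        _ = (y⁻¹ * (s⁻¹ * (d : G) * s)) * u * y := by rw [e1]
        _ = y⁻¹ * s⁻¹ * (d : G) * (s * u) * y := by group
        _ = y⁻¹ * s⁻¹ * (d : G) * (u * s) * y := by rw [e2]
        _ = _ := by group
    rw [hw, mul_smul, mul_smul, hb, inv_smul_smul]
  have hd0 : Der Ω (d : G) := by simpa using hder 1 (one_mem _)
  have hd1 : (d : G) ≠ 1 := fun h => hd0 a (by rw [h, one_smul])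
  -- invariants
  have hsep : ∀ g₁ g₂ : G, ∀ x, x ∈ cj g₁ T → x ∈ cj g₂ T → x ≠ 1 → cj g₁ T = cj g₂ T := by
    intro g₁ g₂ x hx1 hx2 hne
    by_contra hc
    have hc' : cj (g₁⁻¹ * g₂) T ≠ T := by
      intro h
      apply hc
      conv_lhs => rw [← h, ← cj_mul, mul_inv_cancel_left]
    have h1 := mem_cj.mp hx1
    have h2 : g₁⁻¹ * x * g₁ ∈ cj (g₁⁻¹ * g₂) T := by
      rw [mem_cj]
      simpa [mul_assoc] using mem_cj.mp hx2
    have h3 := hF.eq_one_of_mem h1 (cj_le_others hc' h2)
    apply hne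
    calc x = g₁ * (g₁⁻¹ * x * g₁) * g₁⁻¹ := by group
      _ = 1 := by rw [h3]; group
  set dd := h0 * (d : G) * h0⁻¹
  set tt := h0 * t * h0⁻¹
  have hddm : dd ∈ cj h0 T := ⟨d, d.2, by simp [dd]⟩
  have httm : tt ∈ cj h0 T := ⟨t, ht, by simp [tt]⟩
  have hddo := cj_le_others hh0 hddm
  have htto := cj_le_others hh0 httm
  have hdd1 : dd ≠ 1 := by simpa [dd] using hd1
  have htt1 : tt ≠ 1 := by simpa [tt] using ht1
  have hT1 : ∀ g, g * ((1 : G)) * g⁻¹ = 1 := fun g => by group
  -- `d u` with `1 ≠ u` outside is not in a conjugate of `T`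
  have hQ : ∀ u ∈ others T, u ≠ 1 → ∀ x : G, x * (d : G) * x⁻¹ ≠ (d : G) * u := by
    intro u hu hu1 x he
    have hmem : (d : G) * u ∈ cj x T := he ▸ ⟨d, d.2, by simp⟩
    by_cases hxT : cj x T = T
    · rw [hxT] at hmem
      exact hu1 (hF.eq_one_of_mem (by simpa using mul_mem (inv_mem d.2) hmem) hu)
    · have h2 := cj_le_others hxT hmem
      exact hd1 (hF.eq_one_of_mem d.2 (by simpa using mul_mem h2 (inv_mem hu)))
  refine three_le_derClasses hd0 (hder dd hddo) (hder tt htto) ?_ ?_ ?_
  · intro hc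
    obtain ⟨x, hx⟩ := isConj_iff.mp hc
    exact hQ dd hddo hdd1 x hx
  · intro hc
    obtain ⟨x, hx⟩ := isConj_iff.mp hc
    exact hQ tt htto htt1 x hx
  · intro hc
    obtain ⟨x, hx⟩ := isConj_iff.mp hc
    -- the components of `x (d dd) x⁻¹`
    set t₁ := x * (d : G) * x⁻¹
    set t₂ := x * dd * x⁻¹
    have h1m : t₁ ∈ cj x T := ⟨d, d.2, by simp [t₁]⟩
    have h2m : t₂ ∈ cj (x * h0) T := by
      rw [cj_mul]; exact ⟨dd, hddm, by simp [t₂]⟩
    have hder1 : Der Ω t₁ := der_conj hd0 x
    have hder2 : Der Ω t₂ := der_conj (der_conj hd0 h0) x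
    have hne12 : cj x T ≠ cj (x * h0) T := by
      intro h
      apply hh0
      have h3 := congrArg (cj x⁻¹) h
      rw [← cj_mul, ← cj_mul, inv_mul_cancel, inv_mul_cancel_left] at h3
      rw [← h3]
      ext q; simp [mem_cj]
    have htder : ¬ Der Ω tt := fun h => by
      have h3 := der_conj h h0⁻¹ ω₁
      simp only [tt, inv_inv] at h3
      exact h3 (by simpa [mul_assoc] using hω₁)
    have hsum : t₁ * t₂ = (d : G) * tt := by
      rw [← hx]; simp only [t₁, t₂]; group
    by_cases hT1' : cj x T = T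
    · have hT2 : cj (x * h0) T ≠ T := fun h => hne12 (hT1'.trans h.symm)
      obtain ⟨-, h5⟩ := hF.mul_inj (hT1' ▸ h1m) d.2 (cj_le_others hT2 h2m) htto hsum
      exact htder (h5 ▸ hder2)
    · by_cases hT2 : cj (x * h0) T = T
      · have hcm : Commute t₂ t₁ := hF.comm _ (hT2 ▸ h2m) _ (cj_le_others hT1' h1m)
        obtain ⟨-, h5⟩ := hF.mul_inj (hT2 ▸ h2m) d.2 (cj_le_others hT1' h1m) htto
          (hcm.eq.trans hsum)
        exact htder (h5 ▸ hder1)
      · obtain ⟨h4, -⟩ := hF.mul_inj (one_mem T) d.2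
          (mul_mem (cj_le_others hT1' h1m) (cj_le_others hT2 h2m)) htto (by rw [one_mul, hsum])
        exact hd1 h4.symm

/-- Counting derangements in a transitive group. -/
theorem card_der_eq_iff [Finite G] [Finite Ω] (htr : IsPretransitive G Ω) (hne : Nonempty Ω) :
    (Nat.card Ω - 1 ≤ Nat.card {g : G // Der Ω g}) ∧
    ((Nat.card {g : G // Der Ω g} ≤ Nat.card Ω - 1) ↔
      ∀ g : G, g ≠ 1 → Nat.card (fixedBy Ω g) ≤ 1) := by
  classical
  cases nonempty_fintype G
  cases nonempty_fintype Ω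
  obtain ⟨a⟩ := hne
  have hb := sum_card_fixedBy_eq_card_orbits_mul_card_group G Ω
  have hone : Fintype.card (orbitRel.Quotient G Ω) = 1 := by
    have : Subsingleton (orbitRel.Quotient G Ω) :=
      (pretransitive_iff_subsingleton_quotient G Ω).1 htr
    exact Fintype.card_eq_one_iff.mpr ⟨Quotient.mk'' a, fun _ => Subsingleton.elim _ _⟩
  rw [hone, one_mul] at hb
  let f : G → ℕ := fun g => Fintype.card (fixedBy Ω g)
  have hnat : ∀ g, Nat.card (fixedBy Ω g) = f g := fun g => Nat.card_eq_fintype_card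
  have hder : ∀ g : G, Der Ω g ↔ f g = 0 := by
    intro g
    constructor
    · intro h
      exact Fintype.card_eq_zero_iff.mpr ⟨fun p => h p.1 p.2⟩
    · intro h ω hω
      exact (Fintype.card_eq_zero_iff.mp h).false ⟨ω, hω⟩
  have h1 : f 1 = Fintype.card Ω := Fintype.card_of_subtype Finset.univ (by simp)
  have hsplit : ∀ g : G, (f g : ℤ) - 1
      = ((f g - 1 : ℕ) : ℤ) - (if f g = 0 then 1 else 0) := by
    intro g
    split_ifs with h <;> omega
  have hz : ∑ g : G, ((f g : ℤ) - 1) = 0 := by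
    rw [Finset.sum_sub_distrib, ← Nat.cast_sum, hb]
    simp
  have hcount : Nat.card {g : G // Der Ω g} = ∑ g : G, (f g - 1) := by
    rw [Finset.sum_congr rfl fun g _ => hsplit g, Finset.sum_sub_distrib, sub_eq_zero,
      ← Nat.cast_sum, Finset.sum_boole] at hz
    rw [Nat.card_eq_fintype_card, Fintype.card_subtype]
    have e : ({g | Der Ω g} : Finset G) = ({g | f g = 0} : Finset G) := by
      ext g; simp [hder]
    rw [e]
    exact_mod_cast hz.symm
  rw [← Finset.add_sum_erase _ _ (Finset.mem_univ (1 : G)), h1,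
    ← Nat.card_eq_fintype_card] at hcount
  constructor
  · omega
  · constructor
    · intro h g hg
      have h0 : ∑ g ∈ Finset.univ.erase (1 : G), (f g - 1) = 0 := by omega
      have := Finset.sum_eq_zero_iff.mp h0 g (Finset.mem_erase.mpr ⟨hg, Finset.mem_univ _⟩)
      rw [hnat]; omega
    · intro h
      have h0 : ∑ g ∈ Finset.univ.erase (1 : G), (f g - 1) = 0 := by
        refine Finset.sum_eq_zero fun g hg => ?_
        have := h g (Finset.mem_erase.mp hg).1
        rw [hnat] at this; omega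
      omega

/-- A transitive action of `G` is 2-transitive if a point stabilizer is transitive on the other
points. -/
theorem two_transitive_of_stabilizer (htr : IsPretransitive G Ω) (a : Ω)
    (h : ∀ x y : Ω, x ≠ a → y ≠ a → ∃ g ∈ stabilizer G a, g • x = y) :
    IsMultiplyPretransitive G Ω 2 := by
  rw [is_two_pretransitive_iff]
  intro x y z w hxy hzw
  obtain ⟨g₁, hg₁⟩ := exists_smul_eq G x a
  obtain ⟨g₂, hg₂⟩ := exists_smul_eq G z a
  obtain ⟨k, hk, hky⟩ := h (g₁ • y) (g₂ • w)
    (fun he => hxy (smul_left_cancel g₁ (hg₁.trans he.symm)))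
    (fun he => hzw (smul_left_cancel g₂ (hg₂.trans he.symm)))
  refine ⟨g₂⁻¹ * k * g₁, ?_, ?_⟩
  · rw [mul_smul, mul_smul, hg₁, mem_stabilizer_iff.mp hk, inv_smul_eq_iff, hg₂]
  · rw [mul_smul, mul_smul, hky, inv_smul_smul]

/-- In a sharply 2-transitive group the derangements are conjugate. -/
theorem derClasses_eq_one_of_sharp [Finite G] [Finite Ω] [FaithfulSMul G Ω]
    (h2 : IsMultiplyPretransitive G Ω 2)
    (hsharp : ∀ g : G, g ≠ 1 → ∀ a b : Ω, a ≠ b → g • a = a → g • b ≠ b) (hΩ : 2 ≤ Nat.card Ω) :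
    Nat.card (DerClasses G Ω) = 1 := by
  classical
  cases nonempty_fintype G
  cases nonempty_fintype Ω
  have : Nontrivial Ω := Finite.one_lt_card_iff_nontrivial.mp hΩ
  obtain ⟨a⟩ : Nonempty Ω := inferInstance
  have htr : IsPretransitive G Ω :=
    (isPreprimitive_of_is_two_pretransitive h2).toIsPretransitive
  have hfix : ∀ g : G, g ≠ 1 → Nat.card (fixedBy Ω g) ≤ 1 := by
    intro g hg
    have : Subsingleton (fixedBy Ω g) := ⟨fun p q => by
      by_contra hne
      exact hsharp g hg p q (fun h => hne (Subtype.ext h)) p.2 q.2⟩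
    exact Finite.card_le_one_iff_subsingleton.mpr this
  obtain ⟨hlow, hiff⟩ := card_der_eq_iff (G := G) htr inferInstance
  have hcard : Nat.card {g : G // Der Ω g} = Nat.card Ω - 1 := le_antisymm (hiff.mpr hfix) hlow
  obtain ⟨d, hd⟩ : ∃ d : G, Der Ω d := by
    obtain ⟨x, y, hxy⟩ := exists_pair_ne Ω
    exact H69.exists_fixedPointFree x y hxy
  have hd1 : d ≠ 1 := fun h => hd a (by rw [h, one_smul])
  -- the centralizer of `d` is small
  set C := Subgroup.centralizer ({d} : Set G)
  have hC : Nat.card C ≤ Nat.card Ω := by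
    refine Nat.card_le_card_of_injective (fun c : C => (c : G) • a) fun p q hpq => ?_
    by_contra hne
    have hc : ((q⁻¹ * p : C) : G) ≠ 1 := fun h => hne (inv_mul_eq_one.mp (Subtype.ext h)).symm
    have hfa : ((q⁻¹ * p : C) : G) • a = a := by
      simp only [Subgroup.coe_mul, Subgroup.coe_inv, mul_smul]
      rw [inv_smul_eq_iff]; exact hpq
    refine hsharp _ hc a (d • a) (Ne.symm (hd a)) hfa ?_
    rw [← mul_smul, Subgroup.mem_centralizer_singleton_iff.mp (q⁻¹ * p : C).2, mul_smul, hfa]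
  have hH : Nat.card Ω - 1 ≤ Nat.card (stabilizer G a) := by
    obtain ⟨b, hb⟩ := exists_ne a
    rw [is_two_pretransitive_iff] at h2
    have : ∀ x : {x : Ω // x ≠ a}, ∃ g : stabilizer G a, g • b = (x : Ω) := by
      intro x
      obtain ⟨g, hga, hgb⟩ := h2 hb.symm x.2.symm
      exact ⟨⟨g, hga⟩, hgb⟩
    choose f hf using this
    have hinj : Function.Injective f := fun p q h => Subtype.ext (by rw [← hf p, h, hf q])
    have h3 := Nat.card_le_card_of_injective f hinj
    rw [Nat.card_eq_fintype_card, Fintype.card_subtype_compl] at h3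
    simpa [Nat.card_eq_fintype_card] using h3
  have hall : ∀ g : G, Der Ω g → IsConj d g := by
    have hclass : Nat.card Ω - 1 ≤ Nat.card {g : G // IsConj d g} := by
      have horb := Nat.card_congr (orbitEquivQuotientStabilizer (ConjAct G) d)
      have hidx : C.index = Nat.card {g : G // IsConj d g} := by
        have h4 : (ConjAct.toConjAct.symm : ConjAct G ≃* G).toMonoidHom.range = ⊤ :=
          MonoidHom.range_eq_top.mpr (MulEquiv.surjective _)
        have h5 : stabilizer (ConjAct G) d =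
            C.comap (ConjAct.ofConjAct : ConjAct G ≃* G).toMonoidHom := by
          ext g
          simp [C, mem_stabilizer_iff, ConjAct.smul_def, Subgroup.mem_centralizer_singleton_iff,
            mul_inv_eq_iff_eq_mul]
        rw [← Subgroup.index_comap_of_surjective _
          (f := (ConjAct.ofConjAct : ConjAct G ≃* G).toMonoidHom) (MulEquiv.surjective _), ← h5,
          Subgroup.index, ← horb]
        refine Nat.card_congr (Equiv.subtypeEquivRight fun g => ?_)
        rw [ConjAct.mem_orbit_conjAct, isConj_comm]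
      have h6 := C.card_mul_index
      have h7 : Nat.card Ω * Nat.card (stabilizer G a) = Nat.card G := by
        rw [← index_stabilizer_of_transitive G a, mul_comm]
        exact Subgroup.card_mul_index _
      rw [← hidx]
      refine hH.trans (Nat.le_of_mul_le_mul_left ?_ (Nat.card_pos (α := C)))
      rw [h6, ← h7]
      exact Nat.mul_le_mul_right _ hC
    have hsub : ({g | IsConj d g} : Finset G) = ({g | Der Ω g} : Finset G) := by
      refine Finset.eq_of_subset_of_card_le (fun g hg => ?_) ?_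
      · simp only [Finset.mem_filter, Finset.mem_univ, true_and] at hg ⊢
        exact der_of_isConj hd hg
      · rw [← Fintype.card_subtype, ← Fintype.card_subtype, ← Nat.card_eq_fintype_card,
          ← Nat.card_eq_fintype_card, hcard]
        exact hclass
    intro g hg
    have : g ∈ ({g | IsConj d g} : Finset G) := by
      rw [hsub]; simp [hg]
    simpa using this
  rw [Nat.card_eq_one_iff_unique]
  refine ⟨⟨fun p q => ?_⟩, ⟨⟨_, d, rfl, hd⟩⟩⟩
  obtain ⟨g, hg, hgd⟩ := p.2
  obtain ⟨k, hk, hkd⟩ := q.2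
  apply Subtype.ext
  rw [← hg, ← hk, ConjClasses.mk_eq_mk_iff_isConj]
  exact (hall g hgd).symm.trans (hall k hkd)

end Cfsg.Agent.H68
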