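/-
Redei's theorem on functions of a prime field with few difference quotients (power sum proof).
-/
import Mathlib

set_option autoImplicit false

namespace Cfsg.Agent.H68

open Polynomial Finset

variable {p : ℕ} [Fact p.Prime]

theorem sum_eval_eq_neg_coeff (Q : (ZMod p)[X]) (hQ : Q.natDegree ≤ p - 1) :
    ∑ x : ZMod p, Q.eval x = - Q.coeff (p - 1) := by
  have hp := (Fact.out : p.Prime).two_le
  simp_rw [eval_eq_sum_range' (Nat.lt_succ_of_le hQ)]
  rw [Finset.sum_comm, Finset.sum_range_succ]
  rw [Finset.sum_eq_zero (fun i hi => ?_), zero_add, ← Finset.mul_sum]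
  · have h : ∀ x : ZMod p, x ^ (p - 1) = 1 - if x = 0 then 1 else 0 := by
      intro x
      rcases eq_or_ne x 0 with rfl | hx
      · simp [zero_pow (show p - 1 ≠ 0 by omega)]
      · simp [hx, ZMod.pow_card_sub_one_eq_one hx]
    simp [h, Finset.sum_sub_distrib]
  · rw [← Finset.mul_sum, FiniteField.sum_pow_lt_card_sub_one, mul_zero]
    rw [ZMod.card]
    exact Finset.mem_range.1 hi

/-- A function with more than `(p-1)/2` non-directions is affine. -/
theorem affine_of_nondirections (hodd : p ≠ 2) (f : ZMod p → ZMod p) (N : Finset (ZMod p))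
    (hN : (p - 1) / 2 < N.card) (hb : ∀ c ∈ N, Function.Injective fun x => f x - c * x) :
    ∃ a b : ZMod p, ∀ x, f x = a * x + b := by
  classical
  have hp := (Fact.out : p.Prime)
  obtain ⟨m, hm⟩ := hp.odd_of_ne_two hodd
  have hh : (p - 1) / 2 = m := by omega
  rw [hh] at hN
  -- the vanishing power sums
  have hS : ∀ i j : ℕ, i + j ≤ m → ∑ x : ZMod p, x ^ i * f x ^ j = 0 := by
    intro i j hij
    set P : (ZMod p)[X] := ∑ x : ZMod p, (C (-x) * X + C (f x)) ^ (i + j) with hP
    have hdeg : P.natDegree ≤ i + j := by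
      refine natDegree_sum_le_of_forall_le _ _ fun x _ => natDegree_pow_le.trans ?_
      have : (C (-x) * X + C (f x)).natDegree ≤ 1 := natDegree_linear_le
      calc (i + j) * _ ≤ (i + j) * 1 := Nat.mul_le_mul_left _ this
        _ = i + j := mul_one _
    have hP0 : P = 0 := by
      refine Polynomial.eq_zero_of_natDegree_lt_card_of_eval_eq_zero' P N (fun c hc => ?_)
        (lt_of_le_of_lt (hdeg.trans hij) hN)
      rw [hP, eval_finsetSum]
      have e := Equiv.sum_comp (Equiv.ofBijective _ (Finite.injective_iff_bijective.1 (hb c hc)))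
        (fun y : ZMod p => y ^ (i + j))
      simp only [Equiv.ofBijective_apply] at e
      rw [FiniteField.sum_pow_lt_card_sub_one (ZMod p) (i + j) (by rw [ZMod.card]; have := hp.two_le; omega)] at e
      rw [← e]
      refine Finset.sum_congr rfl fun x _ => ?_
      simp; ring
    have hc := congrArg (fun Q : (ZMod p)[X] => Q.coeff i) hP0
    simp only [hP, finsetSum_coeff, coeff_zero] at hc
    have term : ∀ x : ZMod p, ((C (-x) * X + C (f x)) ^ (i + j)).coeff i =
        ((-1) ^ i * ((i + j).choose i : ZMod p)) * (x ^ i * f x ^ j) := by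
      intro x
      rw [add_pow, finsetSum_coeff, Finset.sum_eq_single i]
      · rw [mul_pow, ← map_pow, ← map_pow, ← map_natCast C, mul_assoc, mul_assoc, ← map_mul,
          mul_comm (X ^ i), ← mul_assoc, ← map_mul, coeff_C_mul_X_pow, if_pos rfl,
          Nat.add_sub_cancel_left, neg_pow]
        ring
      · intro b _ hb
        rw [mul_pow, ← map_pow, ← map_pow, ← map_natCast C, mul_assoc, mul_assoc, ← map_mul,
          mul_comm (X ^ b), ← mul_assoc, ← map_mul, coeff_C_mul_X_pow, if_neg (Ne.symm hb)]
      · intro h; simp at h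
    simp only [term, ← Finset.mul_sum] at hc
    refine (mul_eq_zero.1 hc).resolve_left ?_
    refine mul_ne_zero (pow_ne_zero _ (neg_ne_zero.2 one_ne_zero)) ?_
    rw [Ne, CharP.cast_eq_zero_iff (ZMod p) p]
    intro hd
    have := hp.dvd_factorial.1 (hd.trans ⟨i.factorial * j.factorial, by
      rw [← Nat.add_choose_mul_factorial_mul_factorial i j, Nat.choose_symm_add]; ring⟩)
    omega
  -- interpolation
  set Q : (ZMod p)[X] := Lagrange.interpolate Finset.univ id f with hQdef
  have hev : ∀ x, Q.eval x = f x := fun x =>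
    Lagrange.eval_interpolate_at_node f Function.injective_id.injOn (Finset.mem_univ x)
  have hdeg : Q.natDegree ≤ p - 1 := by
    rcases eq_or_ne Q 0 with h | h
    · simp [h]
    have := Lagrange.degree_interpolate_lt f (v := (id : ZMod p → ZMod p)) (s := Finset.univ)
      Function.injective_id.injOn
    rw [Finset.card_univ, ZMod.card, ← hQdef, ← natDegree_lt_iff_degree_lt h] at this
    omega
  -- Σ x^b Q(x)^j
  have key : ∀ b j : ℕ, b + j ≤ m → b + j * Q.natDegree = p - 1 → Q.leadingCoeff ^ j = 0 := by
    intro b j h1 h2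
    have hd : (X ^ b * Q ^ j).natDegree ≤ p - 1 := by
      refine natDegree_mul_le.trans ?_
      have := natDegree_pow_le (p := Q) (n := j)
      simp only [natDegree_X_pow]
      omega
    have h := sum_eval_eq_neg_coeff _ hd
    simp only [eval_mul, eval_pow, eval_X, hev, hS b j h1] at h
    have e : p - 1 = j * Q.natDegree + b := by omega
    rwa [eq_comm, neg_eq_zero, e, coeff_X_pow_mul, coeff_pow_mul_natDegree] at h
  have ha : Q.natDegree ≤ 1 := by
    by_contra hlt
    have hlt : 2 ≤ Q.natDegree := by omega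
    have hne : ∀ j, Q.leadingCoeff ^ j ≠ 0 := fun j => pow_ne_zero _
      (leadingCoeff_ne_zero.2 fun h => by simp [h] at hlt)
    set a := Q.natDegree with ha
    by_cases hbig : m < a
    · exact hne 1 (key (p - 1 - a) 1 (by omega) (by omega))
    push Not at hbig
    have hj : 2 ≤ (p - 1) / a := (Nat.le_div_iff_mul_le (by omega)).2 (by omega)
    have hdm := Nat.div_add_mod (p - 1) a
    have hr := Nat.mod_lt (p - 1) (show a > 0 by omega)
    refine hne _ (key ((p - 1) % a) ((p - 1) / a) ?_ (by rw [mul_comm]; omega))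
    rcases Nat.lt_or_ge a 3 with h3 | h3
    · have : a = 2 := by omega
      rw [this] at hdm hr ⊢
      omega
    · have hgen : ∀ A R : ℕ, 2 ≤ A → R < a → a * A + R = 2 * m → R + A ≤ m := by
        intro A R hA hR he
        obtain ⟨k, rfl⟩ := Nat.exists_eq_add_of_le hA
        obtain ⟨l, hl⟩ := Nat.exists_eq_add_of_le h3
        rw [hl] at he hR
        nlinarith [Nat.zero_le (k * l)]
      exact hgen _ _ hj hr (by omega)
  refine ⟨Q.coeff 1, Q.coeff 0, fun x => ?_⟩
  rw [← hev]
  conv_lhs => rw [eq_X_add_C_of_natDegree_le_one ha]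
  simp

end Cfsg.Agent.H68
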