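import Mathlib

/-!
The twisted reverse of a polynomial, `f ↦ f'(0)⁻¹ * reverse f'` for `f' = f.map τ`, and the action of
this operation on the factors of a cyclotomic polynomial of prime order over a finite field.
-/

set_option autoImplicit false
set_option linter.style.haveILetI false

namespace Cfsg.Agent.H68.RootClasses

open Polynomial

variable {F : Type*} [Field F]

/-- The monic twisted reverse. -/
noncomputable def tw (τ : F →+* F) (f : F[X]) : F[X] :=
  C ((f.map τ).coeff 0)⁻¹ * (f.map τ).reverse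

theorem reverse_reverse' {f : F[X]} (h : f.coeff 0 ≠ 0) : f.reverse.reverse = f := by
  have hd : f.reverse.natDegree = f.natDegree := by
    rw [reverse_natDegree, natTrailingDegree_eq_zero.2 (Or.inr h), Nat.sub_zero]
  rw [Polynomial.reverse, hd, Polynomial.reverse, reflect_reflect]

theorem map_reverse' (τ : F →+* F) (f : F[X]) : f.reverse.map τ = (f.map τ).reverse := by
  rw [Polynomial.reverse, Polynomial.reverse, ← reflect_map, natDegree_map]

theorem tw_mul (τ : F →+* F) (f g : F[X]) : tw τ (f * g) = tw τ f * tw τ g := by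
  rw [tw, tw, tw, Polynomial.map_mul, reverse_mul_of_domain, mul_coeff_zero, mul_inv, C_mul]
  ring

theorem tw_one (τ : F →+* F) : tw τ (1 : F[X]) = 1 := by
  rw [tw, Polynomial.map_one, ← C_1, reverse_C, coeff_C_zero, inv_one, C_1, one_mul]

theorem tw_prod (τ : F →+* F) (s : Multiset F[X]) : tw τ s.prod = (s.map (tw τ)).prod := by
  induction s using Multiset.induction_on with
  | empty => simp [tw_one]
  | cons a s ih => rw [Multiset.prod_cons, tw_mul, ih, Multiset.map_cons, Multiset.prod_cons]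

theorem tw_spec (τ : F →+* F) {f : F[X]} (hf : f.Monic) (h0 : f.coeff 0 ≠ 0) :
    (tw τ f).Monic ∧ (tw τ f).natDegree = f.natDegree ∧ (tw τ f).coeff 0 ≠ 0 := by
  have h0' : (f.map τ).coeff 0 ≠ 0 := by
    rw [coeff_map]; exact (_root_.map_ne_zero τ).2 h0
  have hd : (f.map τ).reverse.natDegree = f.natDegree := by
    rw [reverse_natDegree, natTrailingDegree_eq_zero.2 (Or.inr h0'), Nat.sub_zero, natDegree_map]
  have hc : C ((f.map τ).coeff 0)⁻¹ ≠ 0 := by simpa using h0'
  refine ⟨?_, ?_, ?_⟩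
  · rw [Monic, tw, leadingCoeff_mul, leadingCoeff_C, reverse_leadingCoeff,
      trailingCoeff_eq_coeff_zero h0', inv_mul_cancel₀ h0']
  · rw [tw, natDegree_C_mul (by simpa using h0'), hd]
  · rw [tw, coeff_C_mul, coeff_zero_reverse, (hf.map τ).leadingCoeff, mul_one]
    exact inv_ne_zero h0'

theorem tw_tw (τ : F →+* F) (hτ : ∀ x, τ (τ x) = x) {f : F[X]} (hf : f.Monic) (h0 : f.coeff 0 ≠ 0) :
    tw τ (tw τ f) = f := by
  have hmm : (f.map τ).map τ = f := by
    rw [Polynomial.map_map]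
    ext i
    simp [hτ]
  have e : (tw τ f).map τ = C (f.coeff 0)⁻¹ * f.reverse := by
    rw [tw, Polynomial.map_mul, map_C, map_reverse', hmm, coeff_map, map_inv₀, hτ]
  have hc : C (f.coeff 0) * C (f.coeff 0)⁻¹ = 1 := by rw [← C_mul, mul_inv_cancel₀ h0, C_1]
  rw [tw, e, coeff_C_mul, coeff_zero_reverse, hf.leadingCoeff, mul_one, inv_inv, reverse_mul_of_domain,
    reverse_C, reverse_reverse' h0, ← mul_assoc, hc, one_mul]

theorem tw_X_pow_sub_one (τ : F →+* F) {r : ℕ} (hr : r ≠ 0) : tw τ (X ^ r - 1 : F[X]) = X ^ r - 1 := by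
  have hd : (X ^ r - 1 : F[X]).natDegree = r := by rw [← C_1, natDegree_X_pow_sub_C]
  have hrev : (X ^ r - 1 : F[X]).reverse = 1 - X ^ r := by
    rw [Polynomial.reverse, hd, reflect_sub, reflect_monomial, ← C_1, reflect_C, revAt_le le_rfl,
      Nat.sub_self, pow_zero, C_1, one_mul]
  rw [tw, Polynomial.map_sub, Polynomial.map_pow, map_X, Polynomial.map_one, hrev]
  simp [hr.symm]

theorem tw_X_sub_one (τ : F →+* F) : tw τ (X - 1 : F[X]) = X - 1 := by
  have := tw_X_pow_sub_one τ (F := F) (r := 1) one_ne_zero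
  rwa [pow_one] at this

theorem coeff_zero_ne_zero {r : ℕ} (hr : r ≠ 0) {a : F[X]} (ha : a ∣ X ^ r - 1) : a.coeff 0 ≠ 0 := by
  obtain ⟨c, hc⟩ := ha
  intro h
  have := congrArg (fun f : F[X] => f.coeff 0) hc
  simp [h, hr.symm] at this

/-- The twisted reverse preserves irreducibility. -/
theorem tw_irreducible (τ : F →+* F) (hτ : ∀ x, τ (τ x) = x) {a : F[X]} (ha : Irreducible a) (hm : a.Monic)
    (h0 : a.coeff 0 ≠ 0) : Irreducible (tw τ a) := by
  obtain ⟨hbm, hbd, hb0⟩ := tw_spec τ hm h0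
  rw [hbm.irreducible_iff_natDegree]
  refine ⟨fun h => ?_, fun f g hf hg hfg => ?_⟩
  · have h1 := congrArg natDegree h
    rw [hbd, natDegree_one] at h1
    exact ha.natDegree_pos.ne' h1
  · have hf0 : f.coeff 0 ≠ 0 := fun h => hb0 (by rw [← hfg, mul_coeff_zero, h, zero_mul])
    have hg0 : g.coeff 0 ≠ 0 := fun h => hb0 (by rw [← hfg, mul_coeff_zero, h, mul_zero])
    have h2 : tw τ f * tw τ g = a := by rw [← tw_mul, hfg, tw_tw τ hτ hm h0]
    obtain ⟨hfm, hfd, -⟩ := tw_spec τ hf hf0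
    obtain ⟨hgm, hgd, -⟩ := tw_spec τ hg hg0
    have h3 := ((hm.irreducible_iff_natDegree).1 ha).2 (tw τ f) (tw τ g) hfm hgm h2
    omega

/-- The fixed factors of a cyclotomic polynomial: those with `r ∣ Q ^ j + m` for some `j`. -/
theorem tw_eq_self_iff [Fintype F] (p e : ℕ) [Fact p.Prime] [CharP F p] {Q : ℕ}
    (hQ : Fintype.card F = Q) (τ : F →+* F) (hm : ∀ x, τ x = x ^ p ^ e)
    {r i : ℕ} (hr : r.Prime) (hrF : (r : F) ≠ 0) (hi : i = orderOf (Q : ZMod r)) (hi0 : 0 < i)
    {a : F[X]} (ha : Irreducible a) (ham : a.Monic) (hdeg : a.natDegree = i)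
    (hdvd : a ∣ cyclotomic r F) : tw τ a = a ↔ ∃ j, r ∣ Q ^ j + p ^ e := by
  classical
  set m := p ^ e with hmdef
  haveI : Fact r.Prime := ⟨hr⟩
  haveI : Fact (Irreducible a) := ⟨ha⟩
  have hr0 := hr.ne_zero
  have hX : a ∣ X ^ r - 1 := hdvd.trans (cyclotomic_prime_mul_X_sub_one F r ▸ dvd_mul_right _ _)
  have h0 : a.coeff 0 ≠ 0 := coeff_zero_ne_zero hr0 hX
  have hm0 : m ≠ 0 := pow_ne_zero _ (Fact.out (p := p.Prime)).ne_zero
  set ζ := AdjoinRoot.root a
  have haζ : aeval ζ a = 0 := by rw [AdjoinRoot.aeval_eq, AdjoinRoot.mk_self]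
  haveI : NeZero (r : AdjoinRoot a) := ⟨by
    rw [← map_natCast (algebraMap F (AdjoinRoot a))]
    exact (_root_.map_ne_zero _).2 hrF⟩
  have hprim : IsPrimitiveRoot ζ r := by
    rw [← isRoot_cyclotomic_iff, IsRoot, ← map_cyclotomic r (algebraMap F (AdjoinRoot a)), eval_map]
    obtain ⟨c, hc⟩ := hdvd
    rw [hc, eval₂_mul, ← aeval_def, haζ, zero_mul]
  have hζ0 : ζ ≠ 0 := hprim.ne_zero hr0
  set y := (ζ ^ m)⁻¹ with hy
  -- the twisted reverse vanishes at `y`
  have hτz : aeval (ζ ^ m) (a.map τ) = 0 := by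
    haveI : CharP (AdjoinRoot a) p :=
      charP_of_injective_algebraMap (algebraMap F (AdjoinRoot a)).injective p
    let φ : AdjoinRoot a →+* AdjoinRoot a :=
      { toFun := fun x => x ^ m
        map_one' := one_pow m
        map_mul' := fun x z => mul_pow x z m
        map_zero' := zero_pow hm0
        map_add' := fun x z => add_pow_char_pow x z p e }
    have h1 : φ (aeval ζ a) = aeval (ζ ^ m) (a.map τ) := by
      rw [aeval_def, aeval_def, eval₂_map, hom_eval₂]
      congr 1
      refine RingHom.ext fun x => ?_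
      show (algebraMap F (AdjoinRoot a) x) ^ m = algebraMap F (AdjoinRoot a) (τ x)
      rw [hm, map_pow]
    rw [← h1, haζ, map_zero]
  have htw : aeval y (tw τ a) = 0 := by
    haveI : Invertible (ζ ^ m) := invertibleOfNonzero (pow_ne_zero m hζ0)
    have h1 : eval₂ (algebraMap F (AdjoinRoot a)) (⅟(ζ ^ m)) (a.map τ).reverse = 0 :=
      (eval₂_reverse_eq_zero_iff _ _ _).2 hτz
    rw [invOf_eq_inv] at h1
    rw [tw, aeval_def, eval₂_mul, hy, h1, mul_zero]
  have hfix : ∀ (j : ℕ), aeval (ζ ^ Q ^ j) a = 0 := by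
    intro j
    induction j with
    | zero => rw [pow_zero, pow_one]; exact haζ
    | succ j ih =>
      have h1 := congrArg (aeval (ζ ^ Q ^ j)) (FiniteField.expand_card a)
      rw [expand_aeval, map_pow, ih, zero_pow (hQ ▸ Fintype.card_ne_zero), hQ, ← pow_mul, ← pow_succ] at h1
      exact h1
  constructor
  · intro hta
    rw [hta] at htw
    have hroots : (Finset.range i).image (fun j => ζ ^ Q ^ j) = (a.aroots (AdjoinRoot a)).toFinset := by
      refine Finset.eq_of_subset_of_card_le ?_ ?_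
      · intro z hz
        obtain ⟨j, -, rfl⟩ := Finset.mem_image.1 hz
        rw [Multiset.mem_toFinset, mem_aroots]
        exact ⟨ha.ne_zero, hfix j⟩
      · rw [Finset.card_image_of_injOn, Finset.card_range]
        · refine (Multiset.toFinset_card_le _).trans ((card_roots' _).trans ?_)
          rw [natDegree_map, hdeg]
        · intro j hj k hk h
          simp only [Finset.coe_range, Set.mem_Iio] at hj hk
          have h1 := ((hprim.isOfFinOrder hr0).pow_eq_pow_iff_modEq).1 h
          rw [← hprim.eq_orderOf, ← ZMod.natCast_eq_natCast_iff, Nat.cast_pow, Nat.cast_pow,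
            (orderOf_pos_iff.1 (hi ▸ hi0)).pow_eq_pow_iff_modEq, ← hi] at h1
          exact Nat.ModEq.eq_of_lt_of_lt h1 hj hk
    have hymem : y ∈ (a.aroots (AdjoinRoot a)).toFinset := by
      rw [Multiset.mem_toFinset, mem_aroots]
      exact ⟨ha.ne_zero, htw⟩
    rw [← hroots] at hymem
    obtain ⟨j, -, hj⟩ := Finset.mem_image.1 hymem
    refine ⟨j, (hprim.pow_eq_one_iff_dvd _).1 ?_⟩
    rw [pow_add, hj, hy, inv_mul_cancel₀ (pow_ne_zero m hζ0)]
  · rintro ⟨j, hj⟩
    have h1 := (hprim.pow_eq_one_iff_dvd _).2 hj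
    rw [pow_add] at h1
    have hy' : aeval y a = 0 := by
      rw [hy, ← eq_inv_of_mul_eq_one_left h1]
      exact hfix j
    obtain ⟨htm, htd, -⟩ := tw_spec τ ham h0
    have hd : a ∣ tw τ a := by
      have h2 := minpoly.eq_of_irreducible_of_monic ha hy' ham
      have h3 := minpoly.dvd F y htw
      rwa [← h2] at h3
    exact eq_of_monic_of_dvd_of_natDegree_le ham htm hd (by rw [htd])

end Cfsg.Agent.H68.RootClasses
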