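import Mathlib
import Cfsg.Agent.S2568
import Cfsg.Agent.H68.TwistedReverse

/-!
Counting the classes of elements of prime order `r` in a group whose semisimple classes are the
similarity classes fixed by a twisted reversal of the characteristic polynomial.
-/

set_option autoImplicit false
set_option linter.style.haveILetI false

namespace Cfsg.Agent.H68.RootClasses

open Polynomial UniqueFactorizationMonoid
open scoped MatrixGroups

section multisets

variable {α : Type*}

/-- Multisets with at most `M` elements. -/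
def boundedEquivSym [DecidableEq α] (M : ℕ) :
    {u : Multiset α // Multiset.card u ≤ M} ≃ Sym (Option α) M where
  toFun u := ⟨u.1.map some + Multiset.replicate (M - Multiset.card u.1) none, by
    rw [Multiset.card_add, Multiset.card_map, Multiset.card_replicate]
    have := u.2
    omega⟩
  invFun σ := ⟨(σ : Multiset (Option α)).filterMap id, by
    have h := congrArg Multiset.card (S2568.eq_map_some_add_replicate (σ : Multiset (Option α)))
    rw [Multiset.card_add, Multiset.card_map, Multiset.card_replicate, Sym.card_coe] at h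
    omega⟩
  left_inv u := by
    apply Subtype.ext
    show (u.1.map some + Multiset.replicate _ none).filterMap id = u.1
    have hrep : ∀ m : ℕ, (Multiset.replicate m (none : Option α)).filterMap id = 0 := by
      intro m
      induction m with
      | zero => simp
      | succ m ih => rw [Multiset.replicate_succ, Multiset.filterMap_cons_none _ _ rfl, ih]
    rw [Multiset.filterMap_add, Multiset.filterMap_map, hrep, add_zero]
    exact Multiset.filterMap_some _
  right_inv σ := by
    apply Sym.coe_injective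
    show ((σ : Multiset (Option α)).filterMap id).map some + Multiset.replicate _ none =
      (σ : Multiset (Option α))
    conv_rhs => rw [S2568.eq_map_some_add_replicate (σ : Multiset (Option α)), Sym.card_coe]

theorem card_bounded [Fintype α] (M : ℕ) :
    Nat.card {u : Multiset α // Multiset.card u ≤ M} = Nat.choose (M + Nat.card α) (Nat.card α) := by
  classical
  rw [Nat.card_congr (boundedEquivSym M), Nat.card_eq_fintype_card, Sym.card_sym_eq_multichoose,
    Fintype.card_option, Nat.multichoose_eq, Nat.card_eq_fintype_card,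
    show Fintype.card α + 1 + M = M + Fintype.card α + 1 by ring, Nat.add_sub_cancel]
  exact Nat.choose_symm_add

/-- Multisets fixed by a fixed-point-free involution. -/
theorem card_invariant [Fintype α] (σ : α → α) (hσ : ∀ a, σ (σ a) = a) (hne : ∀ a, σ a ≠ a)
    (k N : ℕ) (hk : 0 < k) :
    Nat.card {u : Multiset α // k * Multiset.card u ≤ N ∧ u.map σ = u} =
      Nat.choose (N / (2 * k) + Nat.card α / 2) (Nat.card α / 2) := by
  classical
  let ι := Fintype.equivFin α
  set P : Finset α := Finset.univ.filter (fun a => ι a < ι (σ a)) with hP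
  have hmem : ∀ a, σ a ∉ P ↔ a ∈ P := by
    intro a
    simp only [hP, Finset.mem_filter_univ, hσ, not_lt]
    exact ⟨fun h => lt_of_le_of_ne h fun he => hne a (ι.injective he).symm, le_of_lt⟩
  have hcardP : Nat.card P = Nat.card α / 2 := by
    have himg : P.image σ = Pᶜ := by
      ext a
      rw [Finset.mem_image, Finset.mem_compl]
      constructor
      · rintro ⟨b, hb, rfl⟩
        exact (hmem b).2 hb
      · intro h
        exact ⟨σ a, (hmem (σ a)).1 (by rwa [hσ]), hσ a⟩
    have h1 := congrArg Finset.card himg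
    rw [Finset.card_image_of_injective _ (Function.LeftInverse.injective hσ), Finset.card_compl] at h1
    have h2 := P.card_le_univ
    rw [Nat.card_eq_fintype_card, Fintype.card_coe, Nat.card_eq_fintype_card]
    omega
  have hsplit : ∀ u : Multiset α, u.map σ = u →
      u = u.filter (· ∈ P) + (u.filter (· ∈ P)).map σ := by
    intro u hu
    conv_lhs => rw [← Multiset.filter_add_not (· ∈ P) u]
    congr 1
    conv_lhs => rw [← hu, Multiset.filter_map]
    exact congrArg _ (Multiset.filter_congr fun a _ => hmem a)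
  let f : {u : Multiset α // k * Multiset.card u ≤ N ∧ u.map σ = u} →
      {v : Multiset P // Multiset.card v ≤ N / (2 * k)} := fun u =>
    ⟨(u.1.filter (· ∈ P)).pmap (fun a ha => (⟨a, ha⟩ : P)) (fun a ha => (Multiset.mem_filter.1 ha).2), by
      rw [Multiset.card_pmap, Nat.le_div_iff_mul_le (by omega)]
      have h1 := congrArg Multiset.card (hsplit u.1 u.2.2)
      rw [Multiset.card_add, Multiset.card_map] at h1
      have h2 := u.2.1
      rw [h1] at h2
      linarith⟩
  have hval : ∀ u, (f u).1.map Subtype.val = u.1.filter (· ∈ P) := by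
    intro u
    show ((u.1.filter (· ∈ P)).pmap _ _).map Subtype.val = _
    rw [Multiset.map_pmap]
    simp [Multiset.pmap_eq_map]
  have hf : Function.Bijective f := by
    refine ⟨fun u v h => Subtype.ext ?_, fun v => ?_⟩
    · rw [hsplit u.1 u.2.2, hsplit v.1 v.2.2, ← hval, ← hval, h]
    · obtain ⟨w, hwdef⟩ : ∃ w, w = v.1.map Subtype.val := ⟨_, rfl⟩
      have hwc : Multiset.card w = Multiset.card v.1 := by rw [hwdef, Multiset.card_map]
      have hw : ∀ a ∈ w, a ∈ P := by
        intro a ha
        rw [hwdef] at ha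
        obtain ⟨b, -, rfl⟩ := Multiset.mem_map.1 ha
        exact b.2
      refine ⟨⟨w + w.map σ, ?_, ?_⟩, Subtype.ext (Multiset.map_injective Subtype.val_injective ?_)⟩
      · rw [Multiset.card_add, Multiset.card_map, hwc]
        have h1 := (Nat.le_div_iff_mul_le (by omega)).1 v.2
        linarith
      · rw [Multiset.map_add, Multiset.map_map, show (σ ∘ σ) = id from funext hσ, Multiset.map_id, add_comm]
      · rw [hval]
        show (w + w.map σ).filter (· ∈ P) = v.1.map Subtype.val
        rw [← hwdef]
        rw [Multiset.filter_add, Multiset.filter_eq_self.2 hw, Multiset.filter_eq_nil.2, add_zero]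
        intro a ha
        obtain ⟨b, hb, rfl⟩ := Multiset.mem_map.1 ha
        exact (hmem b).2 (hw b hb)
  rw [Nat.card_congr (Equiv.ofBijective f hf), card_bounded, hcardP]

end multisets

variable {F : Type*} [Field F] [Fintype F] (p e : ℕ) [Fact p.Prime] [CharP F p]
variable {G : Type*} [Group G] {N : ℕ}

open Classical in
/-- The count when fixed-point-free elements are allowed only under the condition `ok`. -/
theorem card_classes_restricted {Q r i t : ℕ} (hQ : Fintype.card F = Q) (hr : r.Prime) (hrp : r ≠ p)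
    (hi : i = orderOf (Q : ZMod r)) (ht : t * i = r - 1)
    (τ : F →+* F) (hτ : ∀ x, τ x = x ^ p ^ e) (hττ : ∀ x, τ (τ x) = x) (ψ : G →* GL (Fin N) F)
    (hconj : ∀ g h : G, g ^ r = 1 → h ^ r = 1 →
      (ψ g : Matrix (Fin N) (Fin N) F).charpoly = (ψ h : Matrix (Fin N) (Fin N) F).charpoly → IsConj g h)
    (ok : Prop) (hN : ok ∨ 0 < N)
    (hnec : ∀ g : G, g ^ r = 1 →
      tw τ (ψ g : Matrix (Fin N) (Fin N) F).charpoly = (ψ g : Matrix (Fin N) (Fin N) F).charpoly ∧
        (ok ∨ (ψ g : Matrix (Fin N) (Fin N) F).charpoly.eval 1 = 0))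
    (hreal : ∀ A : GL (Fin N) F, A ^ r = 1 →
      tw τ (A : Matrix (Fin N) (Fin N) F).charpoly = (A : Matrix (Fin N) (Fin N) F).charpoly →
      (ok ∨ (A : Matrix (Fin N) (Fin N) F).charpoly.eval 1 = 0) →
      ∃ g : G, g ^ r = 1 ∧
        (ψ g : Matrix (Fin N) (Fin N) F).charpoly = (A : Matrix (Fin N) (Fin N) F).charpoly) :
    Nat.card {C : ConjClasses G // ∃ g : G, ConjClasses.mk g = C ∧ orderOf g = r} =
      if (∃ j, r ∣ Q ^ j + p ^ e) then Nat.choose ((if ok then N else N - 1) / i + t) t - 1
      else Nat.choose ((if ok then N else N - 1) / (2 * i) + t / 2) (t / 2) - 1 := by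
  classical
  obtain ⟨M, hM⟩ : ∃ M, M = if ok then N else N - 1 := ⟨_, rfl⟩
  rw [← hM]
  have hMN : M ≤ N := by rw [hM]; split_ifs <;> omega
  have hp := Fact.out (p := p.Prime)
  haveI : Fact r.Prime := ⟨hr⟩
  obtain ⟨f, -, hf⟩ := FiniteField.card F p
  have hcop : p.Coprime r := (Nat.coprime_primes hp hr).2 hrp.symm
  have hrF : (r : F) ≠ 0 := by
    rw [Ne, CharP.cast_eq_zero_iff F p]
    exact fun h => hrp ((Nat.prime_dvd_prime_iff_eq hp hr).1 h).symm
  have hqi : orderOf (ZMod.unitOfCoprime _ (hcop.pow_left (f : ℕ))) = i := by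
    rw [hi, ← orderOf_units, ZMod.coe_unitOfCoprime, ← hf, hQ]
  have hi0 : 0 < i := hqi ▸ orderOf_pos _
  set K : Finset F[X] := (normalizedFactors (cyclotomic r F)).toFinset with hK
  have hKi : ∀ a ∈ K, Irreducible a ∧ a.Monic ∧ a.natDegree = i ∧ a ∣ cyclotomic r F := by
    intro a ha
    rw [hK, Multiset.mem_toFinset] at ha
    refine ⟨irreducible_of_normalized_factor a ha, S2568.monic_of_mem_normalizedFactors ha, ?_,
      dvd_of_mem_normalizedFactors ha⟩
    exact (natDegree_of_mem_normalizedFactors_cyclotomic hf hcop ha).trans hqi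
  have hKcard : Nat.card K = t := by
    rw [Nat.card_eq_fintype_card, Fintype.card_coe, hK, normalizedFactors_cyclotomic_card hf hcop, hqi,
      Nat.totient_prime hr, ← ht, Nat.mul_div_cancel _ hi0]
  have hsplit := cyclotomic_prime_mul_X_sub_one F r
  have hX1 : Irreducible (X - 1 : F[X]) ∧ (X - 1 : F[X]).Monic ∧ (X - 1 : F[X]).natDegree = 1 := by
    rw [← C_1]
    exact ⟨irreducible_X_sub_C 1, monic_X_sub_C 1, natDegree_X_sub_C 1⟩
  have hone : (X - 1 : F[X]) ∉ K := by
    intro h
    have hd := mul_dvd_mul (hKi _ h).2.2.2 (dvd_refl (X - 1 : F[X]))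
    rw [hsplit] at hd
    have hsq : Squarefree (X ^ r - 1 : F[X]) := by
      have := Polynomial.separable_X_pow_sub_C (1 : F) (n := r) hrF one_ne_zero
      rw [C_1] at this
      exact this.squarefree
    exact (hKi _ h).1.not_isUnit (hsq _ hd)
  have hKX : ∀ a : F[X], Irreducible a → a.Monic → a ∣ X ^ r - 1 → a ∈ K ∨ a = X - 1 := by
    intro a hai ham hd
    rw [← hsplit] at hd
    rcases hai.prime.dvd_or_dvd hd with h | h
    · left
      rw [hK, Multiset.mem_toFinset]
      obtain ⟨b, hb, hab⟩ := exists_mem_normalizedFactors_of_dvd (cyclotomic_ne_zero r F) hai h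
      rwa [eq_of_monic_of_associated ham (S2568.monic_of_mem_normalizedFactors hb) hab]
    · exact Or.inr (eq_of_monic_of_associated ham hX1.2.1 (hai.associated_of_dvd hX1.1 h))
  have hKdvd : ∀ a ∈ K, a ∣ X ^ r - 1 := fun a ha =>
    (hKi a ha).2.2.2.trans (hsplit ▸ dvd_mul_right _ _)
  have hσmem : ∀ a ∈ K, tw τ a ∈ K := by
    intro a ha
    obtain ⟨hai, ham, -, -⟩ := hKi a ha
    have h0 := coeff_zero_ne_zero hr.ne_zero (hKdvd a ha)
    obtain ⟨htm, -, -⟩ := tw_spec τ ham h0
    have hd : tw τ a ∣ X ^ r - 1 := by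
      obtain ⟨c, hc⟩ := hKdvd a ha
      exact ⟨tw τ c, by rw [← tw_mul, ← hc, tw_X_pow_sub_one τ hr.ne_zero]⟩
    rcases hKX _ (tw_irreducible τ hττ hai ham h0) htm hd with h | h
    · exact h
    · exfalso
      have h2 := congrArg (tw τ) h
      rw [tw_tw τ hττ ham h0, tw_X_sub_one] at h2
      exact hone (h2 ▸ ha)
  let σ : K → K := fun a => ⟨tw τ a, hσmem a a.2⟩
  let fac : Multiset K → Multiset F[X] := fun u =>
    Multiset.replicate (N - i * Multiset.card u) (X - 1) + u.map Subtype.val
  have hfacmem : ∀ u, ∀ a ∈ fac u, Irreducible a ∧ a.Monic ∧ a ∣ X ^ r - 1 := by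
    intro u a ha
    rcases Multiset.mem_add.1 ha with ha | ha
    · rw [Multiset.eq_of_mem_replicate ha]
      exact ⟨hX1.1, hX1.2.1, hsplit ▸ dvd_mul_left _ _⟩
    · obtain ⟨b, -, rfl⟩ := Multiset.mem_map.1 ha
      exact ⟨(hKi _ b.2).1, (hKi _ b.2).2.1, hKdvd _ b.2⟩
  have hmapdeg : ∀ u : Multiset K, (u.map Subtype.val).map natDegree = u.map fun _ => i := fun u => by
    rw [Multiset.map_map]
    exact Multiset.map_congr rfl (fun b _ => (hKi _ b.2).2.2.1)
  have hfacdeg : ∀ u, i * Multiset.card u ≤ N → (fac u).prod.natDegree = N := by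
    intro u hu
    rw [natDegree_multiset_prod_of_monic _ (fun a ha => (hfacmem u a ha).2.1), Multiset.map_add,
      Multiset.map_replicate, hX1.2.2, hmapdeg, Multiset.sum_add, Multiset.sum_replicate,
      Multiset.map_const', Multiset.sum_replicate, smul_eq_mul, smul_eq_mul, mul_one, mul_comm _ i]
    omega
  have hfacinj : ∀ u v, (fac u).prod = (fac v).prod → u = v := by
    intro u v h1
    have h2 := congrArg normalizedFactors h1
    rw [S2568.normalizedFactors_prod_monic _ (fun a ha => ⟨(hfacmem _ a ha).1, (hfacmem _ a ha).2.1⟩),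
      S2568.normalizedFactors_prod_monic _ (fun a ha => ⟨(hfacmem _ a ha).1, (hfacmem _ a ha).2.1⟩)] at h2
    have hfil : ∀ w : Multiset K, (fac w).filter (· ∈ K) = w.map Subtype.val := by
      intro w
      rw [Multiset.filter_add, Multiset.filter_eq_nil.2 (fun a ha => by
        rw [Multiset.eq_of_mem_replicate ha]; exact hone), zero_add, Multiset.filter_eq_self.2]
      intro a ha
      obtain ⟨b, -, rfl⟩ := Multiset.mem_map.1 ha
      exact b.2
    have h3 := congrArg (Multiset.filter (· ∈ K)) h2
    rw [hfil, hfil] at h3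
    exact Multiset.map_injective Subtype.val_injective h3
  have htwfac : ∀ u, tw τ (fac u).prod = (fac (u.map σ)).prod := by
    intro u
    rw [tw_prod]
    simp only [fac, Multiset.map_add, Multiset.map_replicate, tw_X_sub_one, Multiset.card_map,
      Multiset.map_map]
    rfl
  -- solutions of `g ^ r = 1` and invariant multisets
  have heval : ∀ u : Multiset K, i * Multiset.card u ≤ N →
      ((fac u).prod.eval 1 = 0 ↔ i * Multiset.card u < N) := by
    intro u hu
    rw [eval_multiset_prod, Multiset.prod_eq_zero_iff]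
    constructor
    · intro h
      obtain ⟨a, ha, ha0⟩ := Multiset.mem_map.1 h
      by_contra hlt
      rcases Multiset.mem_add.1 ha with ha' | ha'
      · rw [show N - i * Multiset.card u = 0 by omega, Multiset.replicate_zero] at ha'
        exact Multiset.notMem_zero _ ha'
      · obtain ⟨b, -, rfl⟩ := Multiset.mem_map.1 ha'
        have hd : (X - 1 : F[X]) ∣ (b : F[X]) := by rw [← C_1]; exact dvd_iff_isRoot.2 ha0
        exact hone (eq_of_monic_of_associated (hKi _ b.2).2.1 hX1.2.1
          (hX1.1.associated_of_dvd (hKi _ b.2).1 hd).symm ▸ b.2)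
    · intro h
      refine Multiset.mem_map.2 ⟨X - 1, Multiset.mem_add.2 (Or.inl ?_), by simp⟩
      exact Multiset.mem_replicate.2 ⟨by omega, rfl⟩
  let S := {u : Multiset K // i * Multiset.card u ≤ M ∧ u.map σ = u}
  have hex : ∀ u : S, ∃ g : G, g ^ r = 1 ∧
      (ψ g : Matrix (Fin N) (Fin N) F).charpoly = (fac u.1).prod := by
    intro u
    obtain ⟨A, hA, hAc⟩ := S2568.exists_pow_eq_one (p := p) hcop.symm _
      (fun a ha => (hfacmem u.1 a ha).2) (hfacdeg _ (u.2.1.trans hMN))
    obtain ⟨g, hg, hgc⟩ := hreal A hA (by rw [hAc, htwfac, u.2.2]) (by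
      rw [hAc]
      by_cases hok : ok
      · exact Or.inl hok
      · refine Or.inr ((heval _ (u.2.1.trans hMN)).2 ?_)
        have := u.2.1
        have hM' : M = N - 1 := hM.trans (if_neg hok)
        have := hN.resolve_left hok
        omega)
    exact ⟨g, hg, hgc.trans hAc⟩
  choose g hg1 hg2 using hex
  let Φ : S → {C : ConjClasses G // ∃ g : G, ConjClasses.mk g = C ∧ g ^ r = 1} :=
    fun u => ⟨ConjClasses.mk (g u), g u, rfl, hg1 u⟩
  have hΦ : Function.Bijective Φ := by
    constructor
    · intro u v h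
      have hc : ConjClasses.mk (g u) = ConjClasses.mk (g v) := congrArg Subtype.val h
      apply Subtype.ext
      apply hfacinj
      rw [← hg2, ← hg2]
      obtain ⟨c, hc⟩ := isConj_iff.1 (ConjClasses.mk_eq_mk_iff_isConj.1 hc)
      rw [← hc, map_mul, map_mul, map_inv, Units.val_mul, Units.val_mul, Matrix.coe_units_inv]
      exact (Matrix.charpoly_units_conj (ψ c) _).symm
    · rintro ⟨_, x, rfl, hx⟩
      set P := (ψ x : Matrix (Fin N) (Fin N) F).charpoly with hP
      have hP0 : P ≠ 0 := (Matrix.charpoly_monic _).ne_zero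
      obtain ⟨ms, hms⟩ : ∃ ms, ms = normalizedFactors P := ⟨_, rfl⟩
      have hmsm : ∀ a ∈ ms, a.Monic := fun a ha => S2568.monic_of_mem_normalizedFactors (hms ▸ ha)
      have hprod : ms.prod = P := by
        refine eq_of_monic_of_associated ?_ (Matrix.charpoly_monic _) (hms ▸ prod_normalizedFactors hP0)
        simpa using monic_multiset_prod_of_monic ms id hmsm
      have hcases : ∀ a ∈ ms, a ∈ K ∨ a = X - 1 := by
        intro a ha
        rw [hms] at ha
        have hai := irreducible_of_normalized_factor a ha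
        have hx' : ψ x ^ r = 1 := by rw [← map_pow, hx, map_one]
        exact hKX a hai (S2568.monic_of_mem_normalizedFactors ha)
          (S2568.dvd_of_factor (ψ x) hx' hai (dvd_of_mem_normalizedFactors ha))
      obtain ⟨u, hu⟩ : ∃ u : Multiset K, u.map Subtype.val = ms.filter (· ∈ K) :=
        ⟨(ms.filter (· ∈ K)).pmap (fun a ha => (⟨a, ha⟩ : K)) (fun a ha => (Multiset.mem_filter.1 ha).2), by
          rw [Multiset.map_pmap]; simp [Multiset.pmap_eq_map]⟩
      have hrest : ms.filter (fun a => a ∉ K) =
          Multiset.replicate (Multiset.card (ms.filter (fun a => a ∉ K))) (X - 1) :=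
        Multiset.eq_replicate_of_mem fun a ha =>
          (hcases a (Multiset.mem_of_mem_filter ha)).resolve_left (Multiset.mem_filter.1 ha).2
      have hdegsum : i * Multiset.card u + Multiset.card (ms.filter (fun a => a ∉ K)) = N := by
        have h1 : ms.prod.natDegree = N := by
          rw [hprod, hP, Matrix.charpoly_natDegree_eq_dim, Fintype.card_fin]
        rw [natDegree_multiset_prod_of_monic _ hmsm, ← Multiset.filter_add_not (· ∈ K) ms, ← hu, hrest,
          Multiset.map_add, hmapdeg, Multiset.sum_add,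
          Multiset.map_replicate, hX1.2.2, Multiset.sum_replicate,
          Multiset.map_const', Multiset.sum_replicate, smul_eq_mul, smul_eq_mul, mul_one] at h1
        rw [mul_comm]
        exact h1
      have hfacu : (fac u).prod = P := by
        show (Multiset.replicate (N - i * Multiset.card u) (X - 1) + u.map Subtype.val).prod = P
        rw [show N - i * Multiset.card u = Multiset.card (ms.filter (fun a => a ∉ K)) by omega, ← hrest,
          hu, add_comm, Multiset.filter_add_not, hprod]
      have hinv : u.map σ = u := by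
        apply hfacinj
        rw [← htwfac, hfacu, hP]
        exact (hnec x hx).1
      have huM : i * Multiset.card u ≤ M := by
        rw [hM]
        split_ifs with hok
        · omega
        · have h1 := (hnec x hx).2.resolve_left hok
          rw [← hP, ← hfacu, heval u (by omega)] at h1
          omega
      refine ⟨⟨u, huM, hinv⟩, Subtype.ext ?_⟩
      show ConjClasses.mk (g _) = ConjClasses.mk x
      rw [ConjClasses.mk_eq_mk_iff_isConj]
      exact hconj _ _ (hg1 _) hx ((hg2 _).trans hfacu)
  -- the count of invariant multisets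
  have hS : Nat.card S = if (∃ j, r ∣ Q ^ j + p ^ e) then Nat.choose (M / i + t) t
      else Nat.choose (M / (2 * i) + t / 2) (t / 2) := by
    have hiff : ∀ a : K, σ a = a ↔ ∃ j, r ∣ Q ^ j + p ^ e := fun a =>
      Subtype.ext_iff.trans (tw_eq_self_iff p e hQ τ hτ hr hrF hi hi0 (hKi _ a.2).1 (hKi _ a.2).2.1
        (hKi _ a.2).2.2.1 (hKi _ a.2).2.2.2)
    split_ifs with hj
    · have hid : σ = id := funext fun a => (hiff a).2 hj
      rw [← hKcard, ← card_bounded (α := K) (M / i)]
      refine Nat.card_congr (Equiv.subtypeEquivRight fun u => ?_)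
      rw [hid, Multiset.map_id, Nat.le_div_iff_mul_le hi0, mul_comm]
      exact and_iff_left rfl
    · rw [← hKcard]
      exact card_invariant σ (fun a => Subtype.ext (tw_tw τ hττ (hKi _ a.2).2.1
        (coeff_zero_ne_zero hr.ne_zero (hKdvd _ a.2)))) (fun a h => hj ((hiff a).1 h)) i M hi0
  have hall := (Nat.card_congr (Equiv.ofBijective Φ hΦ)).symm.trans hS
  have hset : {C : ConjClasses G | ∃ g : G, ConjClasses.mk g = C ∧ orderOf g = r} =
      {C : ConjClasses G | ∃ g : G, ConjClasses.mk g = C ∧ g ^ r = 1} \ {ConjClasses.mk 1} := by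
    ext C
    simp only [Set.mem_ofPred_eq, Set.mem_sdiff, Set.mem_singleton_iff]
    constructor
    · rintro ⟨g, rfl, hg⟩
      refine ⟨⟨g, rfl, hg ▸ pow_orderOf_eq_one g⟩, fun h1 => ?_⟩
      rw [ConjClasses.mk_eq_mk_iff_isConj, isConj_one_left] at h1
      exact hr.one_lt.ne (by rw [← hg, h1, orderOf_one])
    · rintro ⟨⟨g, rfl, hg⟩, h1⟩
      exact ⟨g, rfl, orderOf_eq_prime hg fun h => h1 (by rw [h])⟩
  have hmem : ConjClasses.mk (1 : G) ∈
      {C : ConjClasses G | ∃ g : G, ConjClasses.mk g = C ∧ g ^ r = 1} := ⟨1, rfl, one_pow r⟩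
  rw [← Set.coe_ofPred, Nat.card_coe_set_eq, hset, Set.ncard_sdiff_singleton_of_mem hmem,
    ← Nat.card_coe_set_eq, Set.coe_ofPred, hall]
  split_ifs <;> rfl

open Classical in
/-- The main count. -/
theorem card_classes {Q r i t : ℕ} (hQ : Fintype.card F = Q) (hr : r.Prime) (hrp : r ≠ p)
    (hi : i = orderOf (Q : ZMod r)) (ht : t * i = r - 1)
    (τ : F →+* F) (hτ : ∀ x, τ x = x ^ p ^ e) (hττ : ∀ x, τ (τ x) = x) (ψ : G →* GL (Fin N) F)
    (hconj : ∀ g h : G, g ^ r = 1 → h ^ r = 1 →
      (ψ g : Matrix (Fin N) (Fin N) F).charpoly = (ψ h : Matrix (Fin N) (Fin N) F).charpoly → IsConj g h)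
    (hnec : ∀ g : G, g ^ r = 1 →
      tw τ (ψ g : Matrix (Fin N) (Fin N) F).charpoly = (ψ g : Matrix (Fin N) (Fin N) F).charpoly)
    (hreal : ∀ A : GL (Fin N) F, A ^ r = 1 →
      tw τ (A : Matrix (Fin N) (Fin N) F).charpoly = (A : Matrix (Fin N) (Fin N) F).charpoly →
      ∃ g : G, g ^ r = 1 ∧
        (ψ g : Matrix (Fin N) (Fin N) F).charpoly = (A : Matrix (Fin N) (Fin N) F).charpoly) :
    Nat.card {C : ConjClasses G // ∃ g : G, ConjClasses.mk g = C ∧ orderOf g = r} =
      if (∃ j, r ∣ Q ^ j + p ^ e) then Nat.choose (N / i + t) t - 1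
      else Nat.choose (N / (2 * i) + t / 2) (t / 2) - 1 := by
  rw [card_classes_restricted p e hQ hr hrp hi ht τ hτ hττ ψ hconj True (Or.inl trivial)
    (fun g hg => ⟨hnec g hg, Or.inl trivial⟩) (fun A hA h _ => hreal A hA h), if_pos trivial]

end Cfsg.Agent.H68.RootClasses
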