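import Mathlib
import Cfsg.Agent.H68.RootClasses
import Cfsg.Agent.H54.RegularClasses
import Cfsg.Agent.H54.PolyDet
import Cfsg.Agent.H54.SympSemisimple
import Cfsg.Agent.Orthogonal.SemisimpleClasses
import Cfsg.Agent.Orthogonal.StdForms

/-!
Orthogonal groups and the classes of their elements of odd prime order: reciprocity of the characteristic
polynomial, conjugacy from the characteristic polynomial, and invariant forms built from an invariant
alternating form.
-/

set_option autoImplicit false
set_option linter.style.haveILetI false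

namespace Cfsg.Agent.H68.OrthoClasses

open Polynomial Module Matrix

variable {F : Type*} [Field F] {ι : Type} [Fintype ι] [DecidableEq ι]

theorem charpoly_inv_eq (M : Matrix ι ι F) (h : IsUnit M) :
    M⁻¹.charpoly = C (M.charpoly.coeff 0)⁻¹ * M.charpoly.reverse := by
  have h0 : M.charpoly.coeff 0 = (-1) ^ Fintype.card ι * M.det := by
    rw [Matrix.det_eq_sign_charpoly_coeff, ← mul_assoc, ← mul_pow, neg_one_mul, neg_neg, one_pow, one_mul]
  rw [Matrix.charpoly_inv M h, Matrix.reverse_charpoly, h0, mul_inv, ← inv_pow, inv_neg, inv_one,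
    Ring.inverse_eq_inv', C_mul, C_pow, C_neg, C_1]

/-- The characteristic polynomial of an isometry is fixed by the twisted reverse. -/
theorem tw_charpoly (Q : QuadraticForm F (ι → F)) (hQ : Orthogonal.Nondeg Q)
    (g : Cfsg.isometryGroup F (⇑Q)) :
    RootClasses.tw (RingHom.id F) ((g : GL ι F) : Matrix ι ι F).charpoly =
      ((g : GL ι F) : Matrix ι ι F).charpoly := by
  set A := ((g : GL ι F) : Matrix ι ι F) with hA
  set J := LinearMap.toMatrix₂' F Q.polarBilin with hJ
  have hinv : Q.polarBilin.compl₁₂ A.toLin' A.toLin' = Q.polarBilin := by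
    refine LinearMap.ext fun x => LinearMap.ext fun y => ?_
    rw [LinearMap.compl₁₂_apply, Matrix.toLin'_apply, Matrix.toLin'_apply]
    have h := (Orthogonal.mem_isometryGroup_iff _ (g : GL ι F)).1 g.2
    simp only [QuadraticMap.polarBilin_apply_apply, QuadraticMap.polar, ← Matrix.mulVec_add, hA, h]
  have hmat : Aᵀ * J * A = J := by
    rw [hJ]
    conv_rhs => rw [← hinv, LinearMap.toMatrix₂'_compl₁₂, LinearMap.toMatrix'_toLin']
  have hJd : J.det ≠ 0 := by
    intro hd
    obtain ⟨v, hv, hv0⟩ := Matrix.exists_mulVec_eq_zero_iff.2 hd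
    refine hv (hQ v fun y => ?_)
    rw [QuadraticMap.polar_comm, ← Orthogonal.polarBilin_apply',
      ← Matrix.toLinearMap₂'_toMatrix' (R := F) Q.polarBilin, ← hJ, Matrix.toLinearMap₂'_apply', hv0,
      dotProduct_zero]
  have hAu : IsUnit A := (g : GL ι F).isUnit
  have hJu : IsUnit J := (Matrix.isUnit_iff_isUnit_det J).2 (isUnit_iff_ne_zero.2 hJd)
  have hconj : Aᵀ = (hJu.unit : Matrix ι ι F) * A⁻¹ * (hJu.unit⁻¹ : (Matrix ι ι F)ˣ).val := by
    rw [IsUnit.unit_spec]
    have h1 : Aᵀ * J = J * A⁻¹ := by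
      conv_rhs => rw [← hmat, Matrix.mul_assoc, Matrix.mul_assoc,
        Matrix.mul_nonsing_inv A ((Matrix.isUnit_iff_isUnit_det A).1 hAu), Matrix.mul_one]
    rw [← h1, Matrix.mul_assoc, hJu.mul_val_inv, Matrix.mul_one]
  have h2 : A.charpoly = A⁻¹.charpoly := by
    rw [← Matrix.charpoly_transpose A, hconj, Matrix.coe_units_inv]
    exact Matrix.charpoly_units_conj _ _
  rw [RootClasses.tw, Polynomial.map_id, ← charpoly_inv_eq A hAu, ← h2]

/-- Isometries of odd prime order are conjugate as soon as the characteristic polynomials agree. -/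
theorem isConj_of_charpoly [Fintype F] (Q : QuadraticForm F (ι → F)) (hQ : Orthogonal.Nondeg Q) {r : ℕ}
    (hodd : Odd r) (hrF : (r : F) ≠ 0) (g h : Cfsg.isometryGroup F (⇑Q)) (hg : g ^ r = 1) (hh : h ^ r = 1)
    (hc : ((g : GL ι F) : Matrix ι ι F).charpoly = ((h : GL ι F) : Matrix ι ι F).charpoly) : IsConj g h := by
  obtain ⟨c, hc⟩ := isConj_iff.1 (H54.isConj_GL_of_charpoly hrF (g : GL ι F) (h : GL ι F)
    (by rw [← Subgroup.coe_pow, hg, Subgroup.coe_one]) (by rw [← Subgroup.coe_pow, hh, Subgroup.coe_one]) hc)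
  have hc' : c * (g : GL ι F) = (h : GL ι F) * c := by rw [← hc, inv_mul_cancel_right]
  have hh' := congrArg (Units.val (α := Matrix ι ι F)) hc'
  simp only [Units.val_mul] at hh'
  have h1 := Orthogonal.isConj_of_similar hQ (Orthogonal.toO Q g) (Orthogonal.toO Q h) hrF hodd
    (by rw [← map_pow, hg, map_one]) (Orthogonal.glEquiv c) (fun x => by
      rw [Orthogonal.toO_apply, Orthogonal.toO_apply, Orthogonal.glEquiv_apply,
        Orthogonal.glEquiv_apply, Matrix.mulVec_mulVec, Matrix.mulVec_mulVec, hh'])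
  simpa using (Orthogonal.toO Q).symm.toMonoidHom.map_isConj h1

/-- A reciprocal polynomial is the characteristic polynomial of a semisimple symplectic matrix. -/
theorem exists_symp [Fintype F] (p : ℕ) [Fact p.Prime] [CharP F p] (m : ℕ) {f : F[X]} (hf : f.Monic)
    (hd : f.natDegree = 2 * m) (h0 : f.coeff 0 = 1)
    (htw : RootClasses.tw (RingHom.id F) f = f) :
    ∃ g : Matrix.symplecticGroup (Fin m) F, (orderOf g).Coprime p ∧
      (g : Matrix (Fin m ⊕ Fin m) (Fin m ⊕ Fin m) F).charpoly = f := by
  rw [RootClasses.tw, Polynomial.map_id, h0, inv_one, C_1, one_mul] at htw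
  have hrec : ∀ j, j ≤ 2 * m → f.coeff (2 * m - j) = f.coeff j := fun j hj => by
    conv_rhs => rw [← htw, coeff_reverse, hd, revAt_le hj]
  obtain ⟨g, hg, hga⟩ := H54.SympSS.exists_coeff (n := m) p (fun j : Fin m => f.coeff ((j : ℕ) + 1))
  have hgd : (g : Matrix (Fin m ⊕ Fin m) (Fin m ⊕ Fin m) F).charpoly.natDegree = 2 * m := by
    rw [Matrix.charpoly_natDegree_eq_dim, Fintype.card_sum, Fintype.card_fin, two_mul]
  have hlow : ∀ j ≤ m, (g : Matrix (Fin m ⊕ Fin m) (Fin m ⊕ Fin m) F).charpoly.coeff j = f.coeff j := by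
    intro j hj
    cases j with
    | zero =>
      rw [h0, ← H54.SympSS.coeff_charpoly_reciprocal p g 0 (Nat.zero_le _), Nat.sub_zero, ← hgd]
      exact (Matrix.charpoly_monic _).coeff_natDegree
    | succ j => exact hga ⟨j, hj⟩
  refine ⟨g, hg, ?_⟩
  ext j
  rcases le_or_gt j m with hj | hj
  · exact hlow j hj
  rcases le_or_gt j (2 * m) with hj' | hj'
  · rw [← H54.SympSS.coeff_charpoly_reciprocal p g j hj', ← hrec j hj']
    exact hlow _ (by omega)
  · rw [coeff_eq_zero_of_natDegree_lt (hgd ▸ hj'), coeff_eq_zero_of_natDegree_lt (hd ▸ hj')]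

/-- From an invariant alternating form whose radical is fixed, a non-degenerate invariant quadratic form. -/
theorem exists_invariant_form {W : Type*} [AddCommGroup W] [Module F W] [FiniteDimensional F W]
    (h2 : (2 : F) ≠ 0) {r : ℕ} (hodd : Odd r) (hrF : (r : F) ≠ 0) (T : Module.End F W) (hT : T ^ r = 1)
    (B : LinearMap.BilinForm F W) (halt : B.IsAlt) (hinv : ∀ x y, B (T x) (T y) = B x y)
    (hrad : ∀ x, (∀ y, B x y = 0) → T x = x) :
    ∃ Q : QuadraticForm F W, Orthogonal.Nondeg Q ∧ ∀ x, Q (T x) = Q x := by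
  obtain ⟨j, hj⟩ := hodd
  set U : Module.End F W := T - T ^ (r - 1) with hU
  have hlast : ∀ x, T ((T ^ (r - 1)) x) = x := fun x => by
    rw [← Module.End.mul_apply, ← pow_succ', show r - 1 + 1 = r by omega, hT, Module.End.one_apply]
  have hUT : ∀ x, U (T x) = T (U x) := fun x => by
    have hx : (T ^ (r - 1)) (T x) = T ((T ^ (r - 1)) x) := by
      rw [← Module.End.mul_apply, ← Module.End.mul_apply, ← pow_succ, ← pow_succ']
    simp only [U, LinearMap.sub_apply, map_sub, hx]
  have hfix : ∀ x, U x = 0 → T x = x := by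
    intro x hx
    have e : T x = (T ^ (r - 1)) x := sub_eq_zero.1 hx
    have e2 : T (T x) = x := by rw [e, hlast]
    have hp : ∀ i, (T ^ (2 * i)) x = x := by
      intro i
      induction i with
      | zero => rw [Nat.mul_zero, pow_zero, Module.End.one_apply]
      | succ i ih =>
        rw [Nat.mul_succ, pow_add, Module.End.mul_apply, pow_two, Module.End.mul_apply, e2, ih]
    have h0 : (T ^ r) x = T x := by rw [hj, pow_succ', Module.End.mul_apply, hp]
    rw [hT, Module.End.one_apply] at h0
    exact h0.symm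
  have hUK : ∀ x, T x = x → U x = 0 := fun x hx => by
    have hp : ∀ i, (T ^ i) x = x := by
      intro i
      induction i with
      | zero => rw [pow_zero, Module.End.one_apply]
      | succ i ih => rw [pow_succ', Module.End.mul_apply, ih, hx]
    simp only [U, LinearMap.sub_apply, hx, hp, sub_self]
  have hsymm : ∀ x y, B (U y) x = B (U x) y := by
    intro x y
    have h1 : ∀ a b, B (T a) b = B a ((T ^ (r - 1)) b) := fun a b => by
      conv_lhs => rw [← hlast b, hinv]
    have h2' : ∀ a b, B ((T ^ (r - 1)) a) b = B a (T b) := fun a b => by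
      rw [← hinv ((T ^ (r - 1)) a) b, hlast]
    rw [← LinearMap.IsAlt.neg halt y (U x)]
    simp only [U, LinearMap.sub_apply, map_sub, h1, h2', neg_sub]
  have hc := H54.InvForm.isCompl_ker_range hrF T hT 1
  rw [map_one] at hc
  set K := LinearMap.ker (T - 1) with hK
  set R := LinearMap.range (T - 1) with hR
  let P : W →ₗ[F] K := K.projectionOnto R hc
  have hmemK : ∀ x, x ∈ K ↔ T x = x := fun x => by
    rw [hK, LinearMap.mem_ker, LinearMap.sub_apply, Module.End.one_apply, sub_eq_zero]
  have hmemR : ∀ x, T x - x ∈ R := fun x => ⟨x, by simp⟩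
  have hPT : ∀ x, P (T x) = P x := fun x => by
    have h0 : P (T x - x) = 0 := by
      rw [← LinearMap.mem_ker, Submodule.ker_projectionOnto]
      exact hmemR x
    rwa [map_sub, sub_eq_zero] at h0
  let b := Module.finBasis F K
  let L : W →ₗ[F] (Fin (finrank F K) → F) := b.equivFun.toLinearMap ∘ₗ P
  let Q : QuadraticForm F W := LinearMap.BilinMap.toQuadraticMap (LinearMap.comp B U) +
    (QuadraticMap.weightedSumSquares F (fun _ : Fin (finrank F K) => (1 : F))).comp L
  have hQ : ∀ x, Q x = B (U x) x + ∑ i, L x i * L x i := fun x => by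
    simp [Q, QuadraticMap.weightedSumSquares_apply, LinearMap.BilinMap.toQuadraticMap_apply]
  refine ⟨Q, fun x hx => ?_, fun x => ?_⟩
  · have hpol : ∀ y, QuadraticMap.polar Q x y = 2 * (B (U x) y + ∑ i, L x i * L y i) := fun y => by
      simp only [QuadraticMap.polar, hQ, map_add, LinearMap.add_apply, hsymm x y, Pi.add_apply, add_mul,
        mul_add, Finset.sum_add_distrib, mul_comm (L y _) (L x _)]
      ring
    have hx' : ∀ y, B (U x) y + ∑ i, L x i * L y i = 0 := fun y =>
      (mul_eq_zero.1 ((hpol y).symm.trans (hx y))).resolve_left h2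
    have hPx : P x = 0 := by
      refine b.equivFun.map_eq_zero_iff.1 (funext fun i => ?_)
      have h3 := hx' (b i : W)
      have h4 : P (b i : W) = b i := Submodule.projectionOnto_apply_left hc (b i)
      rw [← hsymm, hUK _ ((hmemK _).1 (b i).2), map_zero, LinearMap.zero_apply, zero_add] at h3
      simpa [L, h4, Finsupp.single_apply, Finsupp.single_eq_pi_single, Pi.single_apply] using h3
    have hUx : ∀ y, B (U x) y = 0 := fun y => by
      have h3 := hx' y
      simpa [L, hPx] using h3
    have h5 : T (U x) = U x := hrad _ hUx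
    rw [← hUT] at h5
    have h6 : U (T x - x) = 0 := by rw [map_sub, h5, sub_self]
    have h7 : T x - x = 0 :=
      Submodule.disjoint_def.1 hc.disjoint _ ((hmemK _).2 (hfix _ h6)) (hmemR x)
    have h8 := Submodule.projectionOnto_apply_of_mem_left hc ((hmemK x).2 (sub_eq_zero.1 h7))
    have h9 := congrArg Subtype.val (h8.symm.trans hPx)
    simpa using h9
  · rw [hQ, hQ, hUT, hinv]
    simp [L, hPT]

end Cfsg.Agent.H68.OrthoClasses
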