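import Mathlib
import Cfsg.Agent.H68.OrthoClasses
import Cfsg.Agent.Orthogonal.Plane
import Cfsg.Agent.Symplectic.Alt

/-!
Classes of elements of odd prime order in even-dimensional orthogonal groups: the type of the form is read
off from the number of vectors of norm one, which is congruent to the same number on the fixed space.
-/

set_option autoImplicit false
set_option linter.style.haveILetI false
set_option linter.unusedSectionVars false

namespace Cfsg.Agent.H68.EvenOrtho

open Module QuadraticMap Orthogonal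

variable {F V W : Type*} [Field F] [Finite F] [AddCommGroup V] [Module F V] [FiniteDimensional F V]
  [AddCommGroup W] [Module F W] [FiniteDimensional F W]

/-- `Q` has sign `ε` in dimension `2 * m`, read off from the sphere of radius one. -/
def HasSign (Q : QuadraticForm F V) (m : ℕ) (ε : ℤ) : Prop :=
  (Nat.card F : ℤ) * Nat.card {x : V // Q x = 1} + ε * (Nat.card F : ℤ) ^ m = (Nat.card F : ℤ) ^ (2 * m)

variable {Q : QuadraticForm F V}

theorem HasSign.unique {m : ℕ} {ε ε' : ℤ} (h : HasSign Q m ε) (h' : HasSign Q m ε') : ε = ε' := by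
  unfold HasSign at h h'
  have hq : (Nat.card F : ℤ) ^ m ≠ 0 := pow_ne_zero _ (by exact_mod_cast (Nat.card_pos (α := F)).ne')
  exact mul_right_cancel₀ hq (by linarith)

theorem HasSign.congr {Q' : QuadraticForm F W} (E : W ≃ₗ[F] V) (hE : ∀ x, Q (E x) = Q' x) {m : ℕ} {ε : ℤ}
    (h : HasSign Q m ε) : HasSign Q' m ε := by
  unfold HasSign at h ⊢
  rwa [Nat.card_congr (E.toEquiv.subtypeEquiv (p := fun x => Q' x = 1) (q := fun x => Q x = 1) fun x =>
    show Q' x = 1 ↔ Q (E x) = 1 by rw [hE])]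

theorem sign_frame (hQ : Nondeg Q) {k m : ℕ} {e f : Fin k → V} (h : IsFrame Q e f)
    (ha : Aniso Q (IsFrame.kernel Q e f)) (hn : finrank F V = 2 * m) :
    HasSign Q m (if k = m then 1 else -1) := by
  obtain ⟨h1, h2⟩ := sphereCard_frame h (1 : F)
  have hr := h.finrank_kernel hQ
  have hle := finrank_le_two_of_aniso (h.nondeg_kernel hQ) ha
  rw [sphereCard_top, h2, natCard_eq_pow] at h1
  unfold HasSign
  by_cases hk : k = m
  · subst hk
    rw [if_pos rfl]
    have h0 : finrank F (IsFrame.kernel Q e f) = 0 := by omega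
    have hS : sphereCard Q (IsFrame.kernel Q e f) 1 = 0 := by
      rw [sphereCard, Nat.card_eq_zero]
      refine Or.inl ⟨fun x => ?_⟩
      have hb := Submodule.finrank_eq_zero.1 h0
      have hx : (x.1 : V) = 0 := (Submodule.mem_bot F).1 (hb ▸ x.1.2)
      have := x.2
      rw [hx, QuadraticMap.map_zero] at this
      exact zero_ne_one this
    rw [h0, hS, pow_zero, mul_one, mul_one, mul_zero, add_zero] at h1
    have := congrArg (Nat.cast : ℕ → ℤ) h1
    push_cast at this
    linarith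
  · rw [if_neg hk]
    have h2' : finrank F (IsFrame.kernel Q e f) = 2 := by omega
    obtain rfl : m = k + 1 := by omega
    have hS : sphereCard Q (IsFrame.kernel Q e f) 1 = Nat.card F + 1 :=
      (h.nondeg_kernel hQ).card_sphere_plane h2' (fun x hx => Subtype.ext (ha x x.2 hx)) one_ne_zero
    rw [h2', hS] at h1
    have := congrArg (Nat.cast : ℕ → ℤ) h1
    push_cast at this
    linear_combination this

theorem sign_or (hQ : Nondeg Q) {m : ℕ} (hn : finrank F V = 2 * m) :
    HasSign Q m 1 ∨ HasSign Q m (-1) := by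
  obtain ⟨k, e, f, h, ha⟩ := hQ.exists_frame
  have := sign_frame hQ h ha hn
  by_cases hk : k = m
  · rw [if_pos hk] at this; exact Or.inl this
  · rw [if_neg hk] at this; exact Or.inr this

theorem sign_formPlus (m : ℕ) : HasSign (formPlus F m) m 1 := by
  have := sign_frame (formPlus_nondeg F m) (formPlus_frame F m) (formPlus_aniso F m) (finrank_formPlus F m)
  rwa [if_pos rfl] at this

theorem sign_formMinus (k : ℕ) {a b : F}
    (hab : ∀ z₁ z₂ : F, z₁ ^ 2 + a * z₁ * z₂ + b * z₂ ^ 2 = 0 → z₁ = 0 ∧ z₂ = 0) :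
    HasSign (formMinus F k a b) (k + 1) (-1) := by
  have := sign_frame (formMinus_nondeg k hab) (formMinus_frame F k a b) (formMinus_aniso F k hab)
    (finrank_formMinus F k)
  rwa [if_neg (by omega)] at this

/-- Artin-Schreier and discriminant shift between two rootless normalised quadratics. -/
theorem exists_shift {ζ ζ' : F} (hζ : ∀ t : F, t ^ 2 + t + ζ ≠ 0) (hζ' : ∀ t : F, t ^ 2 + t + ζ' ≠ 0) :
    ∃ t : F, 1 - 2 * t ≠ 0 ∧ ζ' = ζ + (1 - 4 * ζ) * (t - t ^ 2) := by
  classical
  haveI : Fintype F := Fintype.ofFinite F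
  suffices h : ∃ t : F, ζ' = ζ + (1 - 4 * ζ) * (t - t ^ 2) by
    obtain ⟨t, ht⟩ := h
    refine ⟨t, fun hs => ?_, ht⟩
    have h4 : 4 * ζ' = 1 := by linear_combination (4 : F) * ht + (1 - 4 * ζ) * (2 * t - 1) * hs
    have h2 : (2 : F) ≠ 0 := fun h0 => one_ne_zero (α := F) (by linear_combination -h4 + 2 * ζ' * h0)
    refine hζ' (-t) (mul_left_cancel₀ (pow_ne_zero 2 h2) ?_)
    linear_combination h4 + (1 - 2 * t) * hs
  by_cases h2 : (2 : F) = 0
  · let φ : F →+ F := AddMonoidHom.mk' (fun t => t ^ 2 + t) fun a b => by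
      linear_combination a * b * h2
    have hne : (φ.ker : Set F).ncard = 2 := by
      rw [show (φ.ker : Set F) = {0, -1} from ?_, Set.ncard_pair (by simp)]
      ext x
      simp only [SetLike.mem_coe, AddMonoidHom.mem_ker, φ, AddMonoidHom.mk'_apply, Set.mem_insert_iff,
        Set.mem_singleton_iff]
      constructor
      · intro hx
        rcases mul_eq_zero.1 (show x * (x + 1) = 0 by linear_combination hx) with h | h
        · exact Or.inl h
        · exact Or.inr (eq_neg_of_add_eq_zero_left h)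
      · rintro (rfl | rfl) <;> ring
    have hidx : φ.range.index = 2 := by
      have h1 := φ.range.card_mul_index
      have h3 := φ.ker.card_mul_index
      rw [AddSubgroup.index_ker] at h3
      have h4 : Nat.card φ.ker = 2 := by rw [← hne]; exact Nat.card_coe_set_eq _
      rw [h4] at h3
      have hpos : 0 < Nat.card φ.range := Nat.card_pos
      exact Nat.eq_of_mul_eq_mul_left hpos (by rw [h1, ← h3]; ring)
    have hnot : ∀ {z : F}, (∀ t : F, t ^ 2 + t + z ≠ 0) → z ∉ φ.range := by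
      rintro z hz ⟨t, rfl⟩
      exact hz t (by simp only [φ, AddMonoidHom.mk'_apply]; linear_combination (t ^ 2 + t) * h2)
    obtain ⟨t, ht⟩ := (AddSubgroup.add_mem_iff_of_index_two hidx).2
      (iff_of_false (hnot hζ) (hnot hζ'))
    refine ⟨t, ?_⟩
    simp only [φ, AddMonoidHom.mk'_apply] at ht
    linear_combination -ht + (-ζ - 2 * ζ * t ^ 2 + 2 * ζ * t + t ^ 2) * h2
  · have hns : ∀ {z : F}, (∀ t : F, t ^ 2 + t + z ≠ 0) → ¬ IsSquare (1 - 4 * z) := by
      rintro z hz ⟨w, hw⟩
      refine hz ((w - 1) / 2) ?_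
      field_simp
      linear_combination -hw
    have h1 := hns hζ
    have h0 : (1 : F) - 4 * ζ ≠ 0 := fun h => h1 (by rw [h]; exact IsSquare.zero)
    have hsq : IsSquare ((1 - 4 * ζ') / (1 - 4 * ζ)) := by
      have hchar : ringChar F ≠ 2 := fun h => h2 (by
        haveI := ringChar.of_eq h
        exact CharTwo.two_eq_zero)
      have h0' : (1 : F) - 4 * ζ' ≠ 0 := fun h => hns hζ' (by rw [h]; exact IsSquare.zero)
      rw [← quadraticChar_one_iff_isSquare (div_ne_zero h0' h0), div_eq_mul_inv, map_mul,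
        quadraticChar_neg_one_iff_not_isSquare.2 (hns hζ'),
        quadraticChar_neg_one_iff_not_isSquare.2 (fun h => h1 (by simpa using h.inv))]
      norm_num
    obtain ⟨s, hs⟩ := hsq
    refine ⟨(1 + s) / 2, ?_⟩
    field_simp at hs ⊢
    linear_combination -hs

/-- Two spaces of the same dimension and sign are isometric. -/
theorem exists_isometry {Q' : QuadraticForm F W} (hQ : Nondeg Q) (hQ' : Nondeg Q') {k : ℕ}
    (hn : finrank F V = 2 * (k + 1)) (hn' : finrank F W = 2 * (k + 1)) {ε : ℤ}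
    (h : HasSign Q (k + 1) ε) (h' : HasSign Q' (k + 1) ε) :
    ∃ E : W ≃ₗ[F] V, ∀ x, Q (E x) = Q' x := by
  rcases hQ.classify_even hn with ⟨E, hE⟩ | ⟨ζ, E, hζ, hE⟩
  · have he : ε = 1 := (h.congr E hE).unique (sign_formPlus _)
    rcases hQ'.classify_even hn' with ⟨E', hE'⟩ | ⟨ζ', E', hζ', hE'⟩
    · exact ⟨E'.symm.trans E, fun x => by
        rw [LinearEquiv.trans_apply, hE, ← hE', LinearEquiv.apply_symm_apply]⟩
    · have := (h'.congr E' hE').unique (sign_formMinus k (aniso_of_no_root hζ'))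
      omega
  · have he : ε = -1 := (h.congr E hE).unique (sign_formMinus k (aniso_of_no_root hζ))
    rcases hQ'.classify_even hn' with ⟨E', hE'⟩ | ⟨ζ', E', hζ', hE'⟩
    · have := (h'.congr E' hE').unique (sign_formPlus _)
      omega
    · obtain ⟨t, hs, ht⟩ := exists_shift hζ hζ'
      let T : ((Fin k ⊕ Fin k) ⊕ Fin 2 → F) →ₗ[F] ((Fin k ⊕ Fin k) ⊕ Fin 2 → F) :=
        { toFun := fun v => Sum.elim (fun s => v (.inl s))
            ![v (.inr 0) + t * v (.inr 1), (1 - 2 * t) * v (.inr 1)]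
          map_add' := fun v w => by
            funext s; rcases s with s | j
            · rfl
            · fin_cases j <;> simp <;> ring
          map_smul' := fun l v => by
            funext s; rcases s with s | j
            · rfl
            · fin_cases j <;> simp <;> ring }
      have hinj : Function.Injective T := by
        rw [← LinearMap.ker_eq_bot, eq_bot_iff]
        intro v hv
        have e1 : (1 - 2 * t) * v (.inr 1) = 0 := congrFun hv (.inr 1)
        have e0 : v (.inr 0) + t * v (.inr 1) = 0 := congrFun hv (.inr 0)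
        have hv1 := (mul_eq_zero.1 e1).resolve_left hs
        funext s; rcases s with s | j
        · exact congrFun hv (.inl s)
        · fin_cases j
          · show v (.inr 0) = 0
            simpa [hv1] using e0
          · exact hv1
      have hT : ∀ x, formMinus F k 1 ζ (T x) = formMinus F k 1 ζ' x := fun x => by
        simp only [T, formMinus_coe, Cfsg.quadFormMinus, LinearMap.coe_mk, AddHom.coe_mk, Sum.elim_inl,
          Sum.elim_inr, Matrix.cons_val_zero, Matrix.cons_val_one]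
        congr 1
        linear_combination -(x (.inr 1) ^ 2) * ht
      refine ⟨(E'.symm.trans (LinearEquiv.ofInjectiveEndo T hinj)).trans E, fun x => ?_⟩
      rw [LinearEquiv.trans_apply, LinearEquiv.trans_apply, hE, LinearEquiv.coe_ofInjectiveEndo, hT, ← hE',
        LinearEquiv.apply_symm_apply]

/-- Isometries of prime order preserve the sphere count modulo that prime, up to the fixed points. -/
theorem sphere_fixed {r : ℕ} [Fact r.Prime] (T : Module.End F V) (hT : T ^ r = 1)
    (hQT : ∀ x, Q (T x) = Q x) :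
    (Nat.card {x : V // Q x = 1} : ZMod r) = Nat.card {x : V // Q x = 1 ∧ T x = x} := by
  classical
  haveI : Finite V := Module.finite_of_finite F
  haveI : Fintype {x : V // Q x = 1} := Fintype.ofFinite _
  have hlast : ∀ x, T ((T ^ (r - 1)) x) = x ∧ (T ^ (r - 1)) (T x) = x := fun x => by
    have hr1 : r - 1 + 1 = r := Nat.sub_add_cancel (Fact.out (p := r.Prime)).one_le
    constructor
    · rw [← Module.End.mul_apply, ← pow_succ', hr1, hT, Module.End.one_apply]
    · rw [← Module.End.mul_apply, ← pow_succ, hr1, hT, Module.End.one_apply]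
  let σ : Equiv.Perm {x : V // Q x = 1} :=
    { toFun := fun x => ⟨T x.1, (hQT x.1).trans x.2⟩
      invFun := fun x => ⟨(T ^ (r - 1)) x.1, by
        have h := x.2
        rwa [← (hlast x.1).1, hQT] at h⟩
      left_inv := fun x => Subtype.ext (hlast x.1).2
      right_inv := fun x => Subtype.ext (hlast x.1).1 }
  have hpow : ∀ i x, ((σ ^ i) x).1 = (T ^ i) x.1 := by
    intro i
    induction i with
    | zero => intro x; rfl
    | succ i ih =>
      intro x
      rw [pow_succ', pow_succ', Equiv.Perm.mul_apply, Module.End.mul_apply, ← ih]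
      rfl
  have hσ : σ ^ r ^ 1 = 1 := by
    ext x
    rw [pow_one, hpow, hT]
    rfl
  have h := (ZMod.natCast_eq_natCast_iff _ _ r).2 (Equiv.Perm.card_compl_support_modEq hσ)
  rw [← Nat.card_eq_fintype_card, ← Fintype.card_coe, ← Nat.card_eq_fintype_card] at h
  rw [← h]
  congr 1
  refine Nat.card_congr
    { toFun := fun x => ⟨x.1.1, x.1.2, by
        have := x.2
        rw [Finset.mem_compl, Equiv.Perm.mem_support, not_not] at this
        exact congrArg Subtype.val this⟩
      invFun := fun x => ⟨⟨x.1, x.2.1⟩, by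
        rw [Finset.mem_compl, Equiv.Perm.mem_support, not_not]
        exact Subtype.ext x.2.2⟩
      left_inv := fun x => rfl
      right_inv := fun x => rfl }

/-- The congruence between the sign of a space and the sign of the fixed space of an isometry. -/
theorem sign_congr {r : ℕ} [Fact r.Prime] (T : Module.End F V) (hT : T ^ r = 1) (hQT : ∀ x, Q (T x) = Q x)
    {m j : ℕ} {ε ε₀ : ℤ} (h : HasSign Q m ε)
    (hfix : (Nat.card F : ℤ) * Nat.card {x : V // Q x = 1 ∧ T x = x} + ε₀ * (Nat.card F : ℤ) ^ j =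
      (Nat.card F : ℤ) ^ (2 * j)) :
    (Nat.card F : ZMod r) ^ (2 * m) - ε * (Nat.card F : ZMod r) ^ m =
      (Nat.card F : ZMod r) ^ (2 * j) - ε₀ * (Nat.card F : ZMod r) ^ j := by
  have h1 := congrArg (Int.cast : ℤ → ZMod r) h
  have h2 := congrArg (Int.cast : ℤ → ZMod r) hfix
  push_cast at h1 h2
  rw [sphere_fixed T hT hQT] at h1
  linear_combination -h1 + h2

/-- The sign of a space with a fixed-point-free isometry of order `r`. -/
theorem sign_of_free {r : ℕ} [Fact r.Prime] (hq : (Nat.card F : ZMod r) ≠ 0) (T : Module.End F V)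
    (hT : T ^ r = 1) (hQT : ∀ x, Q (T x) = Q x) (hfree : ∀ x, T x = x → x = 0) {m : ℕ} {ε : ℤ}
    (h : HasSign Q m ε) : (Nat.card F : ZMod r) ^ m = ε := by
  have h0 : Nat.card {x : V // Q x = 1 ∧ T x = x} = 0 := by
    rw [Nat.card_eq_zero]
    exact Or.inl ⟨fun x => zero_ne_one (α := F) (by rw [← x.2.1, hfree _ x.2.2, QuadraticMap.map_zero])⟩
  have h1 := sign_congr (r := r) T hT hQT h (j := 0) (ε₀ := 1) (by rw [h0]; simp)
  refine mul_left_cancel₀ (pow_ne_zero m hq) ?_
  rw [two_mul, pow_add] at h1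
  push_cast at h1
  linear_combination h1

theorem exists_no_root : ∃ ζ : F, ∀ t : F, t ^ 2 + t + ζ ≠ 0 := by
  by_contra hc
  push Not at hc
  have hsurj : Function.Surjective fun t : F => -(t ^ 2 + t) := fun z => by
    obtain ⟨t, ht⟩ := hc z
    exact ⟨t, show -(t ^ 2 + t) = z by linear_combination -ht⟩
  have := Finite.injective_iff_surjective.2 hsurj (a₁ := 0) (a₂ := -1) (by simp)
  simp at this

/-- A form of prescribed sign invariant under a symplectic element of odd prime order. -/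
theorem exists_form {r : ℕ} [Fact r.Prime] (hr2 : r ≠ 2) (hrF : (r : F) ≠ 0)
    (hq : (Nat.card F : ZMod r) ≠ 0) (T : Module.End F V) (hT : T ^ r = 1) (B : LinearMap.BilinForm F V)
    (halt : B.IsAlt) (hinv : ∀ x y, B (T x) (T y) = B x y) (hB : ∀ x, (∀ y, B x y = 0) → x = 0)
    {m : ℕ} (hn : finrank F V = 2 * m) {ε : ℤ} (hε : ε = 1 ∨ ε = -1)
    (hok : (Nat.card F : ZMod r) ^ m = ε ∨ ∃ x, T x = x ∧ x ≠ 0) :
    ∃ Q : QuadraticForm F V, Nondeg Q ∧ (∀ x, Q (T x) = Q x) ∧ HasSign Q m ε := by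
  classical
  have hodd : Odd r := (Fact.out (p := r.Prime)).odd_of_ne_two hr2
  haveI : Fact (2 < r) := ⟨lt_of_le_of_ne (Fact.out (p := r.Prime)).two_le hr2.symm⟩
  have hpm : ∀ {a b : ℤ}, (a = 1 ∨ a = -1) → (b = 1 ∨ b = -1) → (a : ZMod r) = b → a = b := by
    intro a b ha hb hab
    rcases ha with rfl | rfl <;> rcases hb with rfl | rfl <;>
      first
        | rfl
        | (exfalso; push_cast at hab; first | exact ZMod.neg_one_ne_one hab | exact ZMod.neg_one_ne_one hab.symm)
  obtain ⟨c, hc⟩ := hodd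
  set U : Module.End F V := T - T ^ (r - 1) with hU
  have hlast : ∀ x, T ((T ^ (r - 1)) x) = x := fun x => by
    rw [← Module.End.mul_apply, ← pow_succ', show r - 1 + 1 = r by omega, hT, Module.End.one_apply]
  have hfix : ∀ x, U x = 0 → T x = x := by
    intro x hx
    have e : T x = (T ^ (r - 1)) x := sub_eq_zero.1 hx
    have e2 : T (T x) = x := by rw [e, hlast]
    have hp : ∀ i, (T ^ (2 * i)) x = x := by
      intro i
      induction i with
      | zero => rw [Nat.mul_zero, pow_zero, Module.End.one_apply]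
      | succ i ih =>
        rw [Nat.mul_succ, pow_add, Module.End.mul_apply, pow_two, Module.End.mul_apply, e2, ih]
    have h0 : (T ^ r) x = T x := by rw [hc, pow_succ', Module.End.mul_apply, hp]
    rw [hT, Module.End.one_apply] at h0
    exact h0.symm
  have hTa : ∀ a b, B (T a) b = B a ((T ^ (r - 1)) b) := fun a b => by
    conv_lhs => rw [← hlast b, hinv]
  have hsymm : ∀ x y, B (T x) y + B (T y) x = B (U x) y := by
    intro x y
    have h2' : B ((T ^ (r - 1)) x) y = B x (T y) := by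
      rw [← hinv ((T ^ (r - 1)) x) y, hlast]
    rw [← LinearMap.IsAlt.neg halt x (T y)]
    simp only [U, LinearMap.sub_apply, map_sub, h2']
    ring
  have hcpl := H54.InvForm.isCompl_ker_range hrF T hT 1
  rw [map_one] at hcpl
  set K := LinearMap.ker (T - 1) with hK
  set R := LinearMap.range (T - 1) with hR
  let P : V →ₗ[F] K := K.projectionOnto R hcpl
  have hmemK : ∀ x, x ∈ K ↔ T x = x := fun x => by
    rw [hK, LinearMap.mem_ker, LinearMap.sub_apply, Module.End.one_apply, sub_eq_zero]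
  have hmemR : ∀ x, T x - x ∈ R := fun x => ⟨x, by simp⟩
  have hPT : ∀ x, P (T x) = P x := fun x => by
    have h0 : P (T x - x) = 0 := by
      rw [← LinearMap.mem_ker, Submodule.ker_projectionOnto]
      exact hmemR x
    rwa [map_sub, sub_eq_zero] at h0
  have hUK : ∀ x y, T y = y → B (U x) y = 0 := fun x y hy => by
    have hy' : (T ^ (r - 1)) y = y := by
      have hp : ∀ i, (T ^ i) y = y := by
        intro i
        induction i with
        | zero => rw [pow_zero, Module.End.one_apply]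
        | succ i ih => rw [pow_succ', Module.End.mul_apply, ih, hy]
      exact hp _
    have h2' : B ((T ^ (r - 1)) x) y = B x (T y) := by
      rw [← hinv ((T ^ (r - 1)) x) y, hlast]
    simp only [U, LinearMap.sub_apply, map_sub, hTa, h2', hy, hy', sub_self]
  -- the fixed space has even dimension
  obtain ⟨j, k', bK, -, hrad⟩ := Symplectic.exists_hyp_basis (B.compl₁₂ K.subtype K.subtype)
    (fun x => halt (x : V))
  have hk' : k' = 0 := by
    rcases Nat.eq_zero_or_pos k' with h | h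
    · exact h
    exfalso
    set w := bK (Sum.inr ⟨0, h⟩)
    refine bK.ne_zero _ (Subtype.ext (hB (w : V) fun v => ?_))
    obtain ⟨a, ha, b, hb, rfl⟩ := Submodule.mem_sup.1
      (show v ∈ K ⊔ R by rw [hcpl.sup_eq_top]; trivial)
    obtain ⟨z, rfl⟩ := hb
    have hw := (hmemK _).1 w.2
    have h1 := hrad ⟨0, h⟩ ⟨a, ha⟩
    simp only [LinearMap.compl₁₂_apply, Submodule.coe_subtype] at h1
    rw [map_add, h1, zero_add, LinearMap.sub_apply, Module.End.one_apply, map_sub]
    nth_rw 1 [← hw]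
    rw [hinv, sub_self]
  have hKj : finrank F K = 2 * j := by
    rw [Module.finrank_eq_card_basis bK, Fintype.card_sum, Fintype.card_sum, Fintype.card_fin,
      Fintype.card_fin, hk']
    omega
  -- forms built from a form on the fixed space
  have hbuild : ∀ {ι : Type} [Fintype ι] (q₀ : QuadraticForm F (ι → F)), Nondeg q₀ →
      ∀ (L : K ≃ₗ[F] (ι → F)) (ε₀ : ℤ), HasSign q₀ j ε₀ →
      ∃ Q : QuadraticForm F V, ∃ ε' : ℤ, Nondeg Q ∧ (∀ x, Q (T x) = Q x) ∧ HasSign Q m ε' ∧
        (ε' = 1 ∨ ε' = -1) ∧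
        (Nat.card F : ZMod r) ^ (2 * m) - ε' * (Nat.card F : ZMod r) ^ m =
          (Nat.card F : ZMod r) ^ (2 * j) - ε₀ * (Nat.card F : ZMod r) ^ j := by
    intro ι _ q₀ hq₀ L ε₀ hs₀
    let Q : QuadraticForm F V := LinearMap.BilinMap.toQuadraticMap (LinearMap.comp B T) +
      q₀.comp (L.toLinearMap ∘ₗ P)
    have hQ : ∀ x, Q x = B (T x) x + q₀ (L (P x)) := fun x => rfl
    have hQi : ∀ x, Q (T x) = Q x := fun x => by rw [hQ, hQ, hPT, hinv]
    have hQn : Nondeg Q := by
      intro x hx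
      have hpol : ∀ y, B (U x) y + polar q₀ (L (P x)) (L (P y)) = 0 := fun y => by
        have h := hx y
        simp only [polar, hQ, map_add, LinearMap.add_apply] at h
        rw [← hsymm, polar]
        linear_combination h
      have hPx : P x = 0 := by
        refine L.map_eq_zero_iff.1 (hq₀ _ fun u => ?_)
        have h := hpol (L.symm u : V)
        rw [hUK _ _ ((hmemK _).1 (L.symm u).2), zero_add,
          show P (L.symm u : V) = L.symm u from Submodule.projectionOnto_apply_left hcpl _,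
          L.apply_symm_apply] at h
        exact h
      have hUx : U x = 0 := hB _ fun y => by
        have h := hpol y
        rwa [hPx, map_zero, polar_zero_left, add_zero] at h
      have h8 := Submodule.projectionOnto_apply_of_mem_left hcpl ((hmemK x).2 (hfix x hUx))
      simpa using congrArg Subtype.val (h8.symm.trans hPx)
    have hfc : Nat.card {x : V // Q x = 1 ∧ T x = x} = Nat.card {u : ι → F // q₀ u = 1} := by
      refine Nat.card_congr
        { toFun := fun x => ⟨L ⟨x.1, (hmemK _).2 x.2.2⟩, ?_⟩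
          invFun := fun u => ⟨(L.symm u.1 : V), ?_, (hmemK _).1 (L.symm u.1).2⟩
          left_inv := fun x => by simp
          right_inv := fun u => by simp }
      · have h := x.2.1
        rw [hQ, x.2.2, LinearMap.IsAlt.self_eq_zero halt, zero_add,
          show P x.1 = ⟨x.1, (hmemK _).2 x.2.2⟩ from Submodule.projectionOnto_apply_of_mem_left hcpl _] at h
        exact h
      · rw [hQ, (hmemK _).1 (L.symm u.1).2, LinearMap.IsAlt.self_eq_zero halt, zero_add,
          show P (L.symm u.1 : V) = L.symm u.1 from Submodule.projectionOnto_apply_left hcpl _,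
          L.apply_symm_apply]
        exact u.2
    have hfs : (Nat.card F : ℤ) * Nat.card {x : V // Q x = 1 ∧ T x = x} + ε₀ * (Nat.card F : ℤ) ^ j =
        (Nat.card F : ℤ) ^ (2 * j) := by rw [hfc]; exact hs₀
    rcases sign_or hQn hn with hs | hs
    · exact ⟨Q, 1, hQn, hQi, hs, Or.inl rfl, sign_congr T hT hQi hs hfs⟩
    · exact ⟨Q, -1, hQn, hQi, hs, Or.inr rfl, sign_congr T hT hQi hs hfs⟩
  obtain ⟨Qp, εp, hnp, hip, hsp, hεp, hcp⟩ := hbuild (formPlus F j) (formPlus_nondeg F j)
    (LinearEquiv.ofFinrankEq _ _ (by rw [hKj, finrank_formPlus])) 1 (sign_formPlus j)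
  rcases Nat.eq_zero_or_pos j with hj | hj
  · refine ⟨Qp, hnp, hip, ?_⟩
    have hfree : ∀ x, T x = x → x = 0 := fun x hx => by
      have hbot : K = ⊥ := Submodule.finrank_eq_zero.1 (by omega)
      exact (Submodule.mem_bot F).1 (hbot ▸ (hmemK x).2 hx)
    have hok' : (Nat.card F : ZMod r) ^ m = ε :=
      hok.resolve_right fun ⟨x, hx, hx0⟩ => hx0 (hfree x hx)
    have := sign_of_free hq T hT hip hfree hsp
    rwa [hpm hεp hε (this.symm.trans hok')] at hsp
  · obtain ⟨j', rfl⟩ : ∃ j', j = j' + 1 := ⟨j - 1, by omega⟩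
    obtain ⟨ζ, hζ⟩ := exists_no_root (F := F)
    obtain ⟨Qm, εm, hnm, him, hsm, hεm, hcm⟩ := hbuild (formMinus F j' 1 ζ)
      (formMinus_nondeg j' (aniso_of_no_root hζ))
      (LinearEquiv.ofFinrankEq _ _ (by rw [hKj, finrank_formMinus])) (-1)
      (sign_formMinus j' (aniso_of_no_root hζ))
    have hne : εp ≠ εm := by
      intro he
      rw [he] at hcp
      have h3 : (2 : ZMod r) * (Nat.card F : ZMod r) ^ (j' + 1) = 0 := by
        push_cast at hcp hcm
        linear_combination hcp - hcm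
      rcases mul_eq_zero.1 h3 with h4 | h4
      · exact ZMod.neg_one_ne_one (show (-1 : ZMod r) = 1 by linear_combination -h4)
      · exact pow_ne_zero _ hq h4
    by_cases he : εp = ε
    · exact ⟨Qp, hnp, hip, he ▸ hsp⟩
    · refine ⟨Qm, hnm, him, ?_⟩
      obtain rfl : εm = ε := by omega
      exact hsm

section count

open Polynomial Matrix

theorem eval_one_charpoly {F : Type*} [Field F] {κ : Type} [Fintype κ] [DecidableEq κ] (M : Matrix κ κ F) :
    M.charpoly.eval 1 = 0 ↔ ∃ x, Matrix.toLin' M x = x ∧ x ≠ 0 := by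
  rw [Matrix.eval_charpoly, ← Matrix.exists_mulVec_eq_zero_iff]
  constructor
  · rintro ⟨v, hv, hv0⟩
    refine ⟨v, ?_, hv⟩
    rw [Matrix.sub_mulVec, sub_eq_zero] at hv0
    rw [Matrix.toLin'_apply, ← hv0]
    simp
  · rintro ⟨v, hv, hv0⟩
    refine ⟨v, hv0, ?_⟩
    rw [Matrix.toLin'_apply] at hv
    rw [Matrix.sub_mulVec, hv]
    simp

open Classical in
/-- Every reciprocal root-of-unity polynomial of the right sign is the characteristic polynomial of an
isometry. -/
theorem exists_isometry_charpoly {F : Type*} [Field F] [Fintype F] (p : ℕ) {q : ℕ} [Fact p.Prime] [CharP F p]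
    (hF : Fintype.card F = q) {ι : Type} [Fintype ι] [DecidableEq ι] (Q₀ : QuadraticForm F (ι → F))
    (hQ₀ : Nondeg Q₀) {k : ℕ} (hι : Fintype.card ι = 2 * (k + 1)) {ε : ℤ} (hε : ε = 1 ∨ ε = -1)
    (hs : HasSign Q₀ (k + 1) ε) {r : ℕ} [Fact r.Prime] (hr2 : r ≠ 2) (hrp : r ≠ p)
    (A : GL (Fin (2 * (k + 1))) F) (hA : A ^ r = 1)
    (htw : RootClasses.tw (RingHom.id F) (A : Matrix (Fin (2 * (k + 1))) (Fin (2 * (k + 1))) F).charpoly =
      (A : Matrix (Fin (2 * (k + 1))) (Fin (2 * (k + 1))) F).charpoly)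
    (hok : (q : ZMod r) ^ (k + 1) = ε ∨
      (A : Matrix (Fin (2 * (k + 1))) (Fin (2 * (k + 1))) F).charpoly.eval 1 = 0) :
    ∃ a ∈ Cfsg.isometryGroup F ⇑Q₀, a ^ r = 1 ∧ (a : Matrix ι ι F).charpoly =
      (A : Matrix (Fin (2 * (k + 1))) (Fin (2 * (k + 1))) F).charpoly := by
  have hr := Fact.out (p := r.Prime)
  have hp := Fact.out (p := p.Prime)
  have hqc : (Nat.card F : ZMod r) = q := by rw [Nat.card_eq_fintype_card, hF]
  have hrc : r.Coprime p := (Nat.coprime_primes hr hp).2 hrp
  have hco : ∀ {H : Type _} [Monoid H] (x : H), x ^ r = 1 → (orderOf x).Coprime p := fun x hx =>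
    Nat.Coprime.coprime_dvd_left (orderOf_dvd_of_pow_eq_one hx) hrc
  have hrF : (r : F) ≠ 0 := by
    rw [Ne, CharP.cast_eq_zero_iff F p]
    exact fun h => hrp ((Nat.prime_dvd_prime_iff_eq hp hr).1 h).symm
  have hq0 : (Nat.card F : ZMod r) ≠ 0 := by
    obtain ⟨f, -, hf⟩ := FiniteField.card F p
    rw [Nat.card_eq_fintype_card, hf, Nat.cast_pow]
    refine pow_ne_zero _ ?_
    rw [Ne, ZMod.natCast_eq_zero_iff]
    exact fun h => hrp ((Nat.prime_dvd_prime_iff_eq hr hp).1 h)
  have hev : ∀ {κ : Type} [Fintype κ] [DecidableEq κ] (M : Matrix κ κ F),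
      M.charpoly.eval 1 = 0 ↔ ∃ x, Matrix.toLin' M x = x ∧ x ≠ 0 := fun M => eval_one_charpoly M
  set f := (A : Matrix (Fin (2 * (k + 1))) (Fin (2 * (k + 1))) F).charpoly with hf
  have hfm : f.Monic := Matrix.charpoly_monic _
  have hfd : f.natDegree = 2 * (k + 1) := by rw [hf, Matrix.charpoly_natDegree_eq_dim, Fintype.card_fin]
  have hdet : f.coeff 0 = (A : Matrix (Fin (2 * (k + 1))) (Fin (2 * (k + 1))) F).det := by
    rw [Matrix.det_eq_sign_charpoly_coeff, ← hf, Fintype.card_fin, pow_mul, neg_one_sq,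
      one_pow, one_mul]
  have hdr : f.coeff 0 ^ r = 1 := by
    rw [hdet, ← Matrix.det_pow, ← Units.val_pow_eq_pow_val, hA, Units.val_one, Matrix.det_one]
  have hd0 : f.coeff 0 ≠ 0 := fun h => by rw [h, zero_pow hr.ne_zero] at hdr; exact zero_ne_one hdr
  have hd1 : f.coeff 0 = 1 := by
    have h := congrArg (fun P : F[X] => P.coeff 0) htw
    simp only [RootClasses.tw, Polynomial.map_id, coeff_C_mul, coeff_zero_reverse, hfm.leadingCoeff,
      mul_one] at h
    have hsq : f.coeff 0 ^ 2 = 1 := by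
      rw [_root_.sq]
      nth_rewrite 2 [← h]
      exact mul_inv_cancel₀ hd0
    have h' := pow_gcd_eq_one.2 ⟨hsq, hdr⟩
    rwa [Nat.Coprime.gcd_eq_one ((Nat.coprime_primes Nat.prime_two hr).2 hr2.symm), pow_one] at h'
  obtain ⟨g₀, hg₀, hg₀c⟩ := OrthoClasses.exists_symp p (k + 1) hfm hfd hd1 htw
  let eS : Fin (k + 1) ⊕ Fin (k + 1) ≃ Fin (2 * (k + 1)) := finSumFinEquiv.trans (finCongr (two_mul (k + 1)).symm)
  let φ : Matrix.symplecticGroup (Fin (k + 1)) F →* GL (Fin (k + 1) ⊕ Fin (k + 1)) F :=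
    (Matrix.symplecticGroup (Fin (k + 1)) F).subtype.toHomUnits
  let ρ : GL (Fin (k + 1) ⊕ Fin (k + 1)) F →* GL (Fin (2 * (k + 1))) F :=
    Units.map (Matrix.reindexAlgEquiv F F eS).toMonoidHom
  have hρc : (ρ (φ g₀) : Matrix (Fin (2 * (k + 1))) (Fin (2 * (k + 1))) F).charpoly = f :=
    (Matrix.charpoly_reindex _ _).trans hg₀c
  have hφr : φ g₀ ^ r = 1 := by
    have hco2 : (orderOf (ρ (φ g₀))).Coprime p :=
      Nat.Coprime.coprime_dvd_left ((orderOf_map_dvd _ _).trans (orderOf_map_dvd _ g₀)) hg₀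
    obtain ⟨c, hc⟩ := isConj_iff.1 (H54.isConj_GL p (hco A hA) hco2 (by rw [hρc]))
    have hinj : Function.Injective ρ := fun a b h =>
      Units.ext ((Matrix.reindexAlgEquiv F F eS).injective (Units.ext_iff.1 h))
    refine hinj ?_
    rw [map_pow, map_one, ← hc, conj_pow, hA, mul_one, mul_inv_cancel]
  set T := Matrix.toLin' (g₀ : Matrix (Fin (k + 1) ⊕ Fin (k + 1)) (Fin (k + 1) ⊕ Fin (k + 1)) F) with hT
  have hTr : T ^ r = 1 := by
    rw [hT, ← Matrix.toLin'_pow,
      show (g₀ : Matrix (Fin (k + 1) ⊕ Fin (k + 1)) (Fin (k + 1) ⊕ Fin (k + 1)) F) ^ r = ((φ g₀ ^ r : GL (Fin (k + 1) ⊕ Fin (k + 1)) F) :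
        Matrix (Fin (k + 1) ⊕ Fin (k + 1)) (Fin (k + 1) ⊕ Fin (k + 1)) F) by rw [Units.val_pow_eq_pow_val]; rfl,
      hφr, Units.val_one, Matrix.toLin'_one]
    rfl
  obtain ⟨Q, hQn, hQi, hQs⟩ := exists_form hr2 hrF hq0 T hTr (Matrix.toLinearMap₂' F (Matrix.J (Fin (k + 1)) F))
    (fun x => by
      rw [Matrix.toLinearMap₂'_apply']
      simp [Matrix.J, dotProduct, Matrix.mulVec, Fintype.sum_sum_type, Matrix.one_apply, mul_comm])
    (fun x y => by
      rw [Matrix.toLinearMap₂'_apply', Matrix.toLinearMap₂'_apply', hT, Matrix.toLin'_apply,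
        Matrix.toLin'_apply]
      have hadj : ∀ (M : Matrix (Fin (k + 1) ⊕ Fin (k + 1)) (Fin (k + 1) ⊕ Fin (k + 1)) F) u v, (M *ᵥ u) ⬝ᵥ v = u ⬝ᵥ Mᵀ *ᵥ v :=
        fun M u v => by rw [Matrix.dotProduct_mulVec, Matrix.vecMul_transpose]
      rw [hadj, Matrix.mulVec_mulVec, Matrix.mulVec_mulVec, SymplecticGroup.mem_iff'.1 g₀.2])
    (fun x hx => by
      have h1 : x ᵥ* Matrix.J (Fin (k + 1)) F = 0 := dotProduct_eq_zero _ fun w => by
        have := hx w
        rwa [Matrix.toLinearMap₂'_apply', Matrix.dotProduct_mulVec] at this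
      have := congrArg (fun v => v ᵥ* Matrix.J (Fin (k + 1)) F) h1
      simpa [Matrix.vecMul_vecMul, Matrix.J_squared, Matrix.vecMul_neg, Matrix.vecMul_one] using this)
    (m := k + 1) (finrank_formPlus F (k + 1)) hε
    (hok.imp (fun h => hqc.symm ▸ h) (fun h => (hev _).1 (by rw [hg₀c]; exact h)))
  obtain ⟨E, hE⟩ := exists_isometry hQn hQ₀ (k := k) (by rw [finrank_formPlus])
    (by rw [Module.finrank_fintype_fun_eq_card, hι]) hQs hs
  set TE : (Fin (k + 1) ⊕ Fin (k + 1) → F) ≃ₗ[F] (Fin (k + 1) ⊕ Fin (k + 1) → F) := glEquiv (φ g₀) with hTE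
  have hTEa : ∀ x, TE x = T x := fun x => by rw [hTE, glEquiv_apply, hT, Matrix.toLin'_apply]; rfl
  set a : GL ι F := glEquiv.symm (E.trans (TE.trans E.symm)) with hadef
  have haE : glEquiv a = E.trans (TE.trans E.symm) := MulEquiv.apply_symm_apply _ _
  have haL : Matrix.toLin' (a : Matrix ι ι F) = E.symm.conj T := LinearMap.ext fun v => by
    rw [Matrix.toLin'_apply, ← glEquiv_apply, haE, LinearEquiv.conj_apply_apply, LinearEquiv.symm_symm,
      LinearEquiv.trans_apply, LinearEquiv.trans_apply, hTEa]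
  have ha : a ∈ Cfsg.isometryGroup F ⇑Q₀ := by
    refine (mem_isometryGroup_iff _ _).2 fun v => ?_
    rw [← Matrix.toLin'_apply, haL, LinearEquiv.conj_apply_apply, LinearEquiv.symm_symm, ← hE,
      LinearEquiv.apply_symm_apply, hQi, hE]
  refine ⟨a, ha, ?_, ?_⟩
  · refine Units.ext (Matrix.toLin'.injective ?_)
    rw [Units.val_pow_eq_pow_val, Matrix.toLin'_pow, haL, Units.val_one, Matrix.toLin'_one]
    refine LinearMap.ext fun v => ?_
    have hp : ∀ n v, ((E.symm.conj T) ^ n) v = E.symm ((T ^ n) (E v)) := by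
      intro n
      induction n with
      | zero => intro v; simp
      | succ n ih =>
        intro v
        rw [pow_succ', pow_succ', Module.End.mul_apply, Module.End.mul_apply, ih,
          LinearEquiv.conj_apply_apply, LinearEquiv.symm_symm, LinearEquiv.apply_symm_apply]
    rw [hp, hTr]
    simp
  · rw [← Matrix.charpoly_toLin' (a : Matrix ι ι F), haL, LinearEquiv.charpoly_conj, hT,
      Matrix.charpoly_toLin', hg₀c]

open Classical in
/-- Classes of elements of odd prime order in an even-dimensional orthogonal group of sign `ε`. -/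
theorem card_classes_even {F : Type*} [Field F] [Fintype F] {p q : ℕ} [Fact p.Prime] [CharP F p]
    (hF : Fintype.card F = q) {ι : Type} [Fintype ι] [DecidableEq ι] (Q₀ : QuadraticForm F (ι → F))
    (hQ₀ : Nondeg Q₀) {k : ℕ} (hι : Fintype.card ι = 2 * (k + 1)) {ε : ℤ} (hε : ε = 1 ∨ ε = -1)
    (hs : HasSign Q₀ (k + 1) ε) {r i t : ℕ} (hr : r.Prime) (hr2 : r ≠ 2) (hrp : r ≠ p)
    (hi : i = orderOf (q : ZMod r)) (ht : t * i = r - 1) :
    Nat.card {C : ConjClasses ↥(Cfsg.isometryGroup F ⇑Q₀) //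
      ∃ g : ↥(Cfsg.isometryGroup F ⇑Q₀), ConjClasses.mk g = C ∧ orderOf g = r} =
      if Odd i then
        Nat.choose ((if (q : ZMod r) ^ (k + 1) = ε then 2 * (k + 1) else 2 * (k + 1) - 1) / (2 * i) + t / 2)
          (t / 2) - 1
      else
        Nat.choose ((if (q : ZMod r) ^ (k + 1) = ε then 2 * (k + 1) else 2 * (k + 1) - 1) / i + t) t - 1 := by
  haveI : Fact r.Prime := ⟨hr⟩
  have hp := Fact.out (p := p.Prime)
  have hqc : (Nat.card F : ZMod r) = q := by rw [Nat.card_eq_fintype_card, hF]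
  have hrF : (r : F) ≠ 0 := by
    rw [Ne, CharP.cast_eq_zero_iff F p]
    exact fun h => hrp ((Nat.prime_dvd_prime_iff_eq hp hr).1 h).symm
  have hq0 : (Nat.card F : ZMod r) ≠ 0 := by
    obtain ⟨f, -, hf⟩ := FiniteField.card F p
    rw [Nat.card_eq_fintype_card, hf, Nat.cast_pow]
    refine pow_ne_zero _ ?_
    rw [Ne, ZMod.natCast_eq_zero_iff]
    exact fun h => hrp ((Nat.prime_dvd_prime_iff_eq hr hp).1 h)
  have hodd : Odd r := hr.odd_of_ne_two hr2
  obtain ⟨m, hm⟩ : ∃ m, m = k + 1 := ⟨_, rfl⟩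
  let e : ι ≃ Fin (2 * m) := Fintype.equivFinOfCardEq (by rw [hι, hm])
  let toFin : GL ι F →* GL (Fin (2 * m)) F := Units.map (Matrix.reindexAlgEquiv F F e).toMonoidHom
  have hcp : ∀ A : GL ι F, (toFin A : Matrix (Fin (2 * m)) (Fin (2 * m)) F).charpoly =
      (A : Matrix ι ι F).charpoly := fun A => Matrix.charpoly_reindex _ _
  let G := Cfsg.isometryGroup F ⇑Q₀
  let ψ : G →* GL (Fin (2 * m)) F := toFin.comp G.subtype
  have hψ : ∀ g : G, (ψ g : Matrix (Fin (2 * m)) (Fin (2 * m)) F).charpoly =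
      ((g : GL ι F) : Matrix ι ι F).charpoly := fun g => hcp _
  have hev : ∀ {κ : Type} [Fintype κ] [DecidableEq κ] (M : Matrix κ κ F),
      M.charpoly.eval 1 = 0 ↔ ∃ x, Matrix.toLin' M x = x ∧ x ≠ 0 := fun M => eval_one_charpoly M
  have hnec : ∀ g : G, g ^ r = 1 →
      RootClasses.tw (RingHom.id F) (ψ g : Matrix (Fin (2 * m)) (Fin (2 * m)) F).charpoly =
          (ψ g : Matrix (Fin (2 * m)) (Fin (2 * m)) F).charpoly ∧
        ((q : ZMod r) ^ m = ε ∨ (ψ g : Matrix (Fin (2 * m)) (Fin (2 * m)) F).charpoly.eval 1 = 0) := by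
    intro g hg
    rw [hψ]
    refine ⟨OrthoClasses.tw_charpoly _ hQ₀ g, or_iff_not_imp_right.2 fun h1 => ?_⟩
    rw [← hqc]
    refine sign_of_free (V := ι → F) (Q := Q₀) hq0 (Matrix.toLin' ((g : GL ι F) : Matrix ι ι F)) ?_ ?_ ?_
      (hm ▸ hs)
    · rw [← Matrix.toLin'_pow, ← Units.val_pow_eq_pow_val, ← Subgroup.coe_pow, hg, Subgroup.coe_one,
        Units.val_one, Matrix.toLin'_one]
      rfl
    · intro x
      rw [Matrix.toLin'_apply]
      exact (mem_isometryGroup_iff _ _).1 g.2 x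
    · intro x hx
      by_contra hx0
      exact h1 ((hev _).2 ⟨x, hx, hx0⟩)
  have hreal : ∀ A : GL (Fin (2 * m)) F, A ^ r = 1 →
      RootClasses.tw (RingHom.id F) (A : Matrix (Fin (2 * m)) (Fin (2 * m)) F).charpoly =
          (A : Matrix (Fin (2 * m)) (Fin (2 * m)) F).charpoly →
      ((q : ZMod r) ^ m = ε ∨ (A : Matrix (Fin (2 * m)) (Fin (2 * m)) F).charpoly.eval 1 = 0) →
      ∃ g : G, g ^ r = 1 ∧ (ψ g : Matrix (Fin (2 * m)) (Fin (2 * m)) F).charpoly =
          (A : Matrix (Fin (2 * m)) (Fin (2 * m)) F).charpoly := by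
    intro A hA htw hok
    subst hm
    obtain ⟨a, ha, har, hac⟩ := exists_isometry_charpoly p hF Q₀ hQ₀ hι hε hs hr2 hrp A hA htw hok
    exact ⟨⟨a, ha⟩, Subtype.ext (by rw [Subgroup.coe_pow, Subgroup.coe_one]; exact har), (hψ _).trans hac⟩
  have hmain := RootClasses.card_classes_restricted p 0 hF hr hrp hi ht (RingHom.id F) (fun x => by simp)
    (fun x => rfl) ψ (fun g h hg hh hgh => OrthoClasses.isConj_of_charpoly _ hQ₀ hodd hrF g h hg hh
      (by rwa [hψ, hψ] at hgh)) ((q : ZMod r) ^ m = ε) (Or.inr (by omega)) hnec hreal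
  rw [hm] at hmain
  refine hmain.trans ?_
  rw [pow_zero]
  have hcast : ∀ j, r ∣ q ^ j + 1 ↔ (q : ZMod r) ^ j = -1 := fun j => by
    rw [← ZMod.natCast_eq_zero_iff, Nat.cast_add, Nat.cast_pow, Nat.cast_one, add_eq_zero_iff_eq_neg]
  have hne : (-1 : ZMod r) ≠ 1 := by
    haveI : Fact (2 < r) := ⟨lt_of_le_of_ne hr.two_le hr2.symm⟩
    exact ZMod.neg_one_ne_one
  rcases Nat.even_or_odd i with hie | hio
  · have hex : ∃ j, r ∣ q ^ j + 1 := by
      obtain ⟨j, hj⟩ := hie
      have hj0 : 0 < j := by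
        have hi0 : i ≠ 0 := by
          rintro rfl
          rw [mul_zero] at ht
          have := hr.two_le
          omega
        omega
      refine ⟨j, (hcast j).2 ?_⟩
      have h1 : ((q : ZMod r) ^ j) ^ 2 = 1 := by
        rw [← pow_mul, show j * 2 = i by omega, hi, pow_orderOf_eq_one]
      rcases sq_eq_one_iff.1 h1 with h | h
      · exact absurd (Nat.le_of_dvd hj0 (hi ▸ orderOf_dvd_of_pow_eq_one h)) (by omega)
      · exact h
    rw [if_pos hex, if_neg (Nat.not_odd_iff_even.2 hie)]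
    split_ifs <;> rfl
  · have hnex : ¬ ∃ j, r ∣ q ^ j + 1 := by
      rintro ⟨j, hj⟩
      rw [hcast] at hj
      have h1 : i ∣ j * 2 := hi ▸ orderOf_dvd_of_pow_eq_one (by rw [pow_mul, hj, neg_one_sq])
      obtain ⟨c, hc⟩ : i ∣ j := ((Nat.coprime_two_right.2 hio).dvd_mul_right).1 h1
      rw [hc, pow_mul, hi, pow_orderOf_eq_one, one_pow] at hj
      exact hne hj.symm
    rw [if_neg hnex, if_pos hio]
    split_ifs <;> rfl

/-- Dropping the top dimension. -/
theorem choose_pred {N d t : ℕ} (hd : 0 < d) (hN : 0 < N) (ht : 0 < t) :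
    Nat.choose ((N - 1) / d + t) t - 1 =
      Nat.choose (N / d + t) t - 1 - (if d ∣ N then Nat.choose (N / d + t - 1) (t - 1) else 0) := by
  obtain ⟨n, rfl⟩ : ∃ n, N = n + 1 := ⟨N - 1, by omega⟩
  obtain ⟨s, rfl⟩ : ∃ s, t = s + 1 := ⟨t - 1, by omega⟩
  rw [Nat.succ_div, Nat.add_sub_cancel, Nat.add_sub_cancel]
  generalize n / d = a
  split_ifs with h
  · rw [show a + 1 + (s + 1) - 1 = a + (s + 1) by omega,
      show a + 1 + (s + 1) = (a + (s + 1)) + 1 by omega, Nat.choose_succ_succ']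
    omega
  · rfl

end count

end Cfsg.Agent.H68.EvenOrtho
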