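import Mathlib
import Cfsg.Prelude.Def_GeometricClasses
import Cfsg.Agent.H68.EvenOrtho
import Cfsg.Agent.Orthogonal.Eichler
import Cfsg.Agent.Orthogonal.Generation
import Cfsg.Agent.Orthogonal.MaxTS

/-!
Elements of prime order of `Ω^ε_2d(q)` without fixed non-singular points.
-/

set_option autoImplicit false
set_option linter.style.haveILetI false
set_option linter.unusedSectionVars false

namespace Cfsg.Agent.H68.EvenDerange

open Module QuadraticMap Orthogonal

variable {F V : Type*} [Field F] [AddCommGroup V] [Module F V] [FiniteDimensional F V]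
  {Q : QuadraticForm F V}

/-- A space of minus sign has no totally singular subspace of half the dimension. -/
theorem finrank_lt_of_minus [Finite F] (hQ : Nondeg Q) {d : ℕ} (hn : finrank F V = 2 * d)
    (hs : EvenOrtho.HasSign Q d (-1)) {W : Submodule F V} (hW : TotSing Q W) : finrank F W < d := by
  by_contra hlt
  obtain ⟨k, e, f, h, ha⟩ := hQ.exists_frame
  have hsf := EvenOrtho.sign_frame hQ h ha hn
  have hkd : k ≠ d := by
    intro hk
    rw [if_pos hk] at hsf
    exact absurd (hsf.unique hs) (by norm_num)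
  have hr := h.finrank_kernel hQ
  have hE : TotSing Q (Submodule.span F (Set.range e)) := by
    intro x hx
    have hself : ∀ y ∈ Submodule.span F (Set.range e), ∀ i, polar Q (e i) y = 0 := by
      intro y hy i
      refine Submodule.span_induction ?_ ?_ ?_ ?_ hy
      · rintro _ ⟨j, rfl⟩; exact h.ee i j
      · exact polar_zero_right (Q := Q) _
      · intro a b _ _ ha hb; rw [polar_add_right, ha, hb, add_zero]
      · intro c a _ ha; rw [polar_smul_right', ha, mul_zero]
    suffices hh : x ∈ Submodule.span F (Set.range e) ∧ Q x = 0 from hh.2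
    refine Submodule.span_induction (p := fun y _ => y ∈ Submodule.span F (Set.range e) ∧ Q y = 0)
      ?_ ⟨Submodule.zero_mem _, by simp⟩ ?_ ?_ hx
    · rintro _ ⟨j, rfl⟩; exact ⟨Submodule.subset_span ⟨j, rfl⟩, h.qe j⟩
    · intro a b ha' _ ha hb
      refine ⟨Submodule.add_mem _ ha.1 hb.1, ?_⟩
      have hab : polar Q a b = 0 := by
        refine Submodule.span_induction ?_ ?_ ?_ ?_ ha'
        · rintro _ ⟨j, rfl⟩; exact hself b hb.1 j
        · exact polar_zero_left (Q := Q) _
        · intro u v _ _ hu hv; rw [polar_add_left, hu, hv, add_zero]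
        · intro c u _ hu; rw [polar_smul_left', hu, mul_zero]
      rw [map_add_polar, ha.2, hb.2, hab]; ring
    · intro c a _ ha
      exact ⟨Submodule.smul_mem _ c ha.1, by rw [qmap_smul, ha.2, mul_zero]⟩
  have hli : LinearIndependent F e := h.linearIndependent.comp Sum.inl Sum.inl_injective
  obtain ⟨g, hg⟩ := hE.exists_map_le hQ hW (by rw [finrank_span_eq_card hli, Fintype.card_fin]; omega)
  set W' := W.map (((g⁻¹ : O Q) : V ≃ₗ[F] V) : V →ₗ[F] V) with hW'
  have heW : ∀ i, e i ∈ W' := fun i => ⟨(g : V ≃ₗ[F] V) (e i), hg ⟨e i, Submodule.subset_span ⟨i, rfl⟩, rfl⟩, by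
    rw [LinearEquiv.coe_coe, ← mul_app, ← Subgroup.coe_mul, inv_mul_cancel]; rfl⟩
  have hW'd : finrank F W' = finrank F W := LinearEquiv.finrank_map_eq _ _
  let φ : W' →ₗ[F] (Fin k → F) := LinearMap.pi fun i => (Q.polarBilin (f i)).comp W'.subtype
  have hker : LinearMap.ker φ ≠ ⊥ := by
    intro hb
    have h1 := LinearMap.finrank_range_add_finrank_ker φ
    rw [hb, finrank_bot, add_zero] at h1
    have h2 := (LinearMap.range φ).finrank_le
    rw [Module.finrank_fin_fun] at h2
    omega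
  obtain ⟨w, hw, hw0⟩ := (Submodule.ne_bot_iff _).1 hker
  have hts := hW.map g⁻¹
  have hker' : (w : V) ∈ IsFrame.kernel Q e f :=
    IsFrame.mem_kernel.2 ⟨fun i => hts.polar_eq (heW i) w.2, fun i => congrFun hw i⟩
  exact hw0 (Subtype.ext (ha _ hker' (hts _ w.2)))

/-- Elements of odd order of the orthogonal group lie in the commutator subgroup. -/
theorem mem_commutator_of_odd [Finite F] (hQ : Nondeg Q) (hn : 5 ≤ finrank F V) (g : O Q) {r : ℕ}
    (hr : Odd r) (hg : g ^ r = 1) : g ∈ commutator (O Q) := by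
  have hgen := reflGroup_eq_top hQ (Or.inr (by omega))
  have h2 : ∀ x : O Q, Abelianization.of x ^ 2 = 1 := by
    intro x
    have hx : x ∈ reflGroup Q := hgen ▸ Subgroup.mem_top x
    induction hx using Subgroup.closure_induction with
    | mem y hy =>
      obtain ⟨v, rfl⟩ := hy
      rw [_root_.sq, ← map_mul, rO_mul_self, map_one]
    | one => rw [map_one, one_pow]
    | mul a b _ _ ha hb => rw [map_mul, mul_pow, ha, hb, one_mul]
    | inv a _ ha => rw [map_inv, inv_pow, ha, inv_one]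
  rw [← Abelianization.ker_of, MonoidHom.mem_ker]
  obtain ⟨c, rfl⟩ := hr
  calc Abelianization.of g = Abelianization.of g ^ (2 * c + 1) := by
        rw [pow_succ, pow_mul, h2, one_pow, one_mul]
    _ = 1 := by rw [← map_pow, hg, map_one]

section free

open Polynomial Matrix UniqueFactorizationMonoid

open Classical in
/-- A fixed-point-free isometry of order `r`, when `q ^ d = ε` modulo `r`. -/
theorem exists_free {F : Type*} [Field F] [Fintype F] (p : ℕ) {q : ℕ} [Fact p.Prime] [CharP F p]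
    (hF : Fintype.card F = q) {ι : Type} [Fintype ι] [DecidableEq ι] (Q₀ : QuadraticForm F (ι → F))
    (hQ₀ : Nondeg Q₀) {k : ℕ} (hι : Fintype.card ι = 2 * (k + 1)) {ε : ℤ} (hε : ε = 1 ∨ ε = -1)
    (hs : EvenOrtho.HasSign Q₀ (k + 1) ε) {r : ℕ} [Fact r.Prime] (hr2 : r ≠ 2) (hrp : r ≠ p)
    (hrq : (q : ZMod r) ^ (k + 1) = ε) :
    ∃ x ∈ Cfsg.isometryGroup F ⇑Q₀, x ^ r = 1 ∧
      ∀ v, (x : Matrix ι ι F).mulVec v = v → v = 0 := by
  have hr := Fact.out (p := r.Prime)
  have hp := Fact.out (p := p.Prime)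
  haveI : Fact (2 < r) := ⟨lt_of_le_of_ne hr.two_le hr2.symm⟩
  obtain ⟨f, -, hf⟩ := FiniteField.card F p
  have hcop : p.Coprime r := (Nat.coprime_primes hp hr).2 hrp.symm
  have hrF : (r : F) ≠ 0 := by
    rw [Ne, CharP.cast_eq_zero_iff F p]
    exact fun h => hrp ((Nat.prime_dvd_prime_iff_eq hp hr).1 h).symm
  have hq0 : (q : ZMod r) ≠ 0 := by
    intro h
    rw [h, zero_pow (by omega)] at hrq
    rcases hε with rfl | rfl <;> simp at hrq
  set i := orderOf (q : ZMod r) with hi
  have hi0 : 0 < i := by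
    have := (Units.mk0 _ hq0).isUnit
    rw [hi, ← Units.val_mk0 hq0, orderOf_units]
    exact orderOf_pos _
  have hqi : orderOf (ZMod.unitOfCoprime _ (hcop.pow_left (f : ℕ))) = i := by
    rw [hi, ← orderOf_units, ZMod.coe_unitOfCoprime, ← hf, hF]
  obtain ⟨a, ha⟩ : ∃ a, a ∈ normalizedFactors (cyclotomic r F) := by
    refine ⟨_, (exists_mem_normalizedFactors_of_dvd (cyclotomic_ne_zero r F)
      (WfDvdMonoid.exists_irreducible_factor (a := cyclotomic r F) (fun h => ?_)
        (cyclotomic_ne_zero r F)).choose_spec.1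
      (WfDvdMonoid.exists_irreducible_factor (a := cyclotomic r F) (fun h => ?_)
        (cyclotomic_ne_zero r F)).choose_spec.2).choose_spec.1⟩ <;>
    · have := natDegree_eq_zero_of_isUnit h
      rw [natDegree_cyclotomic, Nat.totient_prime hr] at this
      have := hr.two_le
      omega
  have hai := irreducible_of_normalized_factor a ha
  have ham := S2568.monic_of_mem_normalizedFactors ha
  have had : a.natDegree = i := (natDegree_of_mem_normalizedFactors_cyclotomic hf hcop ha).trans hqi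
  have hadvd := dvd_of_mem_normalizedFactors ha
  have hsplit := cyclotomic_prime_mul_X_sub_one F r
  have haX : a ∣ X ^ r - 1 := hadvd.trans (hsplit ▸ dvd_mul_right _ _)
  have ha0 := RootClasses.coeff_zero_ne_zero hr.ne_zero haX
  obtain ⟨htm, htd, -⟩ := RootClasses.tw_spec (RingHom.id F) ham ha0
  have ha1 : a.eval 1 ≠ 0 := by
    intro h
    have hd : (X - C 1 : F[X]) ∣ a := dvd_iff_isRoot.2 h
    have heq := eq_of_monic_of_associated (monic_X_sub_C (1 : F)) ham
      ((irreducible_X_sub_C 1).associated_of_dvd hai hd)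
    have h2 : (cyclotomic r F).eval 1 = 0 := eval_eq_zero_of_dvd_of_eval_eq_zero hadvd h
    rw [eval_one_cyclotomic_prime] at h2
    exact hrF h2
  have hta : RootClasses.tw (RingHom.id F) a ∣ X ^ r - 1 := by
    obtain ⟨c, hc⟩ := haX
    exact ⟨RootClasses.tw (RingHom.id F) c, by
      rw [← RootClasses.tw_mul, ← hc, RootClasses.tw_X_pow_sub_one _ hr.ne_zero]⟩
  have hta1 : (RootClasses.tw (RingHom.id F) a).eval 1 ≠ 0 := by
    letI : Invertible (1 : F) := invertibleOne
    have hrev : a.reverse.eval 1 = a.eval 1 := by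
      have := eval₂_reverse_mul_pow (RingHom.id F) (1 : F) a
      simpa [eval₂_id] using this
    rw [RootClasses.tw, Polynomial.map_id, eval_mul, eval_C, hrev]
    exact mul_ne_zero (inv_ne_zero ha0) ha1
  -- the multiset of factors
  obtain ⟨ms, hms, hdeg, htw, hev⟩ : ∃ ms : Multiset F[X], (∀ b ∈ ms, b.Monic ∧ b ∣ X ^ r - 1) ∧
      ms.prod.natDegree = 2 * (k + 1) ∧ RootClasses.tw (RingHom.id F) ms.prod = ms.prod ∧
      ms.prod.eval 1 ≠ 0 := by
    rcases hε with rfl | rfl
    · rw [Int.cast_one] at hrq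
      obtain ⟨c, hc⟩ : i ∣ k + 1 := hi ▸ orderOf_dvd_of_pow_eq_one hrq
      refine ⟨Multiset.replicate c a + Multiset.replicate c (RootClasses.tw (RingHom.id F) a), ?_, ?_, ?_, ?_⟩
      · intro b hb
        rcases Multiset.mem_add.1 hb with hb | hb <;> rw [Multiset.eq_of_mem_replicate hb]
        · exact ⟨ham, haX⟩
        · exact ⟨htm, hta⟩
      · rw [Multiset.prod_add, Multiset.prod_replicate, Multiset.prod_replicate,
          (ham.pow c).natDegree_mul (htm.pow c), ham.natDegree_pow, htm.natDegree_pow, htd, had, hc]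
        ring
      · rw [RootClasses.tw_prod, Multiset.map_add, Multiset.map_replicate, Multiset.map_replicate,
          RootClasses.tw_tw (RingHom.id F) (fun _ => rfl) ham ha0, add_comm]
      · rw [Multiset.prod_add, Multiset.prod_replicate, Multiset.prod_replicate, eval_mul, eval_pow, eval_pow]
        exact mul_ne_zero (pow_ne_zero _ ha1) (pow_ne_zero _ hta1)
    · rw [Int.cast_neg, Int.cast_one] at hrq
      have h2d : i ∣ 2 * (k + 1) := hi ▸ orderOf_dvd_of_pow_eq_one (by
        rw [mul_comm, pow_mul, hrq, neg_one_sq])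
      obtain ⟨c, hc⟩ := h2d
      have hfix : RootClasses.tw (RingHom.id F) a = a := by
        refine (RootClasses.tw_eq_self_iff p 0 hF (RingHom.id F) (fun x => by simp) hr hrF hi hi0 hai ham had
          hadvd).2 ⟨k + 1, ?_⟩
        rw [← ZMod.natCast_eq_zero_iff, Nat.cast_add, Nat.cast_pow, hrq, pow_zero, Nat.cast_one,
          neg_add_cancel]
      refine ⟨Multiset.replicate c a, ?_, ?_, ?_, ?_⟩
      · intro b hb
        rw [Multiset.eq_of_mem_replicate hb]
        exact ⟨ham, haX⟩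
      · rw [Multiset.prod_replicate, ham.natDegree_pow, had, hc, mul_comm]
      · rw [RootClasses.tw_prod, Multiset.map_replicate, hfix]
      · rw [Multiset.prod_replicate, eval_pow]
        exact pow_ne_zero _ ha1
  obtain ⟨A, hA, hAc⟩ := S2568.exists_pow_eq_one (p := p) hcop.symm ms hms hdeg
  obtain ⟨x, hx, hxr, hxc⟩ := EvenOrtho.exists_isometry_charpoly p hF Q₀ hQ₀ hι hε hs hr2 hrp A hA
    (by rw [hAc, htw]) (Or.inl hrq)
  refine ⟨x, hx, hxr, fun v hv => ?_⟩
  by_contra hv0
  refine hev ?_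
  rw [← hAc, ← hxc, EvenOrtho.eval_one_charpoly]
  exact ⟨v, by rw [Matrix.toLin'_apply, hv], hv0⟩

open Classical in
/-- A fixed-point-free element of order `r` in `Ω^ε`, when `q ^ d = ε` modulo `r`. -/
theorem exists_free_omega {F : Type*} [Field F] [Fintype F] (p : ℕ) {q : ℕ} [Fact p.Prime] [CharP F p]
    (hF : Fintype.card F = q) {ι : Type} [Fintype ι] [DecidableEq ι] (Q₀ : QuadraticForm F (ι → F))
    (hQ₀ : Nondeg Q₀) {k : ℕ} (hι : Fintype.card ι = 2 * (k + 1)) (hk : 2 ≤ k) {ε : ℤ} (hε : ε = 1 ∨ ε = -1)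
    (hs : EvenOrtho.HasSign Q₀ (k + 1) ε) {r : ℕ} [Fact r.Prime] (hr2 : r ≠ 2) (hrp : r ≠ p)
    (hrq : (q : ZMod r) ^ (k + 1) = ε) :
    ∃ x ∈ Cfsg.Geo.omegaGL (⇑Q₀), x ^ r = 1 ∧
      ∀ v, (x : Matrix ι ι F).mulVec v = v → v = 0 := by
  obtain ⟨x, hx, hxr, hfree⟩ := exists_free p hF Q₀ hQ₀ hι hε hs hr2 hrp hrq
  refine ⟨x, ?_, hxr, hfree⟩
  have h1 := mem_commutator_of_odd hQ₀ (by rw [Module.finrank_fintype_fun_eq_card, hι]; omega)
    (toO Q₀ ⟨x, hx⟩) ((Fact.out : r.Prime).odd_of_ne_two hr2) (by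
      rw [← map_pow, show (⟨x, hx⟩ : Cfsg.isometryGroup F ⇑Q₀) ^ r = 1 from Subtype.ext (by
        rw [Subgroup.coe_pow, Subgroup.coe_one]; exact hxr), map_one])
  rw [← toO_map_omega] at h1
  obtain ⟨y, hy, hye⟩ := h1
  exact ⟨⟨x, hx⟩, (toO Q₀).injective hye ▸ hy, rfl⟩

end free

section two

/-- The product of commuting root elements along a family spanning a totally singular subspace. -/
theorem exists_omega_involution [Finite F] (hQ : Nondeg Q) {k : ℕ}
    {e f : Fin (k + k) → V} (h : IsFrame Q e f) :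
    ∃ g : O Q, (5 ≤ finrank F V → g ∈ commutator (O Q)) ∧ ∀ x, (g : V ≃ₗ[F] V) x = x +
      ∑ j : Fin k, (polar Q (e (Fin.natAdd k j)) x • e (Fin.castAdd k j) -
        polar Q (e (Fin.castAdd k j)) x • e (Fin.natAdd k j)) := by
  classical
  suffices hs : ∀ s : Finset (Fin k), ∃ g : O Q, (5 ≤ finrank F V → g ∈ commutator (O Q)) ∧ ∀ x, (g : V ≃ₗ[F] V) x = x +
      ∑ j ∈ s, (polar Q (e (Fin.natAdd k j)) x • e (Fin.castAdd k j) -
        polar Q (e (Fin.castAdd k j)) x • e (Fin.natAdd k j)) from hs Finset.univ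
  intro s
  induction s using Finset.induction_on with
  | empty => exact ⟨1, fun _ => one_mem _, fun x => by simp⟩
  | insert j s hj ih =>
    obtain ⟨g, hg, hgx⟩ := ih
    have hu : Q (e (Fin.castAdd k j)) = 0 := h.qe _
    have hw : polar Q (e (Fin.castAdd k j)) (e (Fin.natAdd k j)) = 0 := h.ee _ _
    refine ⟨sie _ _ hu hw * g, fun hn => mul_mem (sieGroup_eq_commutator hQ hn ▸ sie_mem hu hw) (hg hn), fun x => ?_⟩
    have hpol : ∀ l, polar Q (e l) ((g : V ≃ₗ[F] V) x) = polar Q (e l) x := by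
      intro l
      rw [hgx, polar_add_right, add_eq_left, ← polarBilin_apply', map_sum]
      refine Finset.sum_eq_zero fun i _ => ?_
      rw [map_sub, map_smul, map_smul, polarBilin_apply', polarBilin_apply', h.ee, h.ee, smul_zero, smul_zero, sub_zero]
    rw [Subgroup.coe_mul, mul_app, sie_app, hpol, hpol, h.qe, zero_mul, sub_zero, hgx,
      Finset.sum_insert hj]
    abel

/-- An involution fixing only singular vectors forces a plus space of dimension divisible by four. -/
theorem of_involution [Finite F] (h2 : (2 : F) = 0) (hQ : Nondeg Q) {d : ℕ} (hn : finrank F V = 2 * d)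
    (T : Module.End F V) (hT : ∀ x, T (T x) = x) (hQT : ∀ x, Q (T x) = Q x)
    (hsing : ∀ x, T x = x → Q x = 0) : ¬ EvenOrtho.HasSign Q d (-1) ∧ Even d := by
  have hneg : ∀ a : V, -a = a := fun a => by
    rw [neg_eq_iff_add_eq_zero, ← two_smul F a, h2, zero_smul]
  set D : Module.End F V := T - 1 with hD
  have hDapp : ∀ x, D x = T x + x := fun x => by
    rw [hD, LinearMap.sub_apply, Module.End.one_apply, sub_eq_add_neg, hneg]
  have hDD : ∀ x, D (D x) = 0 := fun x => by
    rw [hDapp, hDapp, map_add, hT]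
    have := hneg (x + T x)
    rw [neg_eq_iff_add_eq_zero] at this
    rw [← this]; abel
  set W := LinearMap.ker D with hW
  have hWfix : ∀ x, x ∈ W ↔ T x = x := fun x => by
    rw [hW, LinearMap.mem_ker, hD, LinearMap.sub_apply, Module.End.one_apply, sub_eq_zero]
  have hts : TotSing Q W := fun x hx => hsing x ((hWfix x).1 hx)
  have h1 := LinearMap.finrank_range_add_finrank_ker D
  have hle : LinearMap.range D ≤ W := by rintro _ ⟨z, rfl⟩; exact hDD z
  have h3 := Submodule.finrank_mono hle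
  have h4 := hts.two_mul_finrank_le hQ
  have hWd : finrank F W = d := by rw [← hW] at h1; omega
  refine ⟨fun hs => ?_, ?_⟩
  · have := finrank_lt_of_minus hQ hn hs hts
    omega
  have hperp := hts.perp_eq_self hQ hn hWd
  have hpD : ∀ x y, polar Q (T x) (T y) = polar Q x y := fun x y => by
    simp only [polar, ← map_add, hQT]
  let B : LinearMap.BilinForm F V := Q.polarBilin.comp D
  have hB : ∀ x y, B x y = polar Q (D x) y := fun x y => rfl
  have halt : B.IsAlt := fun x => by
    rw [hB, hDapp, polar_add_left, polar_self', h2, zero_mul, add_zero]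
    have h5 : Q (D x) = 0 := hsing _ ((hWfix _).1 (hle ⟨x, rfl⟩))
    rw [hDapp, map_add_polar, hQT] at h5
    linear_combination h5 - Q x * h2
  obtain ⟨m, k, b, hb, hrad⟩ := Symplectic.exists_hyp_basis B halt
  have hBker : LinearMap.ker B = W := by
    ext x
    rw [LinearMap.mem_ker, hW, LinearMap.mem_ker]
    constructor
    · intro hx
      exact hQ _ fun y => by rw [← hB, hx]; rfl
    · intro hx
      refine LinearMap.ext fun y => ?_
      rw [hB, hx, polar_zero_left]; rfl
  have hli : ∀ x, x ∈ W → x ∈ Submodule.span F (Set.range fun j => b (Sum.inr j)) := by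
    intro x hx
    rw [← hBker, LinearMap.mem_ker] at hx
    rw [← b.sum_repr x, Fintype.sum_sum_type]
    refine Submodule.add_mem _ ?_ (Submodule.sum_mem _ fun j _ =>
      Submodule.smul_mem _ _ (Submodule.subset_span ⟨j, rfl⟩))
    have hz : ∀ j : Fin k, B (b (Sum.inr j)) = 0 := fun j => LinearMap.ext fun v => hrad j v
    have hx' : ∀ y, B x y = 0 := fun y => by rw [hx]; rfl
    have hc : ∀ s, b.repr x (Sum.inl s) = 0 := by
      intro s
      have hsw : ∀ u v, B u v = - B v u := fun u v => (LinearMap.IsAlt.neg halt v u).symm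
      rcases s with i | i
      · have h6 := hx' (b (Sum.inl (Sum.inr i)))
        rw [← b.sum_repr x] at h6
        simpa [Fintype.sum_sum_type, hb.1, hb.2.2, hz, -Module.Basis.sum_repr] using h6
      · have h6 := hx' (b (Sum.inl (Sum.inl i)))
        rw [← b.sum_repr x] at h6
        simpa [Fintype.sum_sum_type, hb.2.1, hsw (b (Sum.inl (Sum.inr _))) (b (Sum.inl (Sum.inl i))), hb.1, hz,
          -Module.Basis.sum_repr] using h6
    simp [hc]
  have hge : finrank F W ≤ k := by
    refine (Submodule.finrank_mono hli).trans ?_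
    exact (finrank_range_le_card (fun j => b (Sum.inr j))).trans (by simp)
  have hle2 : k ≤ finrank F W := by
    have hk : LinearIndependent F fun j => (⟨b (Sum.inr j), by
        rw [← hBker, LinearMap.mem_ker]; exact LinearMap.ext fun v => hrad j v⟩ : W) :=
      LinearIndependent.of_comp W.subtype (b.linearIndependent.comp _ Sum.inr_injective)
    simpa using hk.fintype_card_le_finrank
  have hdim := Module.finrank_eq_card_basis b
  rw [Fintype.card_sum, Fintype.card_sum, Fintype.card_fin, Fintype.card_fin, hn] at hdim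
  exact ⟨m, by omega⟩

end two

section lines

open Matrix

variable {F : Type*} [Field F] [Fintype F] {ι : Type} [Fintype ι] [DecidableEq ι] {Q₀ : QuadraticForm F (ι → F)}

/-- In characteristic two a non-singular point contains exactly one vector of norm one. -/
theorem card_lines (h2 : (2 : F) = 0) :
    Nat.card {W : Submodule F (ι → F) // finrank F W = 1 ∧ ∃ v ∈ W, Q₀ v ≠ 0} =
      Nat.card {v : ι → F // Q₀ v = 1} := by
  let Φ : {v : ι → F // Q₀ v = 1} → {W : Submodule F (ι → F) // finrank F W = 1 ∧ ∃ v ∈ W, Q₀ v ≠ 0} :=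
    fun v => ⟨Submodule.span F {v.1}, finrank_span_singleton (fun h => zero_ne_one (α := F) (by
      rw [← v.2, h, QuadraticMap.map_zero])), v.1, Submodule.mem_span_singleton_self _, by
      rw [v.2]; exact one_ne_zero⟩
  refine (Nat.card_eq_of_bijective Φ ⟨fun v w h => ?_, fun W => ?_⟩).symm
  · have h' : v.1 ∈ Submodule.span F {w.1} :=
      (show Submodule.span F {v.1} = Submodule.span F {w.1} from congrArg Subtype.val h) ▸ Submodule.mem_span_singleton_self _
    obtain ⟨c, hc⟩ := Submodule.mem_span_singleton.1 h'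
    have h1 := v.2
    rw [← hc, qmap_smul, w.2, mul_one] at h1
    have hc1 : (c - 1) ^ 2 = 0 := by linear_combination h1 + (1 - c) * h2
    rw [sub_eq_zero.1 ((pow_eq_zero_iff two_ne_zero).1 hc1), one_smul] at hc
    exact Subtype.ext hc.symm
  · obtain ⟨v, hv, hv0⟩ := W.2.2
    obtain ⟨c, hc⟩ := Orthogonal.isSquare_of_two_eq_zero h2 (Q₀ v)
    have hc0 : c ≠ 0 := fun h => hv0 (by rw [hc, h, mul_zero])
    have hne : c⁻¹ • v ≠ 0 := smul_ne_zero (inv_ne_zero hc0) (fun h => hv0 (by rw [h, QuadraticMap.map_zero]))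
    refine ⟨⟨c⁻¹ • v, by rw [qmap_smul, hc]; field_simp⟩, Subtype.ext ?_⟩
    exact Submodule.eq_of_le_of_finrank_eq ((Submodule.span_singleton_le_iff_mem _ _).2 (W.1.smul_mem _ hv))
      ((finrank_span_singleton hne).trans W.2.1.symm)

/-- A stable non-singular line is fixed pointwise. -/
theorem fixed_of_stable (h2 : (2 : F) = 0) {x : GL ι F} (hx : x ∈ Cfsg.isometryGroup F ⇑Q₀)
    {W : Submodule F (ι → F)} (hW : finrank F W = 1) {v : ι → F} (hv : v ∈ W) (hv0 : Q₀ v ≠ 0)
    (hmap : W.map (Matrix.toLin' (x : Matrix ι ι F)) ≤ W) : (x : Matrix ι ι F).mulVec v = v := by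
  have hvne : v ≠ 0 := fun h => hv0 (by rw [h, QuadraticMap.map_zero])
  obtain ⟨c, hc⟩ := (finrank_eq_one_iff_of_nonzero' (⟨v, hv⟩ : W) (fun h => hvne (congrArg Subtype.val h))).1 hW
    ⟨_, hmap ⟨v, hv, rfl⟩⟩
  have hc' : c • v = (x : Matrix ι ι F).mulVec v := by
    simpa [Matrix.toLin'_apply] using congrArg Subtype.val hc
  have h1 := (mem_isometryGroup_iff _ _).1 hx v
  rw [← hc', qmap_smul] at h1
  have h3 : c ^ 2 = 1 := mul_right_cancel₀ hv0 (h1.trans (one_mul _).symm)
  have h4 : (c - 1) ^ 2 = 0 := by linear_combination h3 + (1 - c) * h2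
  rw [← hc', sub_eq_zero.1 ((pow_eq_zero_iff two_ne_zero).1 h4), one_smul]

/-- An element whose `r`th power is scalar and which has no fixed non-singular point. -/
theorem forall_false_of_free (h2 : (2 : F) = 0) {r : ℕ} (hne : ∃ v : ι → F, Q₀ v ≠ 0) {x : GL ι F}
    (hx : x ∈ Cfsg.Geo.omegaGL ⇑Q₀) (hxr : x ^ r = 1)
    (hfree : ∀ v, Q₀ v ≠ 0 → (x : Matrix ι ι F).mulVec v ≠ v) :
    ¬ (∀ x : GL ι F, x ∈ Cfsg.Geo.omegaGL ⇑Q₀ →
      (∃ z : F, ((x ^ r : GL ι F) : Matrix ι ι F) = z • (1 : Matrix ι ι F)) →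
      (∀ z : F, (x : Matrix ι ι F) ≠ z • (1 : Matrix ι ι F)) →
      ∃ W : Submodule F (ι → F), (finrank F W = 1 ∧ ∃ v ∈ W, Q₀ v ≠ 0) ∧
        W.map (Matrix.toLin' (x : Matrix ι ι F)) ≤ W) := by
  intro H
  have hxi : x ∈ Cfsg.isometryGroup F ⇑Q₀ := by
    obtain ⟨y, -, rfl⟩ := hx
    exact y.2
  obtain ⟨W, ⟨hW, v, hv, hv0⟩, hmap⟩ := H x hx ⟨1, by rw [hxr, Units.val_one, one_smul]⟩ (fun z hz => by
    obtain ⟨v, hv0⟩ := hne
    refine hfree v hv0 ?_
    refine fixed_of_stable h2 hxi (finrank_span_singleton fun h => hv0 (by rw [h, QuadraticMap.map_zero]))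
      (Submodule.mem_span_singleton_self v) hv0 ?_
    rintro _ ⟨w, hw, rfl⟩
    rw [Matrix.toLin'_apply, hz, Matrix.smul_mulVec, Matrix.one_mulVec]
    exact Submodule.smul_mem _ _ hw)
  exact hfree v hv0 (fixed_of_stable h2 hxi hW hv hv0 hmap)

/-- For `r = 2`: an element with no fixed non-singular point has no minus space and half dimension even. -/
theorem two_dichotomy (h2 : (2 : F) = 0) (hQ : Nondeg Q₀) {d : ℕ} (hι : Fintype.card ι = 2 * d) (hd : 0 < d) :
    (¬ EvenOrtho.HasSign Q₀ d (-1) ∧ Even d) ∨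
    (∀ x : GL ι F, x ∈ Cfsg.Geo.omegaGL ⇑Q₀ →
      (∃ z : F, ((x ^ 2 : GL ι F) : Matrix ι ι F) = z • (1 : Matrix ι ι F)) →
      (∀ z : F, (x : Matrix ι ι F) ≠ z • (1 : Matrix ι ι F)) →
      ∃ W : Submodule F (ι → F), (finrank F W = 1 ∧ ∃ v ∈ W, Q₀ v ≠ 0) ∧
        W.map (Matrix.toLin' (x : Matrix ι ι F)) ≤ W) := by
  refine or_iff_not_imp_left.2 fun hno x hx ⟨z, hz⟩ _ => ?_
  obtain ⟨y, -, rfl⟩ := hx
  set M := ((y : GL ι F) : Matrix ι ι F)
  have hQT : ∀ v, Q₀ (M.mulVec v) = Q₀ v := (mem_isometryGroup_iff _ _).1 y.2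
  have hn : finrank F (ι → F) = 2 * d := by rw [Module.finrank_fintype_fun_eq_card, hι]
  by_contra hno'
  push Not at hno'
  refine hno (of_involution h2 hQ hn (Matrix.toLin' M) (fun v => ?_) (fun v => ?_) (fun v hv => ?_))
  · have hzz : ∀ w, M.mulVec (M.mulVec w) = z • w := fun w => by
      rw [Units.val_pow_eq_pow_val, _root_.sq] at hz
      rw [Matrix.mulVec_mulVec, show M * M = _ from hz, Matrix.smul_mulVec, Matrix.one_mulVec]
    obtain ⟨w, hw⟩ := hQ.exists_value (by omega) (1 : F)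
    have h1 : z ^ 2 = 1 := by
      have := hQT (M.mulVec w)
      rwa [hzz, hQT, qmap_smul, hw, mul_one] at this
    have h4 : (z - 1) ^ 2 = 0 := by linear_combination h1 + (1 - z) * h2
    rw [Matrix.toLin'_apply, Matrix.toLin'_apply, hzz, sub_eq_zero.1 ((pow_eq_zero_iff two_ne_zero).1 h4),
      one_smul]
  · rw [Matrix.toLin'_apply]; exact hQT v
  · by_contra hv0
    refine hno' (Submodule.span F {v}) ⟨finrank_span_singleton fun h => hv0 (by
      rw [h, QuadraticMap.map_zero]), v, Submodule.mem_span_singleton_self _, hv0⟩ ?_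
    rw [Submodule.map_span, Set.image_singleton]
    change Submodule.span F {Matrix.toLin' M v} ≤ _
    rw [hv]

/-- The odd primes dividing the number of non-singular points. -/
theorem odd_case (h2 : (2 : F) = 0) {p q : ℕ} [Fact p.Prime] [CharP F p] (hp2 : p = 2)
    (hF : Fintype.card F = q) (hQ : Nondeg Q₀) {d : ℕ} (hd : 4 ≤ d) (hι : Fintype.card ι = 2 * d) {ε : ℤ}
    (hε : ε = 1 ∨ ε = -1) (hs : EvenOrtho.HasSign Q₀ d ε) {r : ℕ} [Fact r.Prime] (hr2 : r ≠ 2)
    (hdvd : r ∣ Nat.card {W : Submodule F (ι → F) // finrank F W = 1 ∧ ∃ v ∈ W, Q₀ v ≠ 0}) :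
    ¬ (∀ x : GL ι F, x ∈ Cfsg.Geo.omegaGL ⇑Q₀ →
      (∃ z : F, ((x ^ r : GL ι F) : Matrix ι ι F) = z • (1 : Matrix ι ι F)) →
      (∀ z : F, (x : Matrix ι ι F) ≠ z • (1 : Matrix ι ι F)) →
      ∃ W : Submodule F (ι → F), (finrank F W = 1 ∧ ∃ v ∈ W, Q₀ v ≠ 0) ∧
        W.map (Matrix.toLin' (x : Matrix ι ι F)) ≤ W) := by
  obtain ⟨k, rfl⟩ : ∃ k, d = k + 1 := ⟨d - 1, by omega⟩
  rw [card_lines h2] at hdvd
  have hq0 : (q : ZMod r) ≠ 0 := by
    obtain ⟨f, -, hf⟩ := FiniteField.card F p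
    rw [← hF, hf, hp2, Nat.cast_pow]
    refine pow_ne_zero _ ?_
    rw [Ne, ZMod.natCast_eq_zero_iff]
    exact fun h => hr2 ((Nat.prime_dvd_prime_iff_eq Fact.out Nat.prime_two).1 h)
  have hrq : (q : ZMod r) ^ (k + 1) = ε := by
    have h1 := congrArg (Int.cast : ℤ → ZMod r) hs
    push_cast at h1
    rw [(ZMod.natCast_eq_zero_iff _ r).2 hdvd, mul_zero, zero_add, Nat.card_eq_fintype_card, hF,
      two_mul (k + 1)] at h1
    refine mul_right_cancel₀ (pow_ne_zero (k + 1) hq0) ?_
    linear_combination -h1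
  obtain ⟨x, hx, hxr, hfree⟩ := exists_free_omega p hF Q₀ hQ (k := k) hι (by omega) hε hs hr2
    (by rw [hp2]; exact hr2) hrq
  obtain ⟨v, hv⟩ := hQ.exists_value (by rw [Module.finrank_fintype_fun_eq_card, hι]; omega) (1 : F)
  exact forall_false_of_free h2 ⟨v, by rw [hv]; exact one_ne_zero⟩ hx hxr fun w hw0 hw => hw0 (by
    rw [hfree w hw, QuadraticMap.map_zero])

/-- An element of `Ω⁺_4k(2^f)` of order two fixing only singular vectors. -/
theorem even_case (h2 : (2 : F) = 0) {k : ℕ} (hk : 2 ≤ k) :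
    ¬ (∀ x : GL (Fin (k + k) ⊕ Fin (k + k)) F, x ∈ Cfsg.Geo.omegaGL ⇑(formPlus F (k + k)) →
      (∃ z : F, ((x ^ 2 : GL (Fin (k + k) ⊕ Fin (k + k)) F) : Matrix (Fin (k + k) ⊕ Fin (k + k)) (Fin (k + k) ⊕ Fin (k + k)) F) =
        z • (1 : Matrix (Fin (k + k) ⊕ Fin (k + k)) (Fin (k + k) ⊕ Fin (k + k)) F)) →
      (∀ z : F, (x : Matrix (Fin (k + k) ⊕ Fin (k + k)) (Fin (k + k) ⊕ Fin (k + k)) F) ≠
        z • (1 : Matrix (Fin (k + k) ⊕ Fin (k + k)) (Fin (k + k) ⊕ Fin (k + k)) F)) →
      ∃ W : Submodule F (Fin (k + k) ⊕ Fin (k + k) → F),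
        (finrank F W = 1 ∧ ∃ v ∈ W, formPlus F (k + k) v ≠ 0) ∧
        W.map (Matrix.toLin' (x : Matrix (Fin (k + k) ⊕ Fin (k + k)) (Fin (k + k) ⊕ Fin (k + k)) F)) ≤ W) := by
  classical
  obtain ⟨g, hg, hgx⟩ := exists_omega_involution (formPlus_nondeg F (k + k)) (k := k)
    (formPlus_frame F (k + k))
  replace hg := hg (by rw [finrank_formPlus]; omega)
  rw [← toO_map_omega] at hg
  obtain ⟨y, hy, rfl⟩ := hg
  set D : (Fin (k + k) ⊕ Fin (k + k) → F) → (Fin (k + k) ⊕ Fin (k + k) → F) := fun x =>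
    ∑ j : Fin k, (polar (formPlus F (k + k)) (stdE F (k + k) (Fin.natAdd k j)) x • stdE F (k + k) (Fin.castAdd k j) -
      polar (formPlus F (k + k)) (stdE F (k + k) (Fin.castAdd k j)) x • stdE F (k + k) (Fin.natAdd k j)) with hD
  have hyx : ∀ x, ((y : GL (Fin (k + k) ⊕ Fin (k + k)) F) : Matrix (Fin (k + k) ⊕ Fin (k + k)) (Fin (k + k) ⊕ Fin (k + k)) F).mulVec x = x + D x := fun x => by
    rw [← toO_apply]; exact hgx x
  have hpe : ∀ (l : Fin (k + k)) (x : Fin (k + k) ⊕ Fin (k + k) → F),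
      polar (formPlus F (k + k)) (stdE F (k + k) l) x = x (.inr l) := fun l x => by
    simp [polar_formPlus, stdE, Pi.single_apply]
  have hDr : ∀ x l, D x (.inr l) = 0 := fun x l => by
    simp [hD, stdE]
  have hfix : ∀ x, D x = 0 → ∀ l : Fin (k + k), x (.inr l) = 0 := by
    intro x hx l
    have hne : ∀ i j : Fin k, j.addNat k ≠ Fin.castAdd k i := fun i j h => by
      have := congrArg Fin.val h
      simp at this
      omega
    have hne' : ∀ i j : Fin k, Fin.castAdd k i ≠ j.addNat k := fun i j => (hne i j).symm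
    refine Fin.addCases (fun j => ?_) (fun j => ?_) l
    · have := congrFun hx (.inl (Fin.natAdd k j))
      simp only [hD, Finset.sum_apply, Pi.sub_apply, Pi.smul_apply, hpe] at this
      simpa [stdE, Pi.single_apply, hne, hne'] using this
    · have := congrFun hx (.inl (Fin.castAdd k j))
      simp only [hD, Finset.sum_apply, Pi.sub_apply, Pi.smul_apply, hpe] at this
      simpa [stdE, Pi.single_apply, hne, hne'] using this
  have hsq : ((y : GL (Fin (k + k) ⊕ Fin (k + k)) F)) ^ 2 = 1 := by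
    refine Units.ext ?_
    rw [Units.val_pow_eq_pow_val, _root_.sq, Units.val_one]
    refine Matrix.toLin'.injective (LinearMap.ext fun x => ?_)
    rw [Matrix.toLin'_apply, ← Matrix.mulVec_mulVec, hyx x, hyx, Matrix.toLin'_one, LinearMap.id_apply]
    have hDD : D (x + D x) = D x := by
      simp only [hD]
      refine Finset.sum_congr rfl fun j _ => ?_
      rw [hpe, hpe, hpe, hpe, Pi.add_apply, Pi.add_apply]
      have h0 := hDr x
      simp only [hD] at h0
      rw [h0, h0, add_zero, add_zero]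
    rw [hDD, add_assoc, ← two_smul F (D x), h2, zero_smul, add_zero]
  obtain ⟨v₁, hv₁⟩ := (formPlus_nondeg F (k + k)).exists_value (by rw [finrank_formPlus]; omega) (1 : F)
  refine forall_false_of_free h2 ⟨v₁, by rw [hv₁]; exact one_ne_zero⟩ ⟨y, hy, rfl⟩ hsq fun v hv0 hv => ?_
  rw [show (Cfsg.isometryGroup F ⇑(formPlus F (k + k))).subtype y =
      (y : GL (Fin (k + k) ⊕ Fin (k + k)) F) from rfl, hyx,
    add_eq_left] at hv
  exact hv0 (by simp [formPlus_coe, Cfsg.quadFormPlus, hfix v hv])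

end lines

end Cfsg.Agent.H68.EvenDerange
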