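import Mathlib

/-!
No finite non-abelian simple group has all its centralizers of non-trivial elements self-normalizing
and invariant under passing to non-trivial powers: every centralizer would be a Sylow subgroup, and
then the elements cannot be numerous enough.
-/

namespace Cfsg.Agent.H68

open scoped Pointwise

theorem telescope_bound (n : ℕ) (hn : 1 ≤ n) :
    ∑ m ∈ Finset.Icc 2 n, (1 : ℚ) / ((m : ℚ) ^ 2) ≤ 1 - 1 / n := by
  induction n, hn using Nat.le_induction with
  | base => simp
  | succ n hn ih =>
    rw [Finset.sum_Icc_succ_top (by omega)]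
    have h1 : (1 : ℚ) / ((n + 1 : ℕ) : ℚ) ^ 2 ≤ 1 / n - 1 / ((n + 1 : ℕ) : ℚ) := by
      have hn' : (1 : ℚ) ≤ n := by exact_mod_cast hn
      push_cast
      rw [div_sub_div _ _ (by positivity) (by positivity), div_le_div_iff₀ (by positivity) (by positivity)]
      nlinarith
    linarith

theorem burnside_not_abelian {T : Type*} [Group T] [Finite T] [IsSimpleGroup T]
    (hnc : ¬ IsMulCommutative T) {p : ℕ} [Fact p.Prime] (P : Sylow p T) (hp : p ∣ Nat.card T) :
    ¬ Subgroup.normalizer ((P : Subgroup T) : Set T) ≤ Subgroup.centralizer ((P : Subgroup T) : Set T) := by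
  intro h
  have hnormal : (MonoidHom.transferSylow P h).ker.Normal := inferInstance
  have hcompl := MonoidHom.ker_transferSylow_isComplement' P h
  rcases hnormal.eq_bot_or_eq_top with hk | hk
  · rw [hk] at hcompl
    have htop : (P : Subgroup T) = ⊤ := by
      simpa using Subgroup.isComplement'_bot_left.mp hcompl
    refine hnc ⟨⟨fun a b => ?_⟩⟩
    have hb := h (show b ∈ Subgroup.normalizer ((P : Subgroup T) : Set T) from
      Subgroup.le_normalizer (htop.symm ▸ Subgroup.mem_top b))
    exact Subgroup.mem_centralizer_iff.mp hb a (htop.symm ▸ Subgroup.mem_top a)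
  · rw [hk] at hcompl
    have hbot : (P : Subgroup T) = ⊥ := Subgroup.isComplement'_top_left.mp hcompl
    exact P.ne_bot_of_dvd_card hp hbot

variable {T : Type*} [Group T]

theorem mem_centralizer_single {x y : T} :
    y ∈ Subgroup.centralizer ({x} : Set T) ↔ y * x = x * y :=
  Subgroup.mem_centralizer_singleton_iff

theorem centralizer_conj (g x : T) {y : T} :
    y ∈ Subgroup.centralizer ({g * x * g⁻¹} : Set T) ↔
      g⁻¹ * y * g ∈ Subgroup.centralizer ({x} : Set T) := by
  rw [mem_centralizer_single, mem_centralizer_single]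
  constructor
  · intro h
    calc g⁻¹ * y * g * x = g⁻¹ * (y * (g * x * g⁻¹)) * g := by group
      _ = x * (g⁻¹ * y * g) := by rw [h]; group
  · intro h
    calc y * (g * x * g⁻¹) = g * ((g⁻¹ * y * g) * x) * g⁻¹ := by group
      _ = g * x * g⁻¹ * y := by rw [h]; group

/-- A finite non-abelian simple group cannot satisfy both hypotheses. -/
theorem no_sylow_centralizers [Finite T] [IsSimpleGroup T] (hnc : ¬ IsMulCommutative T)
    (hpow : ∀ (x : T) (k : ℕ), x ^ k ≠ 1 →
      Subgroup.centralizer ({x ^ k} : Set T) ≤ Subgroup.centralizer ({x} : Set T))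
    (hnorm : ∀ x : T, x ≠ 1 →
      Subgroup.normalizer ((Subgroup.centralizer ({x} : Set T) : Subgroup T) : Set T) ≤
        Subgroup.centralizer ({x} : Set T)) : False := by
  classical
  let C : T → Subgroup T := fun x => Subgroup.centralizer ({x} : Set T)
  have hself : ∀ x, x ∈ C x := fun x => mem_centralizer_single.mpr rfl
  have hpowC : ∀ x k, x ^ k ≠ 1 → C (x ^ k) = C x := fun x k hk =>
    le_antisymm (hpow x k hk) fun y hy => by
      rw [mem_centralizer_single] at hy ⊢
      exact (Commute.pow_right hy k).eq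
  -- commuting elements of coprime orders have the same centralizer
  have hcop : ∀ x y : T, x ≠ 1 → y ≠ 1 → y ∈ C x → (orderOf x).Coprime (orderOf y) →
      C x = C y := by
    intro x y hx hy hyx hc
    have hcomm : Commute x y := (mem_centralizer_single.mp hyx).symm
    have key : ∀ a b : T, Commute a b → a ≠ 1 → (orderOf a).Coprime (orderOf b) →
        C (a * b) = C a := by
      intro a b hab ha hab'
      have h1 : (a * b) ^ orderOf b = a ^ orderOf b := by
        rw [hab.mul_pow, pow_orderOf_eq_one, mul_one]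
      have h2 : a ^ orderOf b ≠ 1 := fun h =>
        ha (orderOf_eq_one_iff.mp (hab'.eq_one_of_dvd (orderOf_dvd_of_pow_eq_one h)))
      rw [← hpowC (a * b) (orderOf b) (h1 ▸ h2), h1, hpowC a _ h2]
    rw [← key x y hcomm hx hc, hcomm.eq, key y x hcomm.symm hy hc.symm]
  have hprime : ∀ x : T, x ≠ 1 → ∃ z : T, (orderOf z).Prime ∧ C z = C x := by
    intro x hx
    obtain ⟨p, hp, hpd⟩ := Nat.exists_prime_and_dvd (mt orderOf_eq_one_iff.mp hx)
    have ho : orderOf (x ^ (orderOf x / p)) = p := orderOf_pow_orderOf_div (orderOf_pos x).ne' hpd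
    refine ⟨_, ho.symm ▸ hp, hpowC x _ fun h => ?_⟩
    rw [h, orderOf_one] at ho
    exact hp.one_lt.ne ho
  -- every centralizer of an element of prime order is a Sylow subgroup
  have hsyl : ∀ z : T, ∀ p : ℕ, p.Prime → orderOf z = p →
      ∃ P : Sylow p T, (P : Subgroup T) = C z := by
    intro z p hp hz
    have := Fact.mk hp
    have hz1 : z ≠ 1 := fun h => by rw [h, orderOf_one] at hz; exact hp.one_lt.ne hz
    by_cases hall : ∀ y ∈ C z, ∀ q : ℕ, q.Prime → orderOf y = q → q = p
    · have hpg : IsPGroup p (C z) := by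
        refine IsPGroup.of_card (n := (Nat.card (C z)).primeFactorsList.length)
          (Nat.eq_prime_pow_of_unique_prime_dvd Nat.card_pos.ne' fun {q} hq hqd => ?_)
        have := Fact.mk hq
        obtain ⟨y, hy⟩ := exists_prime_orderOf_dvd_card' q hqd
        exact hall y y.2 q hq (by rw [Subgroup.orderOf_coe, hy])
      obtain ⟨P, hP⟩ := hpg.exists_le_sylow
      refine ⟨P, le_antisymm (fun g hg => ?_) hP⟩
      by_contra hgC
      have hlt : C z < P := lt_of_le_of_ne hP fun h => hgC (h ▸ hg)
      have : Group.IsNilpotent (P : Subgroup T) := P.2.isNilpotent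
      have hnc' := Group.normalizerCondition_of_isNilpotent (G := (P : Subgroup T))
      have hlt' : (C z).subgroupOf P < ⊤ := by
        rw [lt_top_iff_ne_top, Ne, Subgroup.subgroupOf_eq_top]
        exact fun h => hlt.not_ge h
      obtain ⟨y, hy, hy'⟩ := SetLike.exists_of_lt (hnc' _ hlt')
      refine hy' (hnorm z hz1 ?_)
      rw [Subgroup.mem_normalizer_iff]
      intro w
      rw [Subgroup.mem_normalizer_iff] at hy
      by_cases hw : w ∈ (P : Subgroup T)
      · simpa [Subgroup.mem_subgroupOf] using hy ⟨w, hw⟩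
      · refine iff_of_false (fun h => hw (hP h)) fun h => hw ?_
        have := mul_mem (mul_mem (inv_mem y.2) (hP h)) y.2
        simpa [mul_assoc] using this
    · exfalso
      push Not at hall
      obtain ⟨y, hy, q, hq, hyq, hqp⟩ := hall
      have hy1 : y ≠ 1 := fun h => by rw [h, orderOf_one] at hyq; exact hq.one_lt.ne hyq
      have hA : C z = C y := hcop z y hz1 hy1 hy (by
        rw [hz, hyq]; exact (Nat.coprime_primes hp hq).mpr (Ne.symm hqp))
      have hAall : ∀ w ∈ C z, w ≠ 1 → C w = C z := by
        intro w hw hw1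
        obtain ⟨r, hr, hrd⟩ := Nat.exists_prime_and_dvd (mt orderOf_eq_one_iff.mp hw1)
        have ho : orderOf (w ^ (orderOf w / r)) = r :=
          orderOf_pow_orderOf_div (orderOf_pos w).ne' hrd
        set v := w ^ (orderOf w / r)
        have hv1 : v ≠ 1 := fun h => by rw [h, orderOf_one] at ho; exact hr.one_lt.ne ho
        have hv : v ∈ C z := pow_mem hw _
        rw [← hpowC w _ hv1]
        by_cases hrp : r = p
        · rw [hA]
          exact (hcop y v hy1 hv1 (hA ▸ hv)
            (by rw [hyq, ho, hrp]; exact (Nat.coprime_primes hq hp).mpr hqp)).symm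
        · exact (hcop z v hz1 hv1 hv
            (by rw [hz, ho]; exact (Nat.coprime_primes hp hr).mpr (Ne.symm hrp))).symm
      have hAnorm : ∀ g : T, ∀ w ∈ C z, w ≠ 1 → g * w * g⁻¹ ∈ C z → g ∈ C z := by
        intro g w hw hw1 hgw
        refine hnorm z hz1 ?_
        rw [Subgroup.mem_normalizer_iff]
        intro u
        have e : ∀ v, v ∈ C z ↔ g⁻¹ * v * g ∈ C z := fun v => by
          conv_lhs => rw [← hAall _ hgw (by simpa using hw1)]
          rw [centralizer_conj]
          change _ ∈ C w ↔ _
          rw [hAall w hw hw1]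
        rw [e (g * u * g⁻¹)]
        simp [C, mul_assoc]
      let ι := (C z).subtype
      obtain ⟨Pz, hzP⟩ := (IsPGroup.of_card (p := p) (G := Subgroup.zpowers (⟨z, hself z⟩ : C z))
        (n := 1) (by rw [Nat.card_zpowers, pow_one, ← Subgroup.orderOf_coe, hz])).exists_le_sylow
      have hzPz : (⟨z, hself z⟩ : C z) ∈ Pz := hzP (Subgroup.mem_zpowers _)
      have hAp : IsPGroup p ((Pz : Subgroup (C z)).map ι) := Pz.2.map ι
      obtain ⟨P, hP⟩ := hAp.exists_le_sylow
      have hPA : ∀ g ∈ P, g ∈ C z := by
        by_contra hc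
        push Not at hc
        obtain ⟨g, hg, hgA⟩ := hc
        have : Group.IsNilpotent (P : Subgroup T) := P.2.isNilpotent
        have hlt' : ((Pz : Subgroup (C z)).map ι).subgroupOf P < ⊤ := by
          rw [lt_top_iff_ne_top, Ne, Subgroup.subgroupOf_eq_top]
          exact fun h => hgA (Subgroup.map_subtype_le _ (h hg))
        obtain ⟨w, hw, hw'⟩ :=
          SetLike.exists_of_lt (Group.normalizerCondition_of_isNilpotent (G := (P : Subgroup T)) _ hlt')
        have hzmem : z ∈ (Pz : Subgroup (C z)).map ι := ⟨_, hzPz, rfl⟩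
        have hwz : (w : T) * z * (w : T)⁻¹ ∈ (Pz : Subgroup (C z)).map ι := by
          have h2 := (Subgroup.mem_normalizer_iff.mp hw ⟨z, hP hzmem⟩).mp
            (by simpa [Subgroup.mem_subgroupOf] using hzmem)
          simpa [Subgroup.mem_subgroupOf] using h2
        have hwA : (w : T) ∈ C z :=
          hAnorm w z (hself z) hz1 (Subgroup.map_subtype_le _ hwz)
        refine hw' ?_
        rw [Subgroup.mem_subgroupOf]
        refine ⟨⟨w, hwA⟩, ?_, rfl⟩
        have hpg : IsPGroup p ((Pz : Subgroup (C z)) ⊔ Subgroup.zpowers ⟨w, hwA⟩ :) := by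
          refine (P.2.comap_of_injective ι (C z).subtype_injective).to_le (sup_le ?_ ?_)
          · intro u hu
            exact hP ⟨u, hu, rfl⟩
          · rw [Subgroup.zpowers_le]
            exact w.2
        exact (Pz.3 hpg le_sup_left) ▸ Subgroup.mem_sup_right (Subgroup.mem_zpowers _)
      refine burnside_not_abelian hnc P (hz ▸ orderOf_dvd_natCard z) fun g hg => ?_
      have hzmem : z ∈ (P : Subgroup T) := hP ⟨_, hzPz, rfl⟩
      have hgA : g ∈ C z := hAnorm g z (hself z) hz1
        (hPA _ ((Subgroup.mem_normalizer_iff.mp hg z).mp hzmem))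
      intro u hu
      by_cases hu1 : u = 1
      · simp [hu1]
      · have h3 : g ∈ C u := (hAall u (hPA u hu) hu1).symm ▸ hgA
        exact (mem_centralizer_single.mp h3).symm
  -- every element has prime power order and lies in the centre of a Sylow subgroup
  have hloc : ∀ x : T, x ≠ 1 → ∃ p ∈ (Nat.card T).primeFactors, ∃ P : Sylow p T,
      (P : Subgroup T) = C x := by
    intro x hx
    obtain ⟨z, hz, hzC⟩ := hprime x hx
    obtain ⟨P, hP⟩ := hsyl z _ hz rfl
    exact ⟨_, Nat.mem_primeFactors.mpr ⟨hz, orderOf_dvd_natCard z, Nat.card_pos.ne'⟩, P,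
      hP.trans hzC⟩
  have : Fintype T := Fintype.ofFinite T
  let S : ℕ → Finset T := fun p =>
    {x : T | x ≠ 1 ∧ ∃ P : Sylow p T, (P : Subgroup T) = C x}
  have hcover : (Finset.univ.erase (1 : T)) ⊆ (Nat.card T).primeFactors.biUnion S := by
    intro x hx
    rw [Finset.mem_erase] at hx
    obtain ⟨p, hp, hP⟩ := hloc x hx.1
    exact Finset.mem_biUnion.mpr ⟨p, hp, by simp [S, hx.1, hP]⟩
  have hbound : ∀ p ∈ (Nat.card T).primeFactors,
      ((S p).card : ℚ) < (Nat.card T : ℚ) * (1 / (p : ℚ) ^ 2) := by
    intro p hp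
    rw [Nat.mem_primeFactors] at hp
    have := Fact.mk hp.1
    obtain ⟨P⟩ := (Sylow.nonempty : Nonempty (Sylow p T))
    let Z : Subgroup T := (Subgroup.center (P : Subgroup T)).map (P : Subgroup T).subtype
    let Z' : Finset T := {x : T | x ∈ Z ∧ x ≠ 1}
    let f : (T ⧸ (P : Subgroup T)) × T → T := fun u => u.1.out * u.2 * u.1.out⁻¹
    have hsub : S p ⊆ (Finset.univ ×ˢ Z').image f := by
      intro x hx
      simp only [S, Finset.mem_filter, Finset.mem_univ, true_and] at hx
      obtain ⟨hx1, Q, hQ⟩ := hx
      obtain ⟨g, hg⟩ := MulAction.exists_smul_eq T P Q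
      let c : T := (QuotientGroup.mk g : T ⧸ (P : Subgroup T)).out
      have hc : ∀ y, y ∈ C x ↔ c⁻¹ * y * c ∈ (P : Subgroup T) := by
        intro y
        rw [← hQ, ← hg, Sylow.coe_subgroup_smul, Subgroup.mem_smul_pointwise_iff_exists]
        obtain ⟨w, hw⟩ := QuotientGroup.mk_out_eq_mul (P : Subgroup T) g
        simp only [c, hw]
        constructor
        · rintro ⟨s, hs, rfl⟩
          simpa [MulAut.smul_def, mul_assoc] using mul_mem (mul_mem (inv_mem w.2) hs) w.2
        · intro h
          refine ⟨g⁻¹ * y * g, ?_, by simp [MulAut.smul_def, mul_assoc]⟩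
          have := mul_mem (mul_mem w.2 h) (inv_mem w.2)
          simpa [mul_assoc] using this
      refine Finset.mem_image.mpr ⟨(QuotientGroup.mk g, c⁻¹ * x * c), ?_, ?_⟩
      · have hxP := (hc x).mp (hself x)
        refine Finset.mem_product.mpr ⟨Finset.mem_univ _, ?_⟩
        simp only [Z', Finset.mem_filter, Finset.mem_univ, true_and]
        refine ⟨⟨⟨_, hxP⟩, ?_, rfl⟩, fun h => hx1 ?_⟩
        · rw [SetLike.mem_coe, Subgroup.mem_center_iff]
          intro s
          have hs : c * (s : T) * c⁻¹ ∈ C x := by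
            rw [hc]; simp [mul_assoc]
          rw [mem_centralizer_single] at hs
          apply Subtype.ext
          change (s : T) * (c⁻¹ * x * c) = c⁻¹ * x * c * s
          calc (s : T) * (c⁻¹ * x * c) = c⁻¹ * (c * (s : T) * c⁻¹ * x) * c := by group
            _ = c⁻¹ * x * c * s := by rw [hs]; group
        · calc x = c * (c⁻¹ * x * c) * c⁻¹ := by group
            _ = 1 := by rw [h]; group
      · simp only [f, c]; group
    have hcard : (S p).card ≤ (P : Subgroup T).index * (Nat.card Z - 1) := by
      refine (Finset.card_le_card hsub).trans (Finset.card_image_le.trans (le_of_eq ?_))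
      rw [Finset.card_product, Finset.card_univ, Subgroup.index, Nat.card_eq_fintype_card]
      congr 1
      have : Z' = (Z : Set T).toFinset.erase 1 := by
        ext x; simp [Z', and_comm]
      rw [this, Finset.card_erase_of_mem (by simp [one_mem]), Set.toFinset_card,
        ← Nat.card_eq_fintype_card]
      rfl
    -- the Sylow subgroup is non-abelian
    have hP1 : (P : Subgroup T) ≠ ⊥ := P.ne_bot_of_dvd_card hp.2.1
    obtain ⟨m, hm⟩ := P.2.exists_card_eq
    have hZle : Z ≤ P := Subgroup.map_subtype_le _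
    have hidx : p ^ 2 * Nat.card Z ≤ Nat.card (P : Subgroup T) := by
      by_contra hlt
      push Not at hlt
      have hZcard : Nat.card Z = Nat.card (Subgroup.center (P : Subgroup T)) :=
        (Nat.card_congr (Subgroup.equivMapOfInjective _ _ (Subgroup.subtype_injective _)).toEquiv).symm
      have hmul := (Subgroup.center (P : Subgroup T)).card_mul_index
      rw [← hZcard] at hmul
      have hcyc : IsCyclic ((P : Subgroup T) ⧸ Subgroup.center (P : Subgroup T)) := by
        obtain ⟨k, hk⟩ := (Nat.dvd_prime_pow hp.1).mp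
          (hm ▸ Subgroup.index_dvd_card (Subgroup.center (P : Subgroup T)))
        have hk2 : k < 2 := by
          by_contra hk2
          push Not at hk2
          have : p ^ 2 ≤ p ^ k := Nat.pow_le_pow_right hp.1.pos hk2
          rw [← hmul, hk.2, mul_comm (Nat.card Z)] at hlt
          exact absurd hlt (not_lt.mpr (Nat.mul_le_mul_right _ this))
        interval_cases k
        · exact isCyclic_of_card_dvd_prime (p := p) (by
            rw [← Subgroup.index, hk.2, pow_zero]; exact one_dvd p)
        · exact isCyclic_of_card_dvd_prime (p := p) (by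
            rw [← Subgroup.index, hk.2, pow_one])
      have hab : ∀ a b : (P : Subgroup T), a * b = b * a := by
        have := hcyc
        have := MonoidHom.isMulCommutative_of_isCyclic_of_ker_le_center
          (QuotientGroup.mk' (Subgroup.center (P : Subgroup T))) (by simp)
        exact this.is_comm.comm
      refine burnside_not_abelian hnc P hp.2.1 fun g hg => ?_
      obtain ⟨z, hzP, hz⟩ : ∃ z ∈ (P : Subgroup T), orderOf z = p := by
        have hd : p ∣ Nat.card (P : Subgroup T) := P.dvd_card_of_dvd_card hp.2.1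
        obtain ⟨z, hz⟩ := exists_prime_orderOf_dvd_card' p hd
        exact ⟨z, z.2, by rw [Subgroup.orderOf_coe, hz]⟩
      obtain ⟨Q, hQ⟩ := hsyl z p hp.1 hz
      have hPQ : (P : Subgroup T) = Q := by
        refine Subgroup.eq_of_le_of_card_ge ?_ (le_of_eq ?_)
        · intro u hu
          rw [hQ, mem_centralizer_single]
          exact congrArg Subtype.val (hab ⟨u, hu⟩ ⟨z, hzP⟩)
        · rw [P.card_eq_multiplicity, Q.card_eq_multiplicity]
      have hz1 : z ≠ 1 := fun h => by rw [h, orderOf_one] at hz; exact hp.1.one_lt.ne hz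
      have hgP : g ∈ (P : Subgroup T) := by
        rw [hPQ, hQ]
        apply hnorm z hz1
        rw [hPQ, hQ] at hg
        exact hg
      intro u hu
      exact (congrArg Subtype.val (hab ⟨u, hu⟩ ⟨g, hgP⟩))
    have hidx' := (P : Subgroup T).card_mul_index
    have hZpos : 0 < Nat.card Z := Nat.card_pos
    have hlt : ((S p).card) * p ^ 2 < Nat.card T := by
      calc (S p).card * p ^ 2 ≤ (P : Subgroup T).index * (Nat.card Z - 1) * p ^ 2 :=
            Nat.mul_le_mul_right _ hcard
        _ = (P : Subgroup T).index * (p ^ 2 * (Nat.card Z - 1)) := by ring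
        _ < (P : Subgroup T).index * Nat.card (P : Subgroup T) := by
            refine Nat.mul_lt_mul_of_pos_left (lt_of_lt_of_le ?_ hidx) ?_
            · exact Nat.mul_lt_mul_of_pos_left (by omega) (pow_pos hp.1.pos 2)
            · exact Nat.pos_of_ne_zero Subgroup.index_ne_zero_of_finite
        _ = Nat.card T := by rw [mul_comm]; exact hidx'
    rw [mul_one_div, lt_div_iff₀ (by have := hp.1.pos; positivity)]
    exact_mod_cast hlt
  have hne : (Nat.card T).primeFactors.Nonempty := by
    refine Nat.nonempty_primeFactors.mpr Finite.one_lt_card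
  have hmain : ((Nat.card T : ℚ) - 1) < (Nat.card T : ℚ) * (1 - 1 / (Nat.card T : ℚ)) := by
    calc ((Nat.card T : ℚ) - 1) = (((Finset.univ.erase (1 : T)).card : ℕ) : ℚ) := by
          rw [Finset.card_erase_of_mem (Finset.mem_univ _), Finset.card_univ,
            ← Nat.card_eq_fintype_card, Nat.cast_sub Nat.card_pos, Nat.cast_one]
      _ ≤ ((((Nat.card T).primeFactors.biUnion S).card : ℕ) : ℚ) := by
          exact_mod_cast Finset.card_le_card hcover
      _ ≤ ∑ p ∈ (Nat.card T).primeFactors, ((S p).card : ℚ) := by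
          exact_mod_cast Finset.card_biUnion_le
      _ < ∑ p ∈ (Nat.card T).primeFactors, (Nat.card T : ℚ) * (1 / (p : ℚ) ^ 2) :=
          Finset.sum_lt_sum_of_nonempty hne hbound
      _ = (Nat.card T : ℚ) * ∑ p ∈ (Nat.card T).primeFactors, 1 / (p : ℚ) ^ 2 := by
          rw [Finset.mul_sum]
      _ ≤ (Nat.card T : ℚ) * ∑ m ∈ Finset.Icc 2 (Nat.card T), 1 / (m : ℚ) ^ 2 := by
          refine mul_le_mul_of_nonneg_left ?_ (by positivity)
          refine Finset.sum_le_sum_of_subset_of_nonneg (fun p hp => ?_) fun m _ _ => by positivity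
          rw [Nat.mem_primeFactors] at hp
          exact Finset.mem_Icc.mpr ⟨hp.1.two_le, Nat.le_of_dvd Nat.card_pos hp.2.1⟩
      _ ≤ (Nat.card T : ℚ) * (1 - 1 / (Nat.card T : ℚ)) :=
          mul_le_mul_of_nonneg_left (telescope_bound _ Nat.card_pos) (by positivity)
  have h0 : (Nat.card T : ℚ) ≠ 0 := by exact_mod_cast Nat.card_pos.ne'
  rw [mul_sub, mul_one, mul_one_div, div_self h0] at hmain
  exact lt_irrefl _ hmain

end Cfsg.Agent.H68
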