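import Cfsg.Agent.H68.Manning
import Cfsg.Agent.H68.Factor
import Cfsg.Agent.H68.SylowCentralizer
import Cfsg.Agent.Perm.Basic
import Cfsg.Agent.H69.Basic

/-!
An extremely primitive group is affine or almost simple.
-/

namespace Cfsg.Agent.H68

open MulAction
open scoped Pointwise

variable {G : Type*} [Group G] {Ω : Type*} [MulAction G Ω]

theorem smul_of_fix {g : G} {a : Ω} (hg : g • a = a) (x : G) :
    g • x • a = (g * x * g⁻¹) • a := by
  rw [mul_smul, mul_smul, inv_smul_eq_iff.mpr hg.symm]

theorem stabilizer_isCoatom_of_suborbit [FaithfulSMul G Ω] (hprim : IsPreprimitive G Ω) {a w : Ω}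
    (hH : stabilizer G a ≠ ⊥)
    (hep : IsPreprimitive (stabilizer G a) (orbit (stabilizer G a) w)) (hw : w ≠ a) :
    IsCoatom (stabilizer (stabilizer G a) w) := by
  obtain ⟨g, hg, hgw⟩ := not_fixed_by_stabilizer hprim hH hw
  have hnt : Nontrivial (orbit (stabilizer G a) w) :=
    ⟨⟨⟨w, mem_orbit_self w⟩, ⟨g • w, ⟨⟨g, hg⟩, rfl⟩⟩, fun h => hgw (congrArg Subtype.val h).symm⟩⟩
  have h2 := IsPreprimitive.isCoatom_stabilizer_of_isPreprimitive (stabilizer G a)
    (⟨w, mem_orbit_self w⟩ : orbit (stabilizer G a) w)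
  convert h2 using 1
  ext g
  exact ⟨fun h => Subtype.ext h, fun h => congrArg Subtype.val h⟩

/-- The endgame: `N = T × C`, `T` simple, the points are the `x • a`, `x ∈ T`, and the inner
automorphisms of `T` are realized in the stabilizer by a normal subgroup of it. -/
theorem endgame [Finite G] [FaithfulSMul G Ω] (hprim : IsPreprimitive G Ω) (a : Ω)
    (hH : stabilizer G a ≠ ⊥)
    (hep : ∀ w : Ω, IsPreprimitive (stabilizer G a) (orbit (stabilizer G a) w))
    (T C : Subgroup G) (hTs : IsSimpleGroup T) (hTnc : ¬ IsMulCommutative T)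
    (hcomm : ∀ t ∈ T, ∀ u ∈ C, t * u = u * t)
    (hC : ∀ u ∈ C, u • a = a → u = 1)
    (hlift : ∀ t ∈ T, ∃ u ∈ C, (t * u) • a = a)
    (hfree : ∀ t ∈ T, t • a = a → t = 1)
    (hnormal : ∀ g ∈ stabilizer G a, ∀ t ∈ T, ∀ u ∈ C, (t * u) • a = a →
      ∃ t' ∈ T, ∃ u' ∈ C, g * (t * u) * g⁻¹ = t' * u')
    (hpow : ∀ g ∈ stabilizer G a, ∀ x ∈ T, g • x • a = x • a → ∀ k : ℕ,
      g • x ^ k • a = x ^ k • a) : False := by
  classical
  have hT2 : ∀ x y, x ∈ T → y ∈ T → x • a = y • a → x = y := by
    intro x y hx hy h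
    exact (inv_mul_eq_one.mp (hfree _ (mul_mem (inv_mem hy) hx)
      (by rw [mul_smul, h, inv_smul_smul]))).symm
  choose u hu hua using hlift
  -- the lift of an element of `T`
  have huniq : ∀ t (ht : t ∈ T), ∀ u' ∈ C, (t * u') • a = a → u' = u t ht := by
    intro t ht u' hu' h
    have h2 : (u t ht)⁻¹ * u' = (t * u t ht)⁻¹ * (t * u') := by group
    have := hC _ (mul_mem (inv_mem (hu t ht)) hu') (by
      rw [h2, mul_smul, h, inv_smul_eq_iff, hua t ht])
    exact (inv_mul_eq_one.mp this).symm
  let δ : T →* stabilizer G a :=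
    { toFun := fun t => ⟨(t : G) * u t t.2, hua t t.2⟩
      map_one' := by
        apply Subtype.ext
        simp only [OneMemClass.coe_one, one_mul]
        exact (huniq 1 (one_mem T) 1 (one_mem C) (by simp)).symm
      map_mul' := by
        intro s t
        apply Subtype.ext
        simp only [Subgroup.coe_mul]
        have e : (s : G) * t * (u s s.2 * u t t.2) = (s : G) * u s s.2 * (t * u t t.2) := by
          rw [mul_assoc (s : G) t, ← mul_assoc (t : G), hcomm t t.2 _ (hu s s.2)]
          group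
        rw [← e]
        congr 1
        exact (huniq _ (mul_mem s.2 t.2) _ (mul_mem (hu s s.2) (hu t t.2))
          (by rw [e, mul_smul, hua t t.2, hua s s.2])).symm }
  have hδ : ∀ t x : T, (δ t : G) • (x : G) • a = ((t : G) * x * (t : G)⁻¹) • a := by
    intro t x
    rw [smul_of_fix (δ t).2]
    congr 1
    change (t : G) * u t t.2 * x * ((t : G) * u t t.2)⁻¹ = _
    rw [mul_inv_rev, mul_assoc (t : G) (u t t.2) x, ← hcomm x x.2 _ (hu t t.2)]
    group
  have hrange : ∀ (g : stabilizer G a) (t : T), ∃ t' : T, δ t' = g * δ t * g⁻¹ := by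
    intro g t
    obtain ⟨t', ht', u', hu', he⟩ := hnormal g g.2 t t.2 _ (hu t t.2) (hua t t.2)
    refine ⟨⟨t', ht'⟩, Subtype.ext ?_⟩
    have hfix : (t' * u') • a = a := he ▸ (g * δ t * g⁻¹).2
    change t' * u t' ht' = (g : G) * ((t : G) * u t t.2) * (g : G)⁻¹
    rw [he, huniq t' ht' u' hu' hfix]
  have hTnt : Nontrivial T := hTs.toNontrivial
  have hcent : Subgroup.center T = ⊥ := by
    refine ((Subgroup.center T).normal_of_characteristic.eq_bot_or_eq_top).resolve_right
      fun h => hTnc ⟨⟨fun x y => ?_⟩⟩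
    exact Subgroup.mem_center_iff.mp (h ▸ Subgroup.mem_top y) x
  have hinj : Function.Injective δ := by
    rw [← MonoidHom.ker_eq_bot_iff, eq_bot_iff, ← hcent]
    intro t ht
    rw [MonoidHom.mem_ker] at ht
    rw [Subgroup.mem_center_iff]
    intro x
    have h := hδ t x
    rw [ht] at h
    simp only [Subgroup.coe_one, one_smul] at h
    have h2 := hT2 _ _ x.2 (mul_mem (mul_mem t.2 x.2) (inv_mem t.2)) h
    apply Subtype.ext
    change (x : G) * t = t * x
    calc (x : G) * t = ((t : G) * x * (t : G)⁻¹) * t := by rw [← h2]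
      _ = t * x := by group
  have hne : ∀ x : T, x ≠ 1 → (x : G) • a ≠ a := fun x hx h =>
    hx (Subtype.ext (hfree x x.2 h))
  have hmax : ∀ x : T, x ≠ 1 → IsCoatom (stabilizer (stabilizer G a) ((x : G) • a)) := fun x hx =>
    stabilizer_isCoatom_of_suborbit hprim hH (hep _) (hne x hx)
  have hmemC : ∀ x t : T, δ t ∈ stabilizer (stabilizer G a) ((x : G) • a) ↔
      t ∈ Subgroup.centralizer ({x} : Set T) := by
    intro x t
    rw [mem_centralizer_single, mem_stabilizer_iff, Subgroup.smul_def, hδ]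
    constructor
    · intro h
      have h2 := hT2 _ _ (mul_mem (mul_mem t.2 x.2) (inv_mem t.2)) x.2 h
      apply Subtype.ext
      change (t : G) * x = x * t
      calc (t : G) * x = ((t : G) * x * (t : G)⁻¹) * t := by group
        _ = x * t := by rw [h2]
    · intro h
      have h2 : (t : G) * x = x * t := congrArg Subtype.val h
      rw [h2]
      group
  refine no_sylow_centralizers (T := T) hTnc (fun x k hk => ?_) (fun x hx => ?_)
  · -- powers
    intro t ht
    rw [← hmemC] at ht ⊢
    have hle : stabilizer (stabilizer G a) ((x : G) • a) ≤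
        stabilizer (stabilizer G a) (((x ^ k : T) : G) • a) := by
      intro g hg
      rw [mem_stabilizer_iff, Subgroup.smul_def] at hg ⊢
      simpa using hpow g g.2 x x.2 hg k
    have hx : x ≠ 1 := fun h => hk (by simp [h])
    rcases (hmax x hx).le_iff.mp hle with h | h
    · exact absurd h (hmax (x ^ k) hk).1
    · exact h ▸ ht
  · -- normalizers
    intro t ht
    rw [← hmemC]
    set Cx := Subgroup.centralizer ({x} : Set T) with hCx
    let K : Subgroup (stabilizer G a) := Subgroup.normalizer ((Cx.map δ) : Set (stabilizer G a))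
    have htK : δ t ∈ K := Subgroup.le_normalizer_map δ ⟨t, ht, rfl⟩
    have hconj : ∀ g ∈ stabilizer (stabilizer G a) ((x : G) • a), ∀ c ∈ Cx,
        ∃ c' ∈ Cx, δ c' = g * δ c * g⁻¹ := by
      intro g hg c hc
      obtain ⟨c', hc'⟩ := hrange g c
      refine ⟨c', (hmemC x c').mp ?_, hc'⟩
      rw [hc']
      exact mul_mem (mul_mem hg ((hmemC x c).mpr hc)) (inv_mem hg)
    have hle : stabilizer (stabilizer G a) ((x : G) • a) ≤ K := by
      intro g hg
      rw [Subgroup.mem_normalizer_iff]
      intro n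
      constructor
      · rintro ⟨c, hc, rfl⟩
        obtain ⟨c', hc', he⟩ := hconj g hg c hc
        exact ⟨c', hc', he⟩
      · rintro ⟨c, hc, he⟩
        obtain ⟨c', hc', he'⟩ := hconj g⁻¹ (inv_mem hg) c hc
        exact ⟨c', hc', by rw [he', he]; group⟩
    rcases (hmax x hx).le_iff.mp hle with h | h
    · exfalso
      have hnorm : Cx.Normal := by
        refine ⟨fun c hc s => ?_⟩
        have hs : δ s ∈ K := h ▸ Subgroup.mem_top _
        obtain ⟨c', hc', he⟩ := (Subgroup.mem_normalizer_iff.mp hs (δ c)).mp ⟨c, hc, rfl⟩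
        rw [← map_inv, ← map_mul, ← map_mul] at he
        rw [← hinj he]
        exact hc'
      rcases hnorm.eq_bot_or_eq_top with h1 | h1
      · have : x ∈ Cx := mem_centralizer_single.mpr rfl
        rw [h1, Subgroup.mem_bot] at this
        exact hx this
      · have hxc : x ∈ Subgroup.center T := by
          rw [Subgroup.mem_center_iff]
          intro s
          exact mem_centralizer_single.mp (show s ∈ Cx from h1 ▸ Subgroup.mem_top s)
        rw [hcent, Subgroup.mem_bot] at hxc
        exact hx hxc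
    · exact h ▸ htK

/-- An extremely primitive group has an abelian or a simple minimal normal subgroup, with trivial
centralizer in the latter case. -/
theorem affine_or_almostSimple [Finite G] [Finite Ω] [FaithfulSMul G Ω] [Nontrivial Ω]
    (hprim : IsPreprimitive G Ω)
    (hep : ∀ (b : Ω) (x : Ω), IsPreprimitive (stabilizer G b) (orbit (stabilizer G b) x)) :
    (∃ N : Subgroup G, N.Normal ∧ N ≠ ⊥ ∧ IsMulCommutative N ∧ ∀ ω : Ω, stabilizer N ω = ⊥) ∨
    (∃ T : Subgroup G, T.Normal ∧ IsSimpleGroup T ∧ ¬ IsMulCommutative T ∧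
      Subgroup.centralizer (T : Set G) = ⊥) := by
  classical
  have htr : IsPretransitive G Ω := hprim.toIsPretransitive
  obtain ⟨a, b, hab⟩ := exists_pair_ne Ω
  have : Nontrivial G := by
    obtain ⟨g, hg⟩ := exists_smul_eq G a b
    exact ⟨⟨g, 1, fun h => hab (by rw [← hg, h, one_smul])⟩⟩
  obtain ⟨N, hN, hN1, hmin'⟩ := H69.exists_minimal_normal (G := G)
  have hmin : ∀ M : Subgroup G, M.Normal → M ≤ N → M = ⊥ ∨ M = N := fun M hM hle => by
    by_cases h : M = ⊥
    · exact Or.inl h
    · exact Or.inr (hmin' M hM h hle)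
  have := hN
  have hNt : IsPretransitive N Ω := Perm.transitive_of_normal hN1
  by_cases hab' : IsMulCommutative N
  · exact Or.inl ⟨N, hN, hN1, hab', Perm.abelian_transitive_free hab' hNt⟩
  obtain ⟨T, hF⟩ := exists_factor N hN1 hmin hab'
  have hCfree := Perm.free_iff.mp (Perm.centralizer_free (X := Ω) hNt)
  have hHN : stabilizer G a ⊔ N = ⊤ := by
    rw [sup_comm]; exact Perm.sup_stabilizer_eq_top hNt a
  have hH : stabilizer G a ≠ ⊥ := by
    intro hH
    have hmax := IsPreprimitive.isCoatom_stabilizer_of_isPreprimitive G a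
    rw [hH] at hmax
    obtain ⟨z, hz, hz1⟩ := (Subgroup.bot_or_exists_ne_one T).resolve_left hF.ne_bot
    have hcyc : Subgroup.zpowers z = ⊤ := by
      refine hmax.2 _ ?_
      rw [bot_lt_iff_ne_bot, Ne, Subgroup.zpowers_eq_bot]
      exact hz1
    refine hab' ⟨⟨fun x y => Subtype.ext ?_⟩⟩
    obtain ⟨i, hi⟩ := Subgroup.mem_zpowers_iff.mp (hcyc.ge (Subgroup.mem_top (x : G)))
    obtain ⟨j, hj⟩ := Subgroup.mem_zpowers_iff.mp (hcyc.ge (Subgroup.mem_top (y : G)))
    change (x : G) * y = y * x
    rw [← hi, ← hj, ← zpow_add, ← zpow_add, add_comm]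
  -- conjugates of `T` by the stabilizer
  have hcjH : ∀ g : G, ∃ h ∈ stabilizer G a, cj g T = cj h T := by
    intro g
    obtain ⟨n, hn, h, hh, he⟩ := Perm.exists_mul_stabilizer hNt a g⁻¹
    refine ⟨h⁻¹, inv_mem hh, ?_⟩
    have hg : g = h⁻¹ * n⁻¹ := by rw [← inv_inv g, he, mul_inv_rev]
    have hnT : cj n⁻¹ T = T := le_cj_of_forall fun x hx => hF.normalized _ (inv_mem hn) x hx
    rw [hg, cj_mul, hnT]
  -- a factor fixes nothing
  have hTnotle : ¬ T ≤ stabilizer G a := by
    intro hle
    refine hF.ne_bot ((Subgroup.eq_bot_iff_forall T).mpr fun t ht => ?_)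
    refine eq_of_smul_eq_smul fun v : Ω => ?_
    obtain ⟨n, hn, rfl⟩ := Perm.exists_mem_smul_eq hNt a v
    have h2 : (n⁻¹ * t * n) • a = a := hle (by simpa using hF.normalized n⁻¹ (inv_mem hn) t ht)
    rw [mul_smul, mul_smul, inv_smul_eq_iff] at h2
    rw [one_smul]
    exact h2
  by_cases hTN : T = N
  · -- `N` simple
    by_cases hcen : Subgroup.centralizer (N : Set G) = ⊥
    · refine Or.inr ⟨N, hN, hTN ▸ hF.simple, hab', hcen⟩
    exfalso
    have hct : IsPretransitive (Subgroup.centralizer (N : Set G)) Ω := Perm.transitive_of_normal hcen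
    have hNfree : ∀ t ∈ N, t • a = a → t = 1 := fun t ht h =>
      Perm.eq_one_of_commute_of_fixed (S := (Subgroup.centralizer (N : Set G) : Set G))
        (Perm.exists_mem_smul_eq hct)
        (fun s hs => (Subgroup.mem_centralizer_iff.mp hs t ht).symm) h
    refine endgame hprim a hH (hep a) N (Subgroup.centralizer (N : Set G)) (hTN ▸ hF.simple)
      hab' (fun t ht u hu => Subgroup.mem_centralizer_iff.mp hu t ht)
      (fun u hu h => hCfree u hu a h) ?_ hNfree ?_ ?_
    · intro t ht
      obtain ⟨u, hu, hua⟩ := Perm.exists_mem_smul_eq hct a (t⁻¹ • a)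
      exact ⟨u, hu, by rw [mul_smul, hua, smul_inv_smul]⟩
    · intro g _ t ht u hu _
      refine ⟨g * t * g⁻¹, hN.conj_mem t ht g, g * u * g⁻¹, ?_, by group⟩
      rw [Subgroup.mem_centralizer_iff]
      intro n hn
      have h2 := Subgroup.mem_centralizer_iff.mp hu _
        (show g⁻¹ * n * g ∈ N by simpa using hN.conj_mem n hn g⁻¹)
      calc n * (g * u * g⁻¹) = g * ((g⁻¹ * n * g) * u) * g⁻¹ := by group
        _ = g * u * g⁻¹ * n := by rw [h2]; group
    · intro g hg x hx hfix k
      rw [smul_of_fix hg] at hfix ⊢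
      have hgx : g * x * g⁻¹ = x := by
        have := hN.conj_mem x hx g
        exact (inv_mul_eq_one.mp (hNfree _ (mul_mem (inv_mem hx) this)
          (by rw [mul_smul, hfix, inv_smul_smul]))).symm
      rw [← conj_pow, hgx]
  -- `N` not simple
  exfalso
  have hD1 : N ⊓ stabilizer G a ≠ ⊥ := by
    intro hD
    have hNfree : ∀ t ∈ N, t • a = a → t = 1 := fun t ht h =>
      Subgroup.mem_bot.mp (hD ▸ ⟨ht, h⟩)
    have hinjN : ∀ x ∈ N, ∀ y ∈ N, x • a = y • a → x = y := fun x hx y hy h =>
      (inv_mul_eq_one.mp (hNfree _ (mul_mem (inv_mem hy) hx)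
        (by rw [mul_smul, h, inv_smul_smul]))).symm
    obtain ⟨g0, hg0⟩ := hF.exists_cj_ne hTN
    obtain ⟨h0, hh0, hh0e⟩ := hcjH g0
    rw [hh0e] at hg0
    -- the stabilizer of the factor centralizes it
    have hcentT : ∀ x ∈ T, ∀ h ∈ stabilizer G a, cj h T = T → h * x * h⁻¹ = x := by
      intro x hx h hh hhT
      let X := orbit (stabilizer G a) (x • a)
      have himg : ∀ g : stabilizer G a, ∀ g' : stabilizer G a, ∀ y ∈ T, ∀ y' ∈ T, y ≠ 1 →
          (g : G) • y • a = (g' : G) • y' • a → cj (g : G) T = cj (g' : G) T := by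
        intro g g' y hy y' hy' hy1 he
        rw [smul_of_fix g.2, smul_of_fix g'.2] at he
        have he' := hinjN _ (hN.conj_mem y (hF.le hy) g) _ (hN.conj_mem y' (hF.le hy') g') he
        by_contra hne
        have hne' : cj ((g : G)⁻¹ * g') T ≠ T := by
          intro h2
          apply hne
          conv_lhs => rw [← h2, ← cj_mul, mul_inv_cancel_left]
        have hy2 : y ∈ cj ((g : G)⁻¹ * g') T := by
          rw [mem_cj]
          have : (g' : G)⁻¹ * ((g : G) * y * (g : G)⁻¹) * g' = y' := by rw [he']; group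
          rw [← this] at hy'
          simpa [mul_assoc] using hy'
        exact hy1 (hF.eq_one_of_mem hy (cj_le_others hne' hy2))
      by_cases hx1 : x = 1
      · simp [hx1]
      let B : Set X := {p | ∃ y ∈ T, y ≠ 1 ∧ (p : Ω) = y • a}
      have hB : IsBlock (stabilizer G a) B := by
        rw [isBlock_iff_smul_eq_of_nonempty]
        intro g hg
        obtain ⟨p, hp1, y', hy', hy'1, hp2⟩ := hg
        obtain ⟨q, ⟨y, hy, hy1, hq⟩, rfl⟩ := hp1
        have hgT : cj (g : G) T = T := by
          have h3 := himg g 1 y hy y' hy' hy1 (by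
            rw [← hq]
            simp only [Subgroup.coe_one, one_smul]
            exact hp2)
          rw [h3]
          ext z; simp [mem_cj]
        have hinv : ∀ k : stabilizer G a, cj (k : G) T = T → ∀ r ∈ B, k • r ∈ B := by
          rintro k hk r ⟨z, hz, hz1, hr⟩
          refine ⟨(k : G) * z * (k : G)⁻¹, ?_, by simpa using hz1, ?_⟩
          · rw [← hk]; exact ⟨z, hz, by simp⟩
          · change (k : G) • (r : Ω) = _
            rw [hr, smul_of_fix k.2]
        apply Set.Subset.antisymm
        · rintro _ ⟨r, hr, rfl⟩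
          exact hinv g hgT r hr
        · intro r hr
          refine ⟨g⁻¹ • r, hinv g⁻¹ ?_ r hr, smul_inv_smul g r⟩
          rw [Subgroup.coe_inv]
          conv_lhs => rw [← hgT, ← cj_mul, inv_mul_cancel]
          ext z; simp [mem_cj]
      rcases (hep a (x • a)).isTrivialBlock_of_isBlock hB with hs | hs
      · have hp0 : (⟨x • a, mem_orbit_self _⟩ : X) ∈ B := ⟨x, hx, hx1, rfl⟩
        have hp1 : (⟨h • x • a, ⟨⟨h, hh⟩, rfl⟩⟩ : X) ∈ B := by
          refine ⟨h * x * h⁻¹, ?_, by simpa using hx1, ?_⟩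
          · rw [← hhT]; exact ⟨x, hx, by simp⟩
          · rw [← smul_of_fix hh]
        have he := congrArg Subtype.val (hs hp1 hp0)
        change h • x • a = x • a at he
        rw [smul_of_fix hh] at he
        exact hinjN _ (hN.conj_mem x (hF.le hx) h) x (hF.le hx) he
      · exfalso
        have hp : (⟨h0 • x • a, ⟨⟨h0, hh0⟩, rfl⟩⟩ : X) ∈ B := hs ▸ Set.mem_univ _
        obtain ⟨y, hy, hy1, he⟩ := hp
        refine hg0 ?_
        have h3 := himg ⟨h0, hh0⟩ 1 x hx y hy hx1 (by simpa using he)
        rw [h3]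
        ext z; simp [mem_cj]
    -- hence a diagonal element fixed by the stabilizer
    obtain ⟨x, hx, hx1⟩ := (Subgroup.bot_or_exists_ne_one T).resolve_left hF.ne_bot
    have : Fintype (stabilizer G a) := Fintype.ofFinite _
    let S : Finset G := Finset.univ.image fun h : stabilizer G a => (h : G) * x * (h : G)⁻¹
    have hother : ∀ h : stabilizer G a, (h : G) * x * (h : G)⁻¹ ≠ x →
        (h : G) * x * (h : G)⁻¹ ∈ others T := by
      intro h hne
      by_cases hc : cj (h : G) T = T
      · exact absurd (hcentT x hx h h.2 hc) hne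
      · exact cj_le_others hc ⟨x, hx, by simp⟩
    have hpair : ∀ h k : stabilizer G a,
        Commute ((h : G) * x * (h : G)⁻¹) ((k : G) * x * (k : G)⁻¹) := by
      intro h k
      have hcx : Commute x ((((h⁻¹ * k : stabilizer G a)) : G) * x *
          (((h⁻¹ * k : stabilizer G a)) : G)⁻¹) := by
        by_cases h2 : (((h⁻¹ * k : stabilizer G a)) : G) * x *
            (((h⁻¹ * k : stabilizer G a)) : G)⁻¹ = x
        · rw [h2]
        · exact hF.comm x hx _ (hother _ h2)
      have h3 := hcx.map (MulAut.conj (h : G)).toMonoidHom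
      simpa [mul_assoc] using h3
    have hSc : (S : Set G).Pairwise (Function.onFun Commute id) := by
      intro p hp q hq _
      simp only [S, Finset.coe_image, Set.mem_image] at hp hq
      obtain ⟨h, -, rfl⟩ := hp
      obtain ⟨k, -, rfl⟩ := hq
      exact hpair h k
    let z := S.noncommProd id hSc
    have hzN : z ∈ N := Subgroup.noncommProd_mem _ _ fun c hc => by
      simp only [S, Finset.mem_image] at hc
      obtain ⟨h, -, rfl⟩ := hc
      exact hN.conj_mem x (hF.le hx) h
    have hzfix : ∀ h ∈ stabilizer G a, h * z * h⁻¹ = z := by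
      intro h hh
      have hperm : S.image (fun c => h * c * h⁻¹) = S := by
        apply Finset.eq_of_subset_of_card_le
        · intro c hc
          simp only [S, Finset.mem_image, Finset.mem_univ, true_and] at hc ⊢
          obtain ⟨_, ⟨k, rfl⟩, rfl⟩ := hc
          exact ⟨⟨h, hh⟩ * k, by simp [mul_assoc]⟩
        · exact (Finset.card_image_of_injective S
            (f := fun c => h * c * h⁻¹) (fun p q hpq => by simpa using hpq)).ge
      calc h * z * h⁻¹ = (MulAut.conj h).toMonoidHom (S.noncommProd id hSc) := by simp [z]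
        _ = S.noncommProd (fun c => h * c * h⁻¹) (fun p hp q hq hpq => by
              simpa [Function.onFun] using (hSc hp hq hpq).map (MulAut.conj h).toMonoidHom) := by
            rw [Finset.map_noncommProd]
            rfl
        _ = (S.image fun c => h * c * h⁻¹).noncommProd id (hperm.symm ▸ hSc) := by
            simp only [Finset.noncommProd, Finset.image_val]
            congr 1
            rw [Multiset.dedup_eq_self.mpr (S.nodup.map (fun p q hpq => by simpa using hpq))]
            simp [Multiset.map_map]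
        _ = z := by simp [z, hperm]
    have hz1 : z ≠ 1 := by
      have hxS : x ∈ S := Finset.mem_image.mpr ⟨1, Finset.mem_univ _, by simp⟩
      intro hz
      have e : z = x * (S.erase x).noncommProd id (hSc.mono (by simp)) :=
        (Finset.mul_noncommProd_erase S hxS id hSc).symm
      have hu : (S.erase x).noncommProd id (hSc.mono (by simp)) ∈ others T :=
        Subgroup.noncommProd_mem _ _ fun c hc => by
          simp only [S, Finset.mem_erase, Finset.mem_image] at hc
          obtain ⟨hcx, h, -, rfl⟩ := hc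
          exact hother h hcx
      rw [e] at hz
      exact hx1 (hF.mul_inj hx (one_mem T) hu (one_mem _) (by rw [hz, one_mul])).1
    -- the centralizer of the stabilizer in `N` is trivial or everything
    have hzfix' : ∀ h ∈ stabilizer G a, z * h = h * z := fun h hh => by
      calc z * h = (h * z * h⁻¹) * h := by rw [hzfix h hh]
        _ = h * z := by group
    have hmax := IsPreprimitive.isCoatom_stabilizer_of_isPreprimitive G a
    let K := Subgroup.centralizer (stabilizer G a : Set G) ⊓ N
    have hHK : stabilizer G a ≤ Subgroup.normalizer (K : Set G) := by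
      intro h hh
      rw [Subgroup.mem_normalizer_iff]
      intro n
      refine ⟨fun hn => ?_, fun hn => ?_⟩
      · have : h * n * h⁻¹ = n := by
          rw [Subgroup.mem_centralizer_iff.mp hn.1 h hh]; group
        rw [this]; exact hn
      · have h2 := Subgroup.mem_centralizer_iff.mp hn.1 h hh
        have : h * n * h⁻¹ = n := mul_left_cancel (h2.trans (by group))
        rwa [this] at hn
    have hsup : stabilizer G a < stabilizer G a ⊔ K := by
      refine lt_of_le_of_ne le_sup_left fun he => hz1 (hNfree z hzN ?_)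
      have : z ∈ stabilizer G a := he ▸ Subgroup.mem_sup_right
        ⟨Subgroup.mem_centralizer_iff.mpr fun h hh => (hzfix' h hh).symm, hzN⟩
      exact this
    have htop := hmax.2 _ hsup
    refine hH ((Subgroup.eq_bot_iff_forall _).mpr fun h hh => ?_)
    refine eq_of_smul_eq_smul fun v : Ω => ?_
    obtain ⟨g, rfl⟩ := exists_smul_eq G a v
    have hg : g ∈ ((stabilizer G a ⊔ K : Subgroup G) : Set G) := htop ▸ Subgroup.mem_top g
    rw [Subgroup.coe_mul_of_left_le_normalizer_right _ _ hHK] at hg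
    obtain ⟨s, hs, k, hk, rfl⟩ := hg
    rw [one_smul]
    have hks : s • k • a = k • a := by
      rw [smul_of_fix hs, Subgroup.mem_centralizer_iff.mp hk.1 s hs]; group
    have hkh : h • k • a = k • a := by
      rw [smul_of_fix hh, Subgroup.mem_centralizer_iff.mp hk.1 h hh]; group
    change h • (s * k) • a = (s * k) • a
    rw [mul_smul, hks, hkh]
  -- the stabilizer in `N` is transitive on the suborbits
  let D := N ⊓ stabilizer G a
  have hDn : stabilizer G a ≤ Subgroup.normalizer (D : Set G) := fun g hg => by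
    rw [Subgroup.mem_normalizer_iff]
    intro n
    constructor
    · rintro ⟨h1, h2⟩
      exact ⟨hN.conj_mem n h1 g,
        (stabilizer G a).mul_mem ((stabilizer G a).mul_mem hg h2) ((stabilizer G a).inv_mem hg)⟩
    · rintro ⟨h1, h2⟩
      refine ⟨by simpa [mul_assoc] using hN.conj_mem _ h1 g⁻¹, ?_⟩
      have := mul_mem (mul_mem (inv_mem hg) h2) hg
      simpa [mul_assoc] using this
  have horb := orbit_eq_stabilizer_orbit hprim hH hep D hD1 inf_le_right hDn
  have hmove : ∀ x ∈ T, ∀ h ∈ stabilizer G a, ∃ t ∈ T, ∃ s ∈ T,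
      s * x * s⁻¹ = t ∧ (t⁻¹ * (h * x * h⁻¹)) • a = a := by
    intro x hx h hh
    have hm : h • x • a ∈ orbit (stabilizer G a) (x • a) := ⟨⟨h, hh⟩, rfl⟩
    rw [← horb] at hm
    obtain ⟨⟨d, hd⟩, hde⟩ := hm
    obtain ⟨s, hs, u, hu, hsu⟩ := hF.exists_mul d hd.1
    refine ⟨s * x * s⁻¹, mul_mem (mul_mem hs hx) (inv_mem hs), s, hs, rfl, ?_⟩
    change d • x • a = h • x • a at hde
    rw [smul_of_fix hd.2, smul_of_fix hh] at hde
    have e : d * x * d⁻¹ = s * x * s⁻¹ := by
      rw [hsu, mul_inv_rev, mul_assoc s u x, ← hF.comm x hx u hu]; group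
    rw [mul_smul, ← hde, e, inv_smul_smul]
  -- the projection of the stabilizer to `T`
  let R : Subgroup T :=
    { carrier := {t : T | ∃ u ∈ others T, ((t : G) * u) • a = a}
      one_mem' := ⟨1, one_mem _, by simp⟩
      mul_mem' := by
        rintro s t ⟨u, hu, hus⟩ ⟨v, hv, hvt⟩
        refine ⟨u * v, mul_mem hu hv, ?_⟩
        have e : ((s * t : T) : G) * (u * v) = ((s : G) * u) * ((t : G) * v) := by
          rw [Subgroup.coe_mul, mul_assoc (s : G) t, ← mul_assoc (t : G), hF.comm t t.2 u hu]
          group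
        rw [e, mul_smul, hvt, hus]
      inv_mem' := by
        rintro t ⟨u, hu, hut⟩
        refine ⟨u⁻¹, inv_mem hu, ?_⟩
        have e : ((t⁻¹ : T) : G) * u⁻¹ = ((t : G) * u)⁻¹ := by
          rw [hF.comm t t.2 u hu, mul_inv_rev]; simp
        rw [e, inv_smul_eq_iff, hut] }
  obtain ⟨g0, hg0⟩ := hF.exists_cj_ne hTN
  obtain ⟨h2, hh2, hh2e⟩ := hcjH g0
  rw [hh2e] at hg0
  have hR : R = ⊤ := by
    by_contra hR
    obtain ⟨d, hd⟩ := H69.exists_not_conj_mem R hR
    obtain ⟨t, ht, s, hs, hts, hfix⟩ := hmove d d.2 h2 hh2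
    refine hd ⟨s, hs⟩⁻¹ ?_
    have hmem : (⟨t⁻¹, inv_mem ht⟩ : T) ∈ R :=
      ⟨_, cj_le_others hg0 ⟨d, d.2, rfl⟩, by simpa using hfix⟩
    have h3 := R.inv_mem hmem
    have e : (⟨s, hs⟩⁻¹⁻¹ * d * ⟨s, hs⟩⁻¹ : T) = (⟨t⁻¹, inv_mem ht⟩ : T)⁻¹ :=
      Subtype.ext (by simp [← hts])
    rw [e]
    exact h3
  have hproj : ∀ t ∈ T, ∃ u ∈ others T, (t * u) • a = a := by
    intro t ht
    have : (⟨t, ht⟩ : T) ∈ R := hR ▸ Subgroup.mem_top _
    exact this
  have hTfree : ∀ t ∈ T, t • a = a → t = 1 := by
    intro t ht hta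
    by_contra ht1
    refine hTnotle ?_
    have hle : T ⊓ stabilizer G a = T := by
      refine hF.minimal _ inf_le_left (fun h => ht1 ?_) ?_
      · exact Subgroup.mem_bot.mp (h ▸ ⟨ht, hta⟩)
      · rintro n hn x ⟨hx, hxa⟩
        refine ⟨hF.normalized n hn x hx, ?_⟩
        obtain ⟨s, hs, u, hu, rfl⟩ := hF.exists_mul n hn
        obtain ⟨v, hv, hsv⟩ := hproj s hs
        have e : s * u * x * (s * u)⁻¹ = (s * v) * x * (s * v)⁻¹ := by
          rw [mul_inv_rev, mul_inv_rev, mul_assoc s u x, ← hF.comm x hx u hu, mul_assoc s v x,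
            ← hF.comm x hx v hv]
          group
        rw [e]
        exact (stabilizer G a).mul_mem ((stabilizer G a).mul_mem hsv hxa)
          ((stabilizer G a).inv_mem hsv)
    exact hle.ge.trans inf_le_right
  have hTinj : ∀ x ∈ T, ∀ y ∈ T, x • a = y • a → x = y := fun x hx y hy h =>
    (inv_mul_eq_one.mp (hTfree _ (mul_mem (inv_mem hy) hx)
      (by rw [mul_smul, h, inv_smul_smul]))).symm
  -- only two factors
  have htwo : ∀ h ∈ stabilizer G a, cj h T ≠ T → cj h T = cj h2 T := by
    intro h hh hne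
    by_contra hne2
    have hfull : ∀ k ∈ stabilizer G a, cj k T ≠ T → ∀ t ∈ T, ∃ w ∈ cj k T, (t * w) • a = a := by
      intro k hk hkT t ht
      let S : Subgroup T :=
        { carrier := {t : T | ∃ w ∈ cj k T, ((t : G) * w) • a = a}
          one_mem' := ⟨1, one_mem _, by simp⟩
          mul_mem' := by
            rintro s t ⟨u, hu, hus⟩ ⟨v, hv, hvt⟩
            refine ⟨u * v, mul_mem hu hv, ?_⟩
            have e : ((s * t : T) : G) * (u * v) = ((s : G) * u) * ((t : G) * v) := by
              rw [Subgroup.coe_mul, mul_assoc (s : G) t, ← mul_assoc (t : G),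
                hF.comm t t.2 u (cj_le_others hkT hu)]
              group
            rw [e, mul_smul, hvt, hus]
          inv_mem' := by
            rintro t ⟨u, hu, hut⟩
            refine ⟨u⁻¹, inv_mem hu, ?_⟩
            have e : ((t⁻¹ : T) : G) * u⁻¹ = ((t : G) * u)⁻¹ := by
              rw [hF.comm t t.2 u (cj_le_others hkT hu), mul_inv_rev]; simp
            rw [e, inv_smul_eq_iff, hut] }
      have hSn : S.Normal := by
        refine ⟨fun t ⟨w, hw, htw⟩ s => ?_⟩
        obtain ⟨v, hv, hsv⟩ := hproj s s.2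
        refine ⟨((s : G) * v) * w * ((s : G) * v)⁻¹, ?_, ?_⟩
        · have hsvN : (k⁻¹ * ((s : G) * v) * k) ∈ N := by
            simpa using hN.conj_mem _ (mul_mem (hF.le s.2) (hF.others_le hv)) k⁻¹
          rw [mem_cj]
          have := hF.normalized _ hsvN _ (mem_cj.mp hw)
          simpa [mul_assoc] using this
        · have e : ((s * t * s⁻¹ : T) : G) * ((s : G) * v * w * ((s : G) * v)⁻¹)
              = ((s : G) * v) * ((t : G) * w) * ((s : G) * v)⁻¹ := by
            simp only [Subgroup.coe_mul, Subgroup.coe_inv]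
            have h1 : (s : G) * t * (s : G)⁻¹ = ((s : G) * v) * t * ((s : G) * v)⁻¹ := by
              rw [mul_inv_rev, mul_assoc (s : G) v t, ← hF.comm t t.2 v hv]; group
            rw [h1]; group
          rw [e]
          exact (stabilizer G a).mul_mem ((stabilizer G a).mul_mem hsv htw)
            ((stabilizer G a).inv_mem hsv)
      obtain ⟨x, hx, hx1⟩ := (Subgroup.bot_or_exists_ne_one T).resolve_left hF.ne_bot
      obtain ⟨t', ht', s, hs, hts, hfix⟩ := hmove x hx k hk
      have hS1 : S ≠ ⊥ := by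
        intro hS
        have : (⟨t'⁻¹, inv_mem ht'⟩ : T) ∈ S := ⟨_, ⟨x, hx, rfl⟩, by simpa using hfix⟩
        rw [hS, Subgroup.mem_bot] at this
        have h3 := congrArg Subtype.val this
        simp only [OneMemClass.coe_one, inv_eq_one] at h3
        rw [← hts] at h3
        exact hx1 (by simpa using h3)
      have := hF.simple
      have htS : (⟨t, ht⟩ : T) ∈ S := (hSn.eq_bot_or_eq_top.resolve_left hS1) ▸ Subgroup.mem_top _
      exact htS
    refine hF.noncomm ⟨⟨fun s t => Subtype.ext ?_⟩⟩
    obtain ⟨u, hu, hsu⟩ := hfull h2 hh2 hg0 s s.2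
    obtain ⟨w, hw, htw⟩ := hfull h hh hne t t.2
    have huw : u * w = w * u := by
      have hne3 : cj (h2⁻¹ * h) T ≠ T := by
        intro hc
        apply hne2
        conv_rhs => rw [← hc, ← cj_mul, mul_inv_cancel_left]
      have hw' : h2⁻¹ * w * h2 ∈ cj (h2⁻¹ * h) T := by
        rw [mem_cj]; simpa [mul_assoc] using mem_cj.mp hw
      have h3 := hF.comm _ (mem_cj.mp hu) _ (cj_le_others hne3 hw')
      have h4 := congrArg (fun q => h2 * q * h2⁻¹) h3
      simpa [mul_assoc] using h4
    have hu' := cj_le_others hg0 hu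
    have hw'' := cj_le_others hne hw
    have e : ((s : G) * u) * ((t : G) * w) * ((s : G) * u)⁻¹ * ((t : G) * w)⁻¹
        = (s : G) * t * (s : G)⁻¹ * (t : G)⁻¹ := by
      calc _ = (s : G) * (u * t) * w * u⁻¹ * (s : G)⁻¹ * w⁻¹ * (t : G)⁻¹ := by group
        _ = (s : G) * t * (u * w) * u⁻¹ * (s : G)⁻¹ * w⁻¹ * (t : G)⁻¹ := by
            rw [← hF.comm t t.2 u hu']; group
        _ = (s : G) * t * (w * (s : G)⁻¹) * w⁻¹ * (t : G)⁻¹ := by rw [huw]; group
        _ = _ := by rw [← hF.comm _ (inv_mem s.2) w hw'']; group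
    have h5 : ((s : G) * t * (s : G)⁻¹ * (t : G)⁻¹) ∈ stabilizer G a := by
      rw [← e]
      exact (stabilizer G a).mul_mem ((stabilizer G a).mul_mem ((stabilizer G a).mul_mem hsu htw)
        ((stabilizer G a).inv_mem hsu)) ((stabilizer G a).inv_mem htw)
    have h6 := hTfree _ (mul_mem (mul_mem (mul_mem s.2 t.2) (inv_mem s.2)) (inv_mem t.2)) h5
    change (s : G) * t = t * s
    calc (s : G) * t = ((s : G) * t * (s : G)⁻¹ * (t : G)⁻¹) * t * s := by group
      _ = t * s := by rw [h6, one_mul]
  have hotherseq : others T = cj h2 T := by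
    refine le_antisymm (iSup_le fun g => ?_) (cj_le_others hg0)
    obtain ⟨h, hh, he⟩ := hcjH g.1
    rw [he]
    exact (htwo h hh (he ▸ g.2)).le
  have hofree : ∀ u ∈ others T, u • a = a → u = 1 := by
    intro u hu hua
    rw [hotherseq, mem_cj] at hu
    have h3 : (h2⁻¹ * u * h2) • a = a := by
      rw [mul_smul, mul_smul, mem_stabilizer_iff.mp hh2, hua, inv_smul_eq_iff,
        mem_stabilizer_iff.mp hh2]
    have := hTfree _ hu h3
    calc u = h2 * (h2⁻¹ * u * h2) * h2⁻¹ := by group
      _ = 1 := by rw [this]; group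
  refine endgame hprim a hH (hep a) T (others T) hF.simple hF.noncomm hF.comm hofree hproj hTfree
    ?_ ?_
  · intro g _ t ht u hu _
    exact hF.exists_mul _ (hN.conj_mem _ (mul_mem (hF.le ht) (hF.others_le hu)) g)
  · intro g hg x hx hfix k
    rw [smul_of_fix hg] at hfix ⊢
    rw [← conj_pow]
    by_cases hgT : cj g T = T
    · have hmem : g * x * g⁻¹ ∈ T := hgT ▸ ⟨x, hx, by simp⟩
      rw [hTinj _ hmem x hx hfix]
    · have hmem : g * x * g⁻¹ ∈ others T := cj_le_others hgT ⟨x, hx, by simp⟩
      have hcm : Commute x⁻¹ (g * x * g⁻¹) := hF.comm _ (inv_mem hx) _ hmem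
      have h3 : (x⁻¹ * (g * x * g⁻¹)) ∈ stabilizer G a := by
        rw [mem_stabilizer_iff, mul_smul, hfix, inv_smul_smul]
      have h4 : (x⁻¹ * (g * x * g⁻¹)) ^ k • a = a := mem_stabilizer_iff.mp (pow_mem h3 k)
      rw [hcm.mul_pow, mul_smul, inv_pow, inv_smul_eq_iff] at h4
      exact h4

end Cfsg.Agent.H68
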