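/-
An irreducible operator of prime order on a finite vector space: `ZMod p[T]` is the field with
`|V|` elements, so `d = dim V` is the order of `p` mod `q`, and conjugates of `T` among its powers
are Frobenius powers.
-/
import Mathlib

set_option autoImplicit false
set_option linter.deprecated false
set_option linter.style.haveILetI false

namespace Cfsg.Agent.H68

theorem irreducible_operator {p : ℕ} [Fact p.Prime] {V : Type*} [AddCommGroup V]
    [Module (ZMod p) V] [Finite V] [Nontrivial V] {d : ℕ} (hd : Nat.card V = p ^ d) {q : ℕ}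
    (hq : q.Prime) (T : Module.End (ZMod p) V) (hTq : T ^ q = 1) (hT1 : T ≠ 1)
    (hirr : ∀ L : Submodule (ZMod p) V, (∀ v ∈ L, T v ∈ L) → L = ⊥ ∨ L = ⊤) :
    (∀ i, 0 < i → q ∣ p ^ i - 1 → d ≤ i) ∧
      ∀ (k : ℕ) (S : V ≃ₗ[ZMod p] V), (∀ v, S (T v) = (T ^ k) (S v)) →
        ∃ j : ℕ, p ^ j ≡ k [MOD q] := by
  classical
  let A : Subalgebra (ZMod p) (Module.End (ZMod p) V) := Algebra.adjoin (ZMod p) {T}
  haveI : Finite (Module.End (ZMod p) V) := Module.finite_of_finite (ZMod p)
  haveI : Finite A := Finite.of_injective _ Subtype.val_injective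
  letI : CommRing A := Algebra.adjoinCommRingOfComm (ZMod p) (s := {T}) (by simp)
  have hTA : T ∈ A := Algebra.subset_adjoin rfl
  let t : A := ⟨T, hTA⟩
  have hinj : ∀ (a : A) (u : V), u ≠ 0 → (a : Module.End (ZMod p) V) u = 0 → a = 0 := by
    intro a u hu hau
    rcases hirr (LinearMap.ker (a : Module.End (ZMod p) V)) (fun v hv => by
      rw [LinearMap.mem_ker] at hv ⊢
      rw [show T v = (t : Module.End (ZMod p) V) v from rfl, ← Module.End.mul_apply,
        ← Subalgebra.coe_mul, mul_comm, Subalgebra.coe_mul, Module.End.mul_apply, hv, map_zero])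
      with h | h
    · exact absurd ((LinearMap.ker_eq_bot'.1 h) u hau) hu
    · exact Subtype.ext (LinearMap.ker_eq_top.1 h)
  obtain ⟨v0, hv0⟩ := exists_ne (0 : V)
  haveI : Nontrivial A := ⟨⟨0, 1, fun h => hv0 (by
    have := LinearMap.congr_fun (congrArg Subtype.val h) v0
    simpa using this.symm)⟩⟩
  haveI : NoZeroDivisors A := ⟨fun {a b} hab => by
    by_contra hcon
    push Not at hcon
    obtain ⟨ha, hb⟩ := hcon
    have hbv : (b : Module.End (ZMod p) V) v0 ≠ 0 := fun h => hb (hinj b v0 hv0 h)
    apply ha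
    refine hinj a _ hbv ?_
    rw [← Module.End.mul_apply, ← Subalgebra.coe_mul, hab]
    rfl⟩
  haveI : IsDomain A := NoZeroDivisors.to_isDomain A
  letI : Field A := (Finite.isField_of_domain A).toField
  -- evaluation is bijective
  let ev : A →ₗ[ZMod p] V :=
    { toFun := fun a => (a : Module.End (ZMod p) V) v0
      map_add' := fun a b => rfl
      map_smul' := fun c a => rfl }
  have hev : Function.Bijective ev := by
    constructor
    · intro a b hab
      refine sub_eq_zero.1 (hinj (a - b) v0 hv0 ?_)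
      show ((a - b : A) : Module.End (ZMod p) V) v0 = 0
      simp only [Subalgebra.coe_sub, LinearMap.sub_apply]
      exact sub_eq_zero.2 hab
    · rcases hirr (LinearMap.range ev) (by rintro _ ⟨a, rfl⟩; exact ⟨t * a, rfl⟩) with h | h
      · exfalso
        apply hv0
        have : ev 1 ∈ LinearMap.range ev := ⟨1, rfl⟩
        rw [h, Submodule.mem_bot] at this
        simpa [ev] using this
      · exact LinearMap.range_eq_top.1 h
  have hfr : Module.finrank (ZMod p) A = d :=
    Nat.pow_right_injective (Fact.out : p.Prime).two_le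
      ((FiniteField.pow_finrank_eq_natCard p A).trans ((Nat.card_eq_of_bijective ev hev).trans hd))
  have ho : orderOf T = q := by
    haveI : Fact q.Prime := ⟨hq⟩
    exact orderOf_eq_prime hTq hT1
  have hfrob : ∀ (n : ℕ) (a : A), (FiniteField.frobeniusAlgHom (ZMod p) A ^ n) a = a ^ p ^ n := by
    intro n a
    simp [AlgHom.coe_pow, FiniteField.coe_frobeniusAlgHom, pow_iterate, ZMod.card]
  refine ⟨fun i hi hqi => ?_, fun k S hS => ?_⟩
  · have heq : FiniteField.frobeniusAlgHom (ZMod p) A ^ i = 1 := by
      refine AlgHom.ext fun a => ?_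
      rw [AlgHom.one_apply]
      obtain ⟨x, hx⟩ := a
      induction hx using Algebra.adjoin_induction with
      | mem y hy =>
        obtain rfl : y = T := hy
        rw [hfrob]
        apply Subtype.ext
        rw [SubmonoidClass.coe_pow]
        obtain ⟨c, hc⟩ := hqi
        have : p ^ i = q * c + 1 := by
          have := Nat.one_le_pow i p (Fact.out : p.Prime).pos
          omega
        rw [this, pow_succ, pow_mul]
        show (y ^ q) ^ c * y = y
        rw [hTq, one_pow, one_mul]
      | algebraMap r =>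
        exact (FiniteField.frobeniusAlgHom (ZMod p) A ^ i).commutes r
      | add y z hy hz ihy ihz =>
        show (FiniteField.frobeniusAlgHom (ZMod p) A ^ i) ((⟨y, hy⟩ : A) + ⟨z, hz⟩)
            = (⟨y, hy⟩ : A) + ⟨z, hz⟩
        rw [map_add, ihy, ihz]
      | mul y z hy hz ihy ihz =>
        show (FiniteField.frobeniusAlgHom (ZMod p) A ^ i) ((⟨y, hy⟩ : A) * ⟨z, hz⟩)
            = (⟨y, hy⟩ : A) * ⟨z, hz⟩
        rw [map_mul, ihy, ihz]
    have := orderOf_dvd_of_pow_eq_one heq
    rw [FiniteField.orderOf_frobeniusAlgHom, hfr] at this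
    exact Nat.le_of_dvd hi this
  · let e := S.conjAlgEquiv (ZMod p)
    have he : ∀ a x, e a (S x) = S (a x) := fun a x => by
      simp [e, LinearEquiv.conjAlgEquiv_apply]
    have heT : e T = T ^ k := by
      refine LinearMap.ext fun y => ?_
      obtain ⟨x, rfl⟩ := S.surjective y
      rw [he, hS]
    have hmem : ∀ a : A, e (a : Module.End (ZMod p) V) ∈ A := by
      intro a
      have h1 : A.map e.toAlgHom ≤ A := by
        rw [AlgHom.map_adjoin_singleton, Algebra.adjoin_le_iff]
        simp only [Set.singleton_subset_iff]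
        show e T ∈ A
        rw [heT]
        exact A.pow_mem hTA k
      exact h1 ⟨a, a.2, rfl⟩
    let σ : A →ₐ[ZMod p] A := (e.toAlgHom.comp A.val).codRestrict A hmem
    obtain ⟨n, hn⟩ := (FiniteField.bijective_frobeniusAlgHom_pow (ZMod p) A).2 σ
    refine ⟨(n : ℕ), ?_⟩
    have h1 : (σ t : Module.End (ZMod p) V) = T ^ (p ^ (n : ℕ)) := by
      rw [← hn, hfrob, SubmonoidClass.coe_pow]
    rw [show (σ t : Module.End (ZMod p) V) = e T from rfl, heT] at h1
    have hfin : IsOfFinOrder T := isOfFinOrder_iff_pow_eq_one.mpr ⟨q, hq.pos, hTq⟩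
    have := hfin.pow_eq_pow_iff_modEq.mp h1
    rw [ho] at this
    exact this.symm

end Cfsg.Agent.H68
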