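import Mathlib

/-!
Extremely primitive groups: Manning's theorem, by an elementary argument.

If every point stabilizer acts primitively on each of its orbits, then it acts faithfully on each
non-trivial orbit, and so each of its non-trivial normal subgroups has the same orbits.
-/

namespace Cfsg.Agent.H68

open MulAction
open scoped Pointwise

variable {G : Type*} [Group G] {Ω : Type*} [MulAction G Ω]

/-- In a finite primitive action, a non-empty set closed under the successors of an invariant
irreflexive relation with at least one edge is everything. -/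
theorem eq_univ_of_closed [Finite Ω] (hprim : IsPreprimitive G Ω) (R : Ω → Ω → Prop)
    (hR : ∀ (g : G) a b, R a b → R (g • a) (g • b))
    (hedge : ∃ a b, R a b ∧ a ≠ b) (B : Set Ω) (hB : B.Nonempty)
    (hclosed : ∀ a ∈ B, ∀ b, R a b → b ∈ B) : B = Set.univ := by
  let Reach : Ω → Set Ω := fun a => {b | Relation.ReflTransGen R a b}
  have hmap : ∀ (g : G) a b, Relation.ReflTransGen R a b →
      Relation.ReflTransGen R (g • a) (g • b) := fun g a b h =>
    Relation.ReflTransGen.lift (fun x => g • x) (hR g) a b h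
  have hsmul : ∀ (g : G) a, g • Reach a = Reach (g • a) := by
    intro g a
    ext b
    rw [Set.mem_smul_set_iff_inv_smul_mem]
    constructor
    · intro h
      have h2 := hmap g _ _ h
      rwa [smul_inv_smul] at h2
    · intro h
      have h2 := hmap g⁻¹ _ _ h
      rwa [inv_smul_smul] at h2
  have hcard : ∀ a b, (Reach a).ncard = (Reach b).ncard := by
    intro a b
    obtain ⟨g, hg⟩ := exists_smul_eq G a b
    rw [← hg, ← hsmul, Set.ncard_smul_set]
  have hsame : ∀ a, ∀ b ∈ Reach a, Reach b = Reach a := by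
    intro a b hb
    exact Set.eq_of_subset_of_ncard_le (fun c hc => Relation.ReflTransGen.trans hb hc)
      (hcard a b).le (Set.toFinite _)
  obtain ⟨a, b, hab, hne⟩ := hedge
  have hblock : IsBlock G (Reach a) := by
    rw [isBlock_iff_smul_eq_of_nonempty]
    intro g hg
    obtain ⟨c, hc1, hc2⟩ := hg
    rw [hsmul] at hc1 ⊢
    rw [← hsame _ c hc2, ← hsame _ c hc1]
  have huniv : Reach a = Set.univ := by
    rcases hprim.isTrivialBlock_of_isBlock hblock with h | h
    · exact absurd (h Relation.ReflTransGen.refl (Relation.ReflTransGen.single hab)) hne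
    · exact h
  obtain ⟨c, hc⟩ := hB
  refine Set.eq_univ_iff_forall.mpr fun d => ?_
  have hd : Relation.ReflTransGen R c d := by
    obtain ⟨g, rfl⟩ := exists_smul_eq G a c
    have : d ∈ Reach (g • a) := by rw [← hsmul, huniv, Set.smul_set_univ]; trivial
    exact this
  induction hd with
  | refl => exact hc
  | tail _ h ih => exact hclosed _ ih _ h

/-- `g • (orbit of x under the stabilizer of a)` is the orbit of `g • x` under the stabilizer of
`g • a`. -/
theorem smul_suborbit (g : G) (a x : Ω) :
    g • orbit (stabilizer G a) x = orbit (stabilizer G (g • a)) (g • x) := by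
  ext y
  simp only [Set.mem_smul_set_iff_inv_smul_mem, mem_orbit_iff, Subtype.exists, Subgroup.mk_smul,
    mem_stabilizer_iff, exists_prop]
  constructor
  · rintro ⟨h, hh, hy⟩
    refine ⟨g * h * g⁻¹, by simp [mul_smul, hh], ?_⟩
    simp [mul_smul, hy]
  · rintro ⟨h, hh, rfl⟩
    exact ⟨g⁻¹ * h * g, by simp [mul_smul, hh], by simp [mul_smul]⟩

theorem card_suborbit_smul [Finite Ω] (g : G) (a x : Ω) :
    (orbit (stabilizer G (g • a)) (g • x)).ncard = (orbit (stabilizer G a) x).ncard := by
  rw [← smul_suborbit, Set.ncard_smul_set]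

/-- Paired suborbits have the same size. -/
theorem card_suborbit_comm [Finite G] [Finite Ω] (htr : IsPretransitive G Ω) (a b : Ω) :
    (orbit (stabilizer G a) b).ncard = (orbit (stabilizer G b) a).ncard := by
  have hsz : ∀ c d : Ω, (orbit (stabilizer G c) d).ncard *
      Nat.card ↥(stabilizer G c ⊓ stabilizer G d) = Nat.card (stabilizer G c) := by
    intro c d
    have e : stabilizer (stabilizer G c) d =
        (stabilizer G c ⊓ stabilizer G d).subgroupOf (stabilizer G c) := by
      ext ⟨h, hh⟩
      simp [Subgroup.mem_subgroupOf, Subgroup.mk_smul]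
    rw [← index_stabilizer, e, mul_comm,
      ← Nat.card_congr (Subgroup.subgroupOfEquivOfLe
        (inf_le_left : stabilizer G c ⊓ stabilizer G d ≤ stabilizer G c)).toEquiv,
      Subgroup.card_mul_index]
  obtain ⟨g, hg⟩ := exists_smul_eq G a b
  have hc : Nat.card (stabilizer G a) = Nat.card (stabilizer G b) := by
    rw [← hg, stabilizer_smul_eq_stabilizer_map_conj]
    exact Nat.card_congr (Subgroup.equivMapOfInjective _ _ (MulEquiv.injective _)).toEquiv
  have h1 := hsz a b
  have h2 := hsz b a
  rw [inf_comm (stabilizer G b)] at h2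
  rw [← hc, ← h1] at h2
  exact (Nat.eq_of_mul_eq_mul_right Nat.card_pos h2).symm

variable [FaithfulSMul G Ω]

theorem nontrivial_of_stabilizer_ne_bot {a : Ω} (hH : stabilizer G a ≠ ⊥) : Nontrivial Ω := by
  by_contra hcon
  rw [not_nontrivial_iff_subsingleton] at hcon
  refine hH ((Subgroup.eq_bot_iff_forall _).mpr fun g _ => ?_)
  exact FaithfulSMul.eq_of_smul_eq_smul fun x : Ω => Subsingleton.elim _ _

/-- In a faithful primitive non-regular action different points have different stabilizers. -/
theorem stabilizer_injective (hprim : IsPreprimitive G Ω) {a : Ω} (hH : stabilizer G a ≠ ⊥)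
    {b c : Ω} (h : stabilizer G b = stabilizer G c) : b = c := by
  let B : Set Ω := {x | stabilizer G x = stabilizer G b}
  have hblock : IsBlock G B := by
    rw [isBlock_iff_smul_eq_of_nonempty]
    intro g hg
    obtain ⟨x, hx1, hx2⟩ := hg
    obtain ⟨y, hy, rfl⟩ := hx1
    simp only [B, Set.mem_ofPred_eq] at hx2 hy
    ext z
    simp only [B, Set.mem_smul_set_iff_inv_smul_mem, Set.mem_ofPred_eq]
    have e : ∀ w : Ω, stabilizer G (g • w) =
        Subgroup.map (MulAut.conj g).toMonoidHom (stabilizer G w) :=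
      fun w => stabilizer_smul_eq_stabilizer_map_conj g w
    constructor
    · intro hz
      calc stabilizer G z = stabilizer G (g • g⁻¹ • z) := by rw [smul_inv_smul]
        _ = stabilizer G (g • y) := by rw [e, e, hz, hy]
        _ = stabilizer G b := hx2
    · intro hz
      have h3 : stabilizer G (g • g⁻¹ • z) = stabilizer G (g • y) := by
        rw [smul_inv_smul, hz, hx2]
      rw [e, e] at h3
      rw [Subgroup.map_injective (MulEquiv.injective _) h3, hy]
  rcases hprim.isTrivialBlock_of_isBlock hblock with hs | hs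
  · exact hs rfl h.symm
  · exfalso
    have hab : ∀ x, stabilizer G x = stabilizer G a := fun x => by
      have hx : x ∈ B := hs ▸ Set.mem_univ x
      have ha : a ∈ B := hs ▸ Set.mem_univ a
      exact hx.trans ha.symm
    refine hH ((Subgroup.eq_bot_iff_forall _).mpr fun g hg => ?_)
    refine FaithfulSMul.eq_of_smul_eq_smul fun x : Ω => ?_
    rw [one_smul, ← mem_stabilizer_iff, hab x]
    exact hg

theorem not_fixed_by_stabilizer (hprim : IsPreprimitive G Ω) {a : Ω} (hH : stabilizer G a ≠ ⊥)
    {b : Ω} (hb : b ≠ a) : ∃ g ∈ stabilizer G a, g • b ≠ b := by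
  by_contra hcon
  push Not at hcon
  have := nontrivial_of_stabilizer_ne_bot hH
  have hmax := IsPreprimitive.isCoatom_stabilizer_of_isPreprimitive G a
  have hmaxb := IsPreprimitive.isCoatom_stabilizer_of_isPreprimitive G b
  have hle : stabilizer G a ≤ stabilizer G b := fun g hg => hcon g hg
  rcases hle.lt_or_eq with hlt | heq
  · exact hmaxb.1 (hmax.2 _ hlt)
  · exact hb (stabilizer_injective hprim hH heq).symm

omit [FaithfulSMul G Ω] in
/-- A subgroup of a point stabilizer normalized by it, moving `x`, is transitive on the suborbit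
of `x`, if the stabilizer is primitive on that suborbit. -/
theorem orbit_eq_of_normalized (a : Ω) (x : Ω)
    (hep : IsPreprimitive (stabilizer G a) (orbit (stabilizer G a) x)) (M : Subgroup G)
    (hle : M ≤ stabilizer G a) (hn : stabilizer G a ≤ Subgroup.normalizer (M : Set G))
    (hmove : ∃ m ∈ M, m • x ≠ x) : orbit M x = orbit (stabilizer G a) x := by
  have hN : (M.subgroupOf (stabilizer G a)).Normal :=
    Subgroup.normal_subgroupOf_iff_le_normalizer hle |>.mpr hn
  obtain ⟨m, hm, hmx⟩ := hmove
  have htr : IsPretransitive (M.subgroupOf (stabilizer G a)) (orbit (stabilizer G a) x) := by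
    apply IsQuasiPreprimitive.isPretransitive_of_normal
    intro hu
    have h1 : (⟨x, mem_orbit_self x⟩ : orbit (stabilizer G a) x) ∈
        fixedPoints (M.subgroupOf (stabilizer G a)) (orbit (stabilizer G a) x) := by
      rw [hu]; trivial
    have h2 := congrArg Subtype.val
      (h1 ⟨⟨m, hle hm⟩, by simpa [Subgroup.mem_subgroupOf] using hm⟩)
    exact hmx h2
  apply Set.Subset.antisymm
  · rintro y ⟨⟨g, hg⟩, rfl⟩
    exact ⟨⟨g, hle hg⟩, rfl⟩
  · intro y hy
    obtain ⟨⟨g, hg⟩, hgy⟩ := htr.exists_smul_eq ⟨x, mem_orbit_self x⟩ ⟨y, hy⟩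
    exact ⟨⟨g.1, by simpa [Subgroup.mem_subgroupOf] using hg⟩, congrArg Subtype.val hgy⟩

/-- **Manning's theorem**: a stabilizer in an extremely primitive group is faithful on each of
its non-trivial orbits. -/
theorem manning [Finite G] [Finite Ω] (hprim : IsPreprimitive G Ω) {a : Ω}
    (hH : stabilizer G a ≠ ⊥)
    (hep : ∀ (b : Ω) (x : Ω), IsPreprimitive (stabilizer G b) (orbit (stabilizer G b) x))
    (M : Subgroup G) (hle : M ≤ stabilizer G a)
    (hn : stabilizer G a ≤ Subgroup.normalizer (M : Set G))
    {w : Ω} (hw : w ≠ a) (hfix : ∀ m ∈ M, m • w = w) : M = ⊥ := by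
  have := nontrivial_of_stabilizer_ne_bot hH
  by_contra hM
  let F : Set Ω := {x | ∀ m ∈ M, m • x = x}
  have haF : a ∈ F := fun m hm => hle hm
  have hFH : ∀ g ∈ stabilizer G a, ∀ x ∈ F, g • x ∈ F := by
    intro g hg x hx m hm
    have h2 : g⁻¹ * m * g⁻¹⁻¹ ∈ M :=
      (Subgroup.mem_normalizer_iff.mp (hn (Subgroup.inv_mem _ hg)) m).mp hm
    have h3 := hx _ h2
    rw [inv_inv, mul_smul, mul_smul] at h3
    exact inv_smul_eq_iff.mp h3
  -- the minimal size of a suborbit
  obtain ⟨x0, hx0, hmin⟩ := Set.exists_min_image {x : Ω | x ≠ a}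
    (fun x => (orbit (stabilizer G a) x).ncard) (Set.toFinite _) ⟨w, hw⟩
  set s := (orbit (stabilizer G a) x0).ncard
  have hmin' : ∀ b x : Ω, x ≠ b → s ≤ (orbit (stabilizer G b) x).ncard := by
    intro b x hx
    obtain ⟨g, hg⟩ := exists_smul_eq G b a
    rw [← card_suborbit_smul g b x, hg]
    refine hmin _ ?_
    intro h
    exact hx (smul_left_cancel g (h.trans hg.symm))
  let R : Ω → Ω → Prop := fun b x => x ≠ b ∧ (orbit (stabilizer G b) x).ncard = s
  have hR : ∀ (g : G) b x, R b x → R (g • b) (g • x) := fun g b x h =>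
    ⟨fun h' => h.1 (smul_left_cancel g h'), by rw [card_suborbit_smul]; exact h.2⟩
  -- successors of a point of F other than a stay in F
  have hstep : ∀ d ∈ F, d ≠ a → ∀ x, R d x → x ∈ F := by
    intro d hd hda x hx
    by_contra hxF
    simp only [F, Set.mem_ofPred_eq, not_forall, exists_prop] at hxF
    have hxa : x ≠ a := fun h => by
      obtain ⟨m, hm, hne⟩ := hxF
      exact hne (h ▸ hle hm)
    have e := orbit_eq_of_normalized a x (hep a x) M hle hn hxF
    have hsub : orbit (stabilizer G a) x ⊆ orbit (stabilizer G d) x := by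
      rw [← e]
      rintro y ⟨⟨m, hm⟩, rfl⟩
      exact ⟨⟨m, hd m hm⟩, rfl⟩
    have heq : orbit (stabilizer G a) x = orbit (stabilizer G d) x :=
      Set.eq_of_subset_of_ncard_le hsub (hx.2.trans_le (hmin' a x hxa)) (Set.toFinite _)
    let O := orbit (stabilizer G a) x
    have h1 : stabilizer G a ≤ stabilizer G O := fun g hg =>
      smul_orbit (⟨g, hg⟩ : stabilizer G a) x
    have h2 : stabilizer G d ≤ stabilizer G O := fun g hg => by
      change g • O = O
      simp only [O, heq]
      exact smul_orbit (⟨g, hg⟩ : stabilizer G d) x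
    have hmax := IsPreprimitive.isCoatom_stabilizer_of_isPreprimitive G a
    have htop : stabilizer G O = ⊤ := by
      rcases h1.lt_or_eq with hlt | heq'
      · exact hmax.2 _ hlt
      · exfalso
        obtain ⟨g, hg, hgne⟩ := not_fixed_by_stabilizer hprim
          (a := d) (b := a) (fun h => by
            apply hM
            rw [eq_bot_iff]
            intro m hm
            have := hd m hm
            exact (Subgroup.mem_bot.mp (h ▸ mem_stabilizer_iff.mpr this))) (Ne.symm hda)
        exact hgne (mem_stabilizer_iff.mp (heq' ▸ h2 hg))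
    obtain ⟨g, hg⟩ := exists_smul_eq G x a
    have hgO : g • O = O := mem_stabilizer_iff.mp (htop ▸ Subgroup.mem_top g)
    have : a ∈ O := hgO ▸ hg ▸ Set.smul_mem_smul_set (mem_orbit_self x)
    obtain ⟨⟨h, hh⟩, hha⟩ := this
    exact hxa (smul_left_cancel h (hha.trans (mem_stabilizer_iff.mp hh).symm))
  have hedge : ∃ b x, R b x ∧ b ≠ x := ⟨a, x0, ⟨hx0, rfl⟩, Ne.symm hx0⟩
  by_cases hcase : ∃ y ∈ F, R a y
  · obtain ⟨y, hyF, hy⟩ := hcase
    -- the orbital of (a, y)
    let R' : Ω → Ω → Prop := fun b x => ∃ g : G, g • a = b ∧ g • y = x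
    have hR' : ∀ (g : G) b x, R' b x → R' (g • b) (g • x) := by
      rintro g b x ⟨k, rfl, rfl⟩
      exact ⟨g * k, mul_smul .., mul_smul ..⟩
    have huniv := eq_univ_of_closed hprim R' hR'
      ⟨a, y, ⟨1, one_smul .., one_smul ..⟩, Ne.symm hy.1⟩ F ⟨a, haF⟩ (by
        rintro d hd x ⟨g, rfl, rfl⟩
        by_cases hga : g • a = a
        · exact hFH g hga y hyF
        · exact hstep _ hd hga _ (hR g a y hy))
    refine hM ((Subgroup.eq_bot_iff_forall _).mpr fun m hm => ?_)
    refine FaithfulSMul.eq_of_smul_eq_smul fun x : Ω => ?_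
    have hxF : x ∈ F := huniv ▸ Set.mem_univ x
    rw [one_smul, hxF m hm]
  · push Not at hcase
    have huniv := eq_univ_of_closed hprim R hR hedge (F \ {a}) ⟨w, hfix, hw⟩ (by
      rintro d ⟨hd, hda⟩ x hx
      refine ⟨hstep d hd hda x hx, ?_⟩
      intro hxa
      rw [Set.mem_singleton_iff] at hxa
      subst hxa
      exact hcase d hd ⟨hda, (card_suborbit_comm hprim.toIsPretransitive _ _).trans hx.2⟩)
    have : a ∈ F \ {a} := huniv ▸ Set.mem_univ a
    exact this.2 rfl

/-- A non-trivial normal subgroup of a stabilizer in an extremely primitive group fixes only the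
one point, and has the same orbits as the stabilizer. -/
theorem orbit_eq_stabilizer_orbit [Finite G] [Finite Ω] (hprim : IsPreprimitive G Ω) {a : Ω}
    (hH : stabilizer G a ≠ ⊥)
    (hep : ∀ (b : Ω) (x : Ω), IsPreprimitive (stabilizer G b) (orbit (stabilizer G b) x))
    (M : Subgroup G) (hM : M ≠ ⊥) (hle : M ≤ stabilizer G a)
    (hn : stabilizer G a ≤ Subgroup.normalizer (M : Set G)) (x : Ω) :
    orbit M x = orbit (stabilizer G a) x := by
  by_cases hxa : x = a
  · subst hxa
    ext y
    constructor <;> rintro ⟨⟨g, hg⟩, rfl⟩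
    · exact ⟨⟨g, hle hg⟩, rfl⟩
    · exact ⟨1, by simp [Subgroup.mk_smul, mem_stabilizer_iff.mp hg]⟩
  · refine orbit_eq_of_normalized a x (hep a x) M hle hn ?_
    by_contra hcon
    push Not at hcon
    exact hM (manning hprim hH hep M hle hn hxa hcon)

end Cfsg.Agent.H68
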