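import Mathlib
import Cfsg.Agent.H68.EvenDerange
import Cfsg.Agent.Symplectic.Std

/-!
Quadratic forms polarising to the symplectic form in characteristic two, and the orbits of the symplectic
group on them.
-/

set_option autoImplicit false
set_option linter.style.haveILetI false
set_option linter.unusedSectionVars false

namespace Cfsg.Agent.H68.SpQuadrics

open Module QuadraticMap Orthogonal Matrix EvenOrtho

variable {F : Type*} [Field F] [Fintype F] {d : ℕ}

local notation "V" => (Fin d ⊕ Fin d → F)
local notation "B" => Symplectic.spB d F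

/-- `Q` polarises to the symplectic form. -/
def Pol (Q : QuadraticForm F V) : Prop := ∀ u v, polar Q u v = Cfsg.sympForm d F u v

/-- The quadric shifted by the square of a linear form. -/
noncomputable def twist (Q : QuadraticForm F V) (a : V) : QuadraticForm F V :=
  Q + linMulLin (B a) (B a)

theorem twist_apply (Q : QuadraticForm F V) (a v : V) : twist Q a v = Q v + B a v ^ 2 := by
  rw [twist, _root_.add_apply, linMulLin_apply, _root_.sq]

theorem Pol.nondeg {Q : QuadraticForm F V} (hQ : Pol Q) : Nondeg Q := fun x hx =>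
  (Symplectic.spB_nondeg d F).1 x fun y => by rw [Symplectic.spB_apply, ← hQ, hx y]

theorem Pol.twist {Q : QuadraticForm F V} (h2 : (2 : F) = 0) (hQ : Pol Q) (a : V) :
    Pol (SpQuadrics.twist Q a) := fun u v => by
  rw [← hQ, polar, polar, twist_apply, twist_apply, twist_apply, map_add (B a)]
  linear_combination (B a u * B a v) * h2

theorem twist_injective (Q : QuadraticForm F V) {a a' : V} (h2 : (2 : F) = 0)
    (h : SpQuadrics.twist Q a = SpQuadrics.twist Q a') : a = a' := by
  refine sub_eq_zero.1 ((Symplectic.spB_nondeg d F).1 _ fun v => ?_)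
  have h1 := DFunLike.congr_fun h v
  rw [twist_apply, twist_apply] at h1
  have h3 : (B (a - a') v) ^ 2 = 0 := by
    rw [map_sub, LinearMap.sub_apply]
    linear_combination h1 + (B a' v ^ 2 - B a v * B a' v) * h2
  exact (pow_eq_zero_iff two_ne_zero).1 h3

/-- A function with square-scaling additive behaviour is the square of a linear form. -/
theorem exists_square (h2 : (2 : F) = 0) (ψ : V → F) (hadd : ∀ u v, ψ (u + v) = ψ u + ψ v)
    (hsmul : ∀ (c : F) u, ψ (c • u) = c ^ 2 * ψ u) : ∃ l : V →ₗ[F] F, ∀ v, ψ v = l v ^ 2 := by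
  choose s hs using fun v => Orthogonal.isSquare_of_two_eq_zero h2 (ψ v)
  have huniq : ∀ x y : F, x * x = y * y → x = y := fun x y h => by
    have h3 : (x - y) ^ 2 = 0 := by linear_combination h + (y * y - x * y) * h2
    exact sub_eq_zero.1 ((pow_eq_zero_iff two_ne_zero).1 h3)
  refine ⟨{ toFun := s, map_add' := fun u v => huniq _ _ ?_, map_smul' := fun c u => huniq _ _ ?_ },
    fun v => (hs v).trans (_root_.sq _).symm⟩
  · rw [← hs, hadd, hs u, hs v]; linear_combination -(s u * s v) * h2
  · rw [← hs, hsmul, hs u, RingHom.id_apply, smul_eq_mul]; ring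

theorem exists_rep (l : V →ₗ[F] F) : ∃ a, ∀ v, B a v = l v :=
  ⟨(LinearMap.BilinForm.toDual B (Symplectic.spB_nondeg d F)).symm l, fun v =>
    LinearMap.BilinForm.apply_toDual_symm_apply (hB := Symplectic.spB_nondeg d F) _ _⟩

theorem exists_twist (h2 : (2 : F) = 0) {Q Q' : QuadraticForm F V} (hQ : Pol Q) (hQ' : Pol Q') :
    ∃ a, Q' = SpQuadrics.twist Q a := by
  obtain ⟨l, hl⟩ := exists_square h2 (fun v => Q' v - Q v) (fun u v => by
    rw [map_add_polar, map_add_polar, hQ, hQ']; ring) (fun c u => by rw [qmap_smul, qmap_smul]; ring)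
  obtain ⟨a, ha⟩ := exists_rep l
  exact ⟨a, QuadraticMap.ext fun v => by rw [twist_apply, ha, ← hl]; ring⟩

/-- Twisting along one direction cannot keep the sign. -/
theorem exists_flip (h2 : (2 : F) = 0) {Q : QuadraticForm F V} (hQ : Pol Q) {c : V} (hc : Q c = 1)
    {ε : ℤ} (hε : ε ≠ 0) : ∃ s : F, ¬ HasSign (SpQuadrics.twist Q (s • c)) d ε := by
  classical
  by_contra hno
  push Not at hno
  have hBc : B c c = 0 := Symplectic.alt_self (Symplectic.spB_alt d F) c
  have hne : ∃ e, B c e = 1 := by
    have hc0 : c ≠ 0 := fun h => zero_ne_one (α := F) (by rw [← hc, h, QuadraticMap.map_zero])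
    obtain ⟨e, he⟩ := hQ.nondeg.exists_polar_eq hc0 1
    exact ⟨e, by rw [Symplectic.spB_apply, ← hQ, he]⟩
  obtain ⟨e, he⟩ := hne
  have huniq : ∀ x y : F, x * x = y * y → x = y := fun x y h => by
    have h3 : (x - y) ^ 2 = 0 := by linear_combination h + (y * y - x * y) * h2
    exact sub_eq_zero.1 ((pow_eq_zero_iff two_ne_zero).1 h3)
  choose sr hsr using fun x : F => Orthogonal.isSquare_of_two_eq_zero h2 x
  -- the pairs `(s, v)` on the sphere are parametrised by the vectors
  let S := Σ s : F, {v : V // SpQuadrics.twist Q (s • c) v = 1}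
  have hcard : Nat.card S = Nat.card V := by
    let f : S → V := fun x => if B c x.2.1 = 0 then x.2.1 + x.1 • c else x.2.1
    refine Nat.card_eq_of_bijective f ⟨?_, ?_⟩
    · rintro ⟨s, v, hv⟩ ⟨s', v', hv'⟩ h
      rw [twist_apply, map_smul, LinearMap.smul_apply, smul_eq_mul] at hv hv'
      simp only [f] at h
      by_cases h0 : B c v = 0 <;> by_cases h0' : B c v' = 0
      · rw [if_pos h0, if_pos h0'] at h
        rw [h0, mul_zero, zero_pow two_ne_zero, add_zero] at hv
        rw [h0', mul_zero, zero_pow two_ne_zero, add_zero] at hv'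
        have hq := congrArg Q h
        rw [map_add_polar, map_add_polar, qmap_smul, qmap_smul, hQ, hQ, hc, hv, hv',
          ← Symplectic.spB_apply, ← Symplectic.spB_apply, map_smul, map_smul, smul_eq_mul, smul_eq_mul,
          Symplectic.alt_swap (Symplectic.spB_alt d F) v c, Symplectic.alt_swap (Symplectic.spB_alt d F) v' c,
          h0, h0'] at hq
        obtain rfl : s = s' := huniq _ _ (by linear_combination hq)
        obtain rfl : v = v' := add_right_cancel h
        rfl
      · rw [if_pos h0, if_neg h0'] at h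
        exact absurd (by rw [← h, map_add, h0, map_smul, hBc, smul_zero, add_zero]) h0'
      · rw [if_neg h0, if_pos h0'] at h
        exact absurd (by rw [h, map_add, h0', map_smul, hBc, smul_zero, add_zero]) h0
      · rw [if_neg h0, if_neg h0'] at h
        subst h
        obtain rfl : s = s' := mul_right_cancel₀ h0 (huniq _ _ (by linear_combination hv - hv'))
        rfl
    · intro w
      by_cases h0 : B c w = 0
      · refine ⟨⟨sr (Q w - 1), w - sr (Q w - 1) • c, ?_⟩, ?_⟩
        · rw [twist_apply, map_smul (B), LinearMap.smul_apply, map_sub (B c), h0, map_smul (B c), hBc, smul_zero,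
            sub_zero, smul_zero, zero_pow two_ne_zero, add_zero, qmap_sub, qmap_smul, hc, polar_smul_right',
            hQ, ← Symplectic.spB_apply, Symplectic.alt_swap (Symplectic.spB_alt d F) w c, h0]
          linear_combination hsr (Q w - 1) + (sr (Q w - 1) * sr (Q w - 1)) * h2
        · simp only [f]
          rw [if_pos (by rw [map_sub, h0, map_smul, hBc, smul_zero, sub_zero]), sub_add_cancel]
      · refine ⟨⟨sr (1 - Q w) / B c w, w, ?_⟩, by simp only [f]; rw [if_neg h0]⟩
        rw [twist_apply, map_smul, LinearMap.smul_apply, smul_eq_mul, div_mul_cancel₀ _ h0, _root_.sq, ← hsr]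
        ring
  rw [Nat.card_sigma] at hcard
  have hV : (Nat.card V : ℤ) = (Nat.card F : ℤ) ^ (2 * d) := by
    rw [Nat.card_fun, Nat.card_eq_fintype_card (α := Fin d ⊕ Fin d), Fintype.card_sum, Fintype.card_fin,
      ← two_mul, Nat.cast_pow]
  have hsum := congrArg (fun n : ℕ => (Nat.card F : ℤ) * n) hcard
  rw [Nat.cast_sum, Finset.mul_sum, Finset.sum_congr rfl (fun s _ => eq_sub_of_add_eq (hno s)),
    Finset.sum_const, Finset.card_univ, nsmul_eq_mul, hV, ← Nat.card_eq_fintype_card, mul_sub] at hsum
  have h3 : ε * (Nat.card F : ℤ) ^ (d + 1) = 0 := by rw [pow_succ]; linear_combination -hsum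
  rcases mul_eq_zero.1 h3 with h | h
  · exact hε h
  · exact pow_ne_zero _ (by exact_mod_cast (Nat.card_pos (α := F)).ne') h

/-- A form of given polar invariant under an involution; of prescribed sign unless the fixed space is singular. -/
theorem exists_invariant (h2 : (2 : F) = 0) {Q : QuadraticForm F V} (hQ : Pol Q) (T : Module.End F V)
    (hTB : ∀ u v, B (T u) (T v) = B u v) :
    ∃ Q' : QuadraticForm F V, Pol Q' ∧ ∀ x, Q' (T x) = Q' x := by
  have hpT : ∀ u v, polar Q (T u) (T v) = polar Q u v := fun u v => by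
    rw [hQ, hQ, ← Symplectic.spB_apply, ← Symplectic.spB_apply, hTB]
  obtain ⟨l, hl⟩ := exists_square h2 (fun v => Q (T v) - Q v) (fun u v => by
    rw [map_add, map_add_polar, map_add_polar, hpT]; ring) (fun c u => by
    rw [map_smul, qmap_smul, qmap_smul]; ring)
  have hker : LinearMap.ker (T - 1) ≤ LinearMap.ker l := fun x hx => by
    rw [LinearMap.mem_ker, LinearMap.sub_apply, Module.End.one_apply, sub_eq_zero] at hx
    rw [LinearMap.mem_ker]
    refine (pow_eq_zero_iff two_ne_zero).1 ((hl x).symm.trans ?_)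
    rw [hx, sub_self]
  have hmem : l ∈ LinearMap.range (T - 1 : Module.End F V).dualMap := by
    rw [LinearMap.range_dualMap_eq_dualAnnihilator_ker, Submodule.mem_dualAnnihilator]
    exact fun x hx => LinearMap.mem_ker.1 (hker hx)
  obtain ⟨m, hm⟩ := hmem
  obtain ⟨a, ha⟩ := exists_rep m
  refine ⟨SpQuadrics.twist Q a, hQ.twist h2 a, fun x => ?_⟩
  have h1 : l x = B a (T x) - B a x := by
    rw [← hm, LinearMap.dualMap_apply, LinearMap.sub_apply, Module.End.one_apply, map_sub, ha, ha]
  have h3 := hl x
  rw [h1] at h3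
  rw [twist_apply, twist_apply]
  linear_combination h3 + (B a (T x) ^ 2 - B a (T x) * B a x) * h2

/-- An involution preserves forms of both signs unless it fixes only singular vectors. -/
theorem exists_invariant_sign (h2 : (2 : F) = 0) {Q : QuadraticForm F V} (hQ : Pol Q) (T : Module.End F V)
    (hT : ∀ x, T (T x) = x) (hTB : ∀ u v, B (T u) (T v) = B u v) {ε : ℤ} (hε : ε = 1 ∨ ε = -1)
    (hcase : ε = 1 ∨ Odd d) :
    ∃ Q' : QuadraticForm F V, Pol Q' ∧ (∀ x, Q' (T x) = Q' x) ∧ HasSign Q' d ε := by
  obtain ⟨Q₁, hQ₁, hi₁⟩ := exists_invariant h2 hQ T hTB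
  have hn : finrank F V = 2 * d := finrank_formPlus F d
  have hsig := sign_or hQ₁.nondeg hn
  by_cases hsame : HasSign Q₁ d ε
  · exact ⟨Q₁, hQ₁, hi₁, hsame⟩
  by_cases hsing : ∀ x, T x = x → Q₁ x = 0
  · obtain ⟨h1, h3⟩ := EvenDerange.of_involution h2 hQ₁.nondeg hn T hT hi₁ hsing
    rcases hcase with rfl | hodd
    · exact absurd (hsig.resolve_right h1) hsame
    · exact absurd h3 (Nat.not_even_iff_odd.2 hodd)
  push Not at hsing
  obtain ⟨x, hx, hx0⟩ := hsing
  obtain ⟨u, hu⟩ := Orthogonal.isSquare_of_two_eq_zero h2 (Q₁ x)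
  have hu0 : u ≠ 0 := fun h => hx0 (by rw [hu, h, mul_zero])
  obtain ⟨s, hs⟩ := exists_flip h2 hQ₁ (c := u⁻¹ • x) (by rw [qmap_smul, hu]; field_simp) (ε := -ε)
    (by rcases hε with rfl | rfl <;> norm_num)
  refine ⟨SpQuadrics.twist Q₁ (s • u⁻¹ • x), hQ₁.twist h2 _, fun v => ?_, ?_⟩
  · rw [twist_apply, twist_apply, hi₁]
    congr 2
    conv_lhs => rw [← hx]
    rw [show s • u⁻¹ • T x = T (s • u⁻¹ • x) by rw [map_smul, map_smul], hTB]
  · rcases sign_or (hQ₁.twist h2 (s • u⁻¹ • x)).nondeg hn with h | h <;> rcases hε with rfl | rfl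
    · exact h
    · exact absurd h (by simpa using hs)
    · exact absurd h (by simpa using hs)
    · exact h

open Classical in
/-- The number of quadrics of each sign. -/
theorem card_sign (h2 : (2 : F) = 0) (hd : 0 < d) {Q : QuadraticForm F V} (hQ : Pol Q) {ε : ℤ}
    (hε : ε = 1 ∨ ε = -1) :
    2 * (Nat.card {a : V // HasSign (SpQuadrics.twist Q a) d ε} : ℤ) =
      (Nat.card F : ℤ) ^ d * ((Nat.card F : ℤ) ^ d + ε) := by
  have hn : finrank F V = 2 * d := finrank_formPlus F d
  set qz : ℤ := (Nat.card F : ℤ) with hqz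
  have hV : (Nat.card V : ℤ) = qz ^ (2 * d) := by
    rw [Nat.card_fun, Nat.card_eq_fintype_card (α := Fin d ⊕ Fin d), Fintype.card_sum, Fintype.card_fin,
      ← two_mul, Nat.cast_pow]
  -- double count of pairs `(a, v)` on spheres
  have hfib : ∀ v : V, v ≠ 0 → (Nat.card {a : V // SpQuadrics.twist Q a v = 1} : ℤ) * qz = qz ^ (2 * d) := by
    intro v hv
    obtain ⟨s, hs⟩ := Orthogonal.isSquare_of_two_eq_zero h2 (1 - Q v)
    have hiff : ∀ a : V, SpQuadrics.twist Q a v = 1 ↔ LinearMap.flip (B) v a = s := fun a => by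
      rw [twist_apply, LinearMap.flip_apply]
      constructor
      · intro h
        have h3 : (B a v - s) ^ 2 = 0 := by linear_combination h + hs + (s * s - B a v * s) * h2
        exact sub_eq_zero.1 ((pow_eq_zero_iff two_ne_zero).1 h3)
      · intro h
        rw [h, _root_.sq, ← hs]; ring
    have hsurj : Function.Surjective (LinearMap.flip (B) v) := by
      refine LinearMap.surjective ?_
      intro h
      exact hv ((Symplectic.spB_nondeg d F).2 v fun a => LinearMap.congr_fun h a)
    obtain ⟨a₀, ha₀⟩ := hsurj s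
    have hker := LinearMap.finrank_range_add_finrank_ker (LinearMap.flip (B) v)
    rw [LinearMap.range_eq_top.2 hsurj, finrank_top, Module.finrank_self, hn] at hker
    have hc : Nat.card {a : V // SpQuadrics.twist Q a v = 1} = Nat.card (LinearMap.ker (LinearMap.flip (B) v)) :=
      Nat.card_congr
        { toFun := fun a => ⟨a.1 - a₀, by rw [LinearMap.mem_ker, map_sub, (hiff _).1 a.2, ha₀, sub_self]⟩
          invFun := fun k => ⟨k.1 + a₀, (hiff _).2 (by rw [map_add, LinearMap.mem_ker.1 k.2, ha₀, zero_add])⟩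
          left_inv := fun a => by simp
          right_inv := fun k => by simp }
    rw [hc, Module.natCard_eq_pow_finrank (K := F), Nat.cast_pow, ← pow_succ]
    congr 1
    omega
  have hv0 : Nat.card {a : V // SpQuadrics.twist Q a 0 = 1} = 0 := by
    rw [Nat.card_eq_zero]
    exact Or.inl ⟨fun a => zero_ne_one (α := F) (by rw [← a.2, QuadraticMap.map_zero])⟩
  have hswap : ∑ a : V, (Nat.card {v : V // SpQuadrics.twist Q a v = 1} : ℤ) =
      ∑ v : V, (Nat.card {a : V // SpQuadrics.twist Q a v = 1} : ℤ) := by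
    simp only [Nat.card_eq_fintype_card, Fintype.card_subtype, Finset.card_filter, Nat.cast_sum]
    exact Finset.sum_comm
  have hR : qz * ∑ v : V, (Nat.card {a : V // SpQuadrics.twist Q a v = 1} : ℤ) =
      qz ^ (2 * d) * (qz ^ (2 * d) - 1) := by
    rw [← Finset.sum_erase_add _ _ (Finset.mem_univ (0 : V)), hv0, Nat.cast_zero, add_zero, Finset.mul_sum,
      Finset.sum_congr rfl (fun v hv => by rw [mul_comm, hfib v (Finset.ne_of_mem_erase hv)]), Finset.sum_const,
      Finset.card_erase_of_mem (Finset.mem_univ _), Finset.card_univ, nsmul_eq_mul, mul_comm,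
      Nat.cast_sub Fintype.card_pos, ← Nat.card_eq_fintype_card, hV, Nat.cast_one]
  set P := Finset.univ.filter fun a : V => HasSign (SpQuadrics.twist Q a) d 1
  have hval : ∀ a : V, qz * (Nat.card {v : V // SpQuadrics.twist Q a v = 1} : ℤ) =
      qz ^ (2 * d) - (if a ∈ P then 1 else -1) * qz ^ d := by
    intro a
    split_ifs with ha
    · exact eq_sub_of_add_eq (Finset.mem_filter.1 ha).2
    · exact eq_sub_of_add_eq ((sign_or (hQ.twist h2 a).nondeg hn).resolve_left fun h =>
        ha (Finset.mem_filter.2 ⟨Finset.mem_univ a, h⟩))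
  rw [← hswap, Finset.mul_sum, Finset.sum_congr rfl (fun a _ => hval a), Finset.sum_sub_distrib, ← Finset.sum_mul,
    Finset.sum_const, Finset.card_univ, nsmul_eq_mul, ← Nat.card_eq_fintype_card, hV, Finset.sum_ite,
    Finset.sum_const, Finset.sum_const, Finset.filter_mem_eq_inter, Finset.univ_inter, nsmul_eq_mul,
    nsmul_eq_mul] at hR
  have hPc : (P.card : ℤ) + ((Finset.univ.filter fun a => a ∉ P).card : ℤ) = qz ^ (2 * d) := by
    rw [← Nat.cast_add, show (Finset.univ.filter fun a => a ∉ P) = Pᶜ by ext; simp, Finset.card_add_card_compl,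
      ← Nat.card_eq_fintype_card, hV]
  set b : ℤ := ((Finset.univ.filter fun a => a ∉ P).card : ℤ)
  have hq0 : qz ^ d ≠ 0 := pow_ne_zero _ (by rw [hqz]; exact_mod_cast (Nat.card_pos (α := F)).ne')
  have hdiff : (P.card : ℤ) - b = qz ^ d := mul_right_cancel₀ hq0 (by
    rw [two_mul, pow_add] at hR
    linear_combination -hR)
  have hcount : ∀ e : ℤ, Nat.card {a : V // HasSign (SpQuadrics.twist Q a) d e} =
      (Finset.univ.filter fun a : V => HasSign (SpQuadrics.twist Q a) d e).card := fun e => by
    rw [Nat.card_eq_fintype_card, Fintype.card_subtype]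
  rw [two_mul d, pow_add] at hPc
  rcases hε with rfl | rfl
  · rw [hcount]
    linear_combination hPc + hdiff
  · rw [hcount, show (Finset.univ.filter fun a : V => HasSign (SpQuadrics.twist Q a) d (-1)) =
      Finset.univ.filter fun a => a ∉ P by
        ext a
        simp only [Finset.mem_filter, Finset.mem_univ, true_and, P]
        exact ⟨fun h h' => absurd (h.unique h') (by norm_num),
          fun h => (sign_or (hQ.twist h2 a).nondeg hn).resolve_left h⟩]
    linear_combination hPc - hdiff

end Cfsg.Agent.H68.SpQuadrics
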