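/-
Structure of a point stabilizer in an extremely primitive group: abelian normal subgroups act
regularly on every non-trivial suborbit.
-/
import Cfsg.Agent.H68.Manning
import Cfsg.Agent.Perm.Basic
import Cfsg.Agent.Perm.RegularNormal
import Cfsg.Agent.H33.Trans
import Cfsg.Agent.Cores.Fitting

set_option autoImplicit false

namespace Cfsg.Agent.H68

open MulAction

variable {G : Type*} [Group G] [Finite G] {Ω : Type*} [Finite Ω] [MulAction G Ω] [FaithfulSMul G Ω]

theorem faithful_suborbit (hprim : IsPreprimitive G Ω) {a : Ω} (hH : stabilizer G a ≠ ⊥)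
    (hep : ∀ (b : Ω) (x : Ω), IsPreprimitive (stabilizer G b) (orbit (stabilizer G b) x))
    {w : Ω} (hw : w ≠ a) : FaithfulSMul (stabilizer G a) (orbit (stabilizer G a) w) := by
  constructor
  intro k l hkl
  let P := (MulAction.toPermHom (stabilizer G a) (orbit (stabilizer G a) w)).ker
  have hP : P = ⊥ := by
    have hM := manning hprim hH hep (P.map (stabilizer G a).subtype) (Subgroup.map_subtype_le _)
      ?_ hw ?_
    · rwa [Subgroup.map_eq_bot_iff_of_injective _ (Subgroup.subtype_injective _)] at hM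
    · refine (Subgroup.normal_subgroupOf_iff_le_normalizer (Subgroup.map_subtype_le _)).1 ?_
      rw [← Subgroup.comap_subtype, Subgroup.comap_map_eq_self_of_injective
        (Subgroup.subtype_injective _)]
      exact MonoidHom.normal_ker _
    · rintro m ⟨k, hk, rfl⟩
      exact congrArg Subtype.val
        (Equiv.ext_iff.1 (MonoidHom.mem_ker.1 hk) ⟨w, mem_orbit_self w⟩)
  have : l⁻¹ * k ∈ P := MonoidHom.mem_ker.2 (Equiv.ext fun x => by
    show (l⁻¹ * k) • x = x
    rw [mul_smul, hkl x, inv_smul_smul])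
  rw [hP, Subgroup.mem_bot, inv_mul_eq_one] at this
  exact this.symm

/-- A non-trivial abelian normal subgroup of a stabilizer is regular on each non-trivial suborbit
and self-centralizing. -/
theorem abelian_normal_spec (hprim : IsPreprimitive G Ω) {a : Ω} (hH : stabilizer G a ≠ ⊥)
    (hep : ∀ (b : Ω) (x : Ω), IsPreprimitive (stabilizer G b) (orbit (stabilizer G b) x))
    {w : Ω} (hw : w ≠ a) (A : Subgroup (stabilizer G a)) [A.Normal] (hA : A ≠ ⊥)
    (hc : IsMulCommutative A) :
    Nat.card A = (orbit (stabilizer G a) w).ncard ∧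
      Subgroup.centralizer (A : Set (stabilizer G a)) = A ∧
      ∀ x ∈ A, (x : G) • w = w → x = 1 := by
  have := faithful_suborbit hprim hH hep hw
  have := hep a w
  have ht : IsPretransitive A (orbit (stabilizer G a) w) := Cfsg.Agent.Perm.transitive_of_normal hA
  have hfree := Cfsg.Agent.Perm.abelian_transitive_free hc ht
  refine ⟨(Cfsg.Agent.Perm.card_eq_of_regular ht hfree ⟨w, mem_orbit_self w⟩).trans
    (Nat.card_coe_set_eq _), Cfsg.Agent.Perm.centralizer_eq_self hc ht, fun x hx hxw => ?_⟩
  exact Cfsg.Agent.Perm.free_iff.1 hfree x hx ⟨w, mem_orbit_self w⟩ (Subtype.ext hxw)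

/-- The abelian normal subgroups of a stabilizer: all equal, of prime exponent. -/
theorem abelian_normal_minimal (hprim : IsPreprimitive G Ω) {a : Ω} (hH : stabilizer G a ≠ ⊥)
    (hep : ∀ (b : Ω) (x : Ω), IsPreprimitive (stabilizer G b) (orbit (stabilizer G b) x))
    (A : Subgroup (stabilizer G a)) [A.Normal] (hA : A ≠ ⊥) (hc : IsMulCommutative A) :
    (∀ B : Subgroup (stabilizer G a), B.Normal → B ≠ ⊥ → B ≤ A → B = A) ∧
    Subgroup.centralizer (A : Set (stabilizer G a)) = A ∧
    ∃ p e : ℕ, p.Prime ∧ 0 < e ∧ Nat.card A = p ^ e ∧ (∀ x ∈ A, x ^ p = 1) ∧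
      (∀ w : Ω, w ≠ a → (orbit (stabilizer G a) w).ncard = p ^ e) := by
  have := nontrivial_of_stabilizer_ne_bot hH
  obtain ⟨w, hw⟩ := exists_ne a
  obtain ⟨hcard, hcent, -⟩ := abelian_normal_spec hprim hH hep hw A hA hc
  have hmin : ∀ B : Subgroup (stabilizer G a), B.Normal → B ≠ ⊥ → B ≤ A → B = A := by
    intro B hB hB0 hle
    have := hB
    have hBc : IsMulCommutative B := Cfsg.Agent.Perm.isMulCommutative_iff_comm.2
      fun x hx y hy => Cfsg.Agent.Perm.isMulCommutative_iff_comm.1 hc x (hle hx) y (hle hy)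
    exact Subgroup.eq_of_le_of_card_ge hle
      (by rw [hcard, (abelian_normal_spec hprim hH hep hw B hB0 hBc).1])
  obtain ⟨p, hp, hexp⟩ := Cfsg.Agent.Perm.minimal_abelian_exp hA
    (fun L hL hLA => (eq_or_ne L ⊥).imp_right fun h => hmin L hL h hLA) hc
  obtain ⟨e, he⟩ := Cfsg.Agent.Perm.card_prime_pow_of_exp hp hexp
  refine ⟨hmin, hcent, p, e, hp, ?_, he, hexp,
    fun x hx => (abelian_normal_spec hprim hH hep hx A hA hc).1.symm.trans he⟩
  refine Nat.pos_of_ne_zero fun h => hA ?_
  rw [h, pow_zero] at he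
  exact Subgroup.card_eq_one.1 he

theorem center_eq_bot_of_not_prime (hprim : IsPreprimitive G Ω) {a : Ω} (hH : stabilizer G a ≠ ⊥)
    (hep : ∀ (b : Ω) (x : Ω), IsPreprimitive (stabilizer G b) (orbit (stabilizer G b) x))
    (hp : ¬ (Nat.card (stabilizer G a)).Prime) : Subgroup.center (stabilizer G a) = ⊥ := by
  by_contra hZ
  have hc : IsMulCommutative (Subgroup.center (stabilizer G a)) :=
    Cfsg.Agent.Perm.isMulCommutative_iff_comm.2 fun x _ y hy => Subgroup.mem_center_iff.1 hy x
  obtain ⟨hmin, hcent, -⟩ := abelian_normal_minimal hprim hH hep _ hZ hc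
  have htop : Subgroup.center (stabilizer G a) = ⊤ := by
    rw [← hcent, Subgroup.centralizer_eq_top_iff_subset]
  apply hp
  have hK : (Nat.card (stabilizer G a)) ≠ 1 := fun h => hH (Subgroup.card_eq_one.1 h)
  obtain ⟨r, hr, hrd⟩ := Nat.exists_prime_and_dvd hK
  have : Fact r.Prime := ⟨hr⟩
  obtain ⟨x, hx⟩ := exists_prime_orderOf_dvd_card' r hrd
  have hn : (Subgroup.zpowers x).Normal := ⟨fun y hy z => by
    have : z * y = y * z := (Subgroup.mem_center_iff.1 (htop ▸ Subgroup.mem_top y) z)
    rwa [this, mul_inv_cancel_right]⟩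
  have h0 : Subgroup.zpowers x ≠ ⊥ := by
    intro h
    rw [Subgroup.zpowers_eq_bot] at h
    rw [h, orderOf_one] at hx
    exact hr.ne_one hx.symm
  have := hmin _ hn h0 (htop ▸ le_top)
  rw [htop] at this
  have h2 := congrArg (fun S : Subgroup (stabilizer G a) => Nat.card S) this
  simp only [Nat.card_zpowers, Subgroup.card_top] at h2
  rw [← h2, hx]
  exact hr

theorem fitting_spec (hprim : IsPreprimitive G Ω) {a : Ω} (hH : stabilizer G a ≠ ⊥)
    (hep : ∀ (b : Ω) (x : Ω), IsPreprimitive (stabilizer G b) (orbit (stabilizer G b) x))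
    (hF : Cfsg.fittingSubgroup (stabilizer G a) ≠ ⊥) :
    IsMulCommutative (Cfsg.fittingSubgroup (stabilizer G a)) := by
  set F := Cfsg.fittingSubgroup (stabilizer G a) with hFdef
  have : Group.IsNilpotent F := Cfsg.Agent.Cores.fittingSubgroup_isNilpotent
  have : Nontrivial F := (Subgroup.nontrivial_iff_ne_bot _).2 hF
  let A : Subgroup (stabilizer G a) := (Subgroup.center F).map F.subtype
  have hAn : A.Normal := inferInstance
  have hA : A ≠ ⊥ := by
    rw [Ne, Subgroup.map_eq_bot_iff_of_injective _ (Subgroup.subtype_injective _)]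
    exact Group.IsNilpotent.center_ne_bot F
  have hcomm : ∀ x ∈ A, ∀ y ∈ F, y * x = x * y := by
    rintro _ ⟨x, hx, rfl⟩ y hy
    exact congrArg Subtype.val (Subgroup.mem_center_iff.1 hx ⟨y, hy⟩)
  have hAF : A ≤ F := Subgroup.map_subtype_le _
  have hc : IsMulCommutative A := Cfsg.Agent.Perm.isMulCommutative_iff_comm.2
    fun x hx y hy => (hcomm x hx y (hAF hy)).symm
  obtain ⟨-, hcent, -⟩ := abelian_normal_minimal hprim hH hep A hA hc
  have hFA : F ≤ A := by
    rw [← hcent]
    exact fun y hy => Subgroup.mem_centralizer_iff.2 fun x hx => (hcomm x hx y hy).symm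
  exact Cfsg.Agent.Perm.isMulCommutative_iff_comm.2
    fun x hx y hy => (hcomm x (hFA hx) y hy).symm

theorem card_dvd_sub_one (hprim : IsPreprimitive G Ω) {a : Ω} (hH : stabilizer G a ≠ ⊥)
    (hep : ∀ (b : Ω) (x : Ω), IsPreprimitive (stabilizer G b) (orbit (stabilizer G b) x))
    (A : Subgroup (stabilizer G a)) [A.Normal] (hA : A ≠ ⊥) (hc : IsMulCommutative A) :
    Nat.card A ∣ Nat.card Ω - 1 := by
  have h : Nat.card A ∣ ({a}ᶜ : Set Ω).ncard := by
    refine Cfsg.Agent.H33.dvd_card_of_orbits (G := stabilizer G a) _ (Set.toFinite _) ?_ ?_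
    · intro g y hy h
      apply hy
      rw [Set.mem_singleton_iff] at h ⊢
      have ha : g • a = a := g.2
      exact smul_left_cancel g (h.trans ha.symm)
    · intro y hy
      rw [(abelian_normal_spec hprim hH hep (w := y) (by simpa using hy) A hA hc).1]
  rwa [Set.ncard_compl, Set.ncard_singleton] at h

theorem exists_end_matrix {p : ℕ} [Fact p.Prime] (V : Type*) [AddCommGroup V] [Module (ZMod p) V]
    [Finite V] {e : ℕ} (he : Nat.card V = p ^ e) :
    ∃ f : Module.End (ZMod p) V →* Matrix (Fin e) (Fin e) (ZMod p), Function.Injective f := by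
  have hfin : Module.finrank (ZMod p) V = e :=
    Nat.pow_right_injective (Fact.out : p.Prime).two_le
      ((FiniteField.pow_finrank_eq_natCard p V).trans he)
  let b := (Module.finBasis (ZMod p) V).reindex (finCongr hfin)
  exact ⟨(LinearMap.toMatrixAlgEquiv b).toMulEquiv.toMonoidHom,
    (LinearMap.toMatrixAlgEquiv b).injective⟩

/-- Conjugation on an elementary abelian self-centralizing normal subgroup as matrices. -/
theorem exists_matrix_rep {K : Type*} [Group K] [Finite K] (A : Subgroup K) [A.Normal]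
    (hc : IsMulCommutative A) (p e : ℕ) [Fact p.Prime] (he : Nat.card A = p ^ e)
    (hexp : ∀ x ∈ A, x ^ p = 1) (hcent : Subgroup.centralizer (A : Set K) = A) :
    ∃ φ : K →* GL (Fin e) (ZMod p), φ.ker = A := by
  classical
  letI : CommGroup A := { mul_comm := hc.is_comm.comm }
  have hsmul : ∀ x : Additive A, p • x = 0 := fun x => by
    apply Additive.toMul.injective
    exact Subtype.ext (by simpa using hexp _ x.toMul.2)
  obtain ⟨iM⟩ : Nonempty (Module (ZMod p) (Additive A)) := ⟨AddCommGroup.zmodModule hsmul⟩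
  haveI : Finite (Additive A) := Finite.of_equiv A Additive.ofMul
  obtain ⟨f, hf⟩ := exists_end_matrix (p := p) (Additive A)
    (e := e) (by rw [Nat.card_congr Additive.toMul, he])
  let cn : K → A → A := fun k x => MulAut.conjNormal k x
  let g : K →* Module.End (ZMod p) (Additive A) :=
    { toFun := fun k => (MonoidHom.toAdditive (MulAut.conjNormal k).toMonoidHom).toZModLinearMap p
      map_one' := LinearMap.ext fun x => by
        show Additive.ofMul (cn 1 x.toMul) = x
        simp [cn]
      map_mul' := fun k l => LinearMap.ext fun x => by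
        show Additive.ofMul (cn (k * l) x.toMul) = Additive.ofMul (cn k (cn l x.toMul))
        simp [cn] }
  refine ⟨(f.comp g).toHomUnits, ?_⟩
  ext k
  rw [MonoidHom.mem_ker, Units.ext_iff]
  show f (g k) = 1 ↔ k ∈ A
  constructor
  · intro h
    rw [← hcent, Subgroup.mem_centralizer_iff]
    intro x hx
    have h1 : g k = 1 :=
      hf (h.trans (map_one f).symm)
    have h2 : (cn k (⟨x, hx⟩ : A) : K) = x := by
      have := LinearMap.congr_fun h1 (Additive.ofMul ⟨x, hx⟩)
      exact congrArg (fun y : Additive A => (y.toMul : K)) this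
    simp only [cn, MulAut.conjNormal_apply] at h2
    exact (mul_inv_eq_iff_eq_mul.1 h2).symm
  · intro hk
    have h1 : g k = 1 := LinearMap.ext fun x => Additive.toMul.injective <| Subtype.ext <| by
      show (cn k x.toMul : K) = x.toMul
      simp only [cn, MulAut.conjNormal_apply]
      rw [Cfsg.Agent.Perm.isMulCommutative_iff_comm.1 hc k hk _ x.toMul.2, mul_inv_cancel_right]
    rw [h1]
    exact map_one f

end Cfsg.Agent.H68
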