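import Cfsg.Agent.H68.TwoSFive
import Cfsg.Agent.H67.Spectrum

/-!
A finite group with element orders `{1,...,10,12,15,21}` and a non-trivial normal abelian subgroup
of exponent 7: `(F₇⁴ × W) ⋊ 2.S₅⁻`, `W` the odd functions on the group with values in `F₃`.
-/

set_option autoImplicit false

namespace Cfsg.Agent.H68.Ten

open Cfsg.Agent.Compute Cfsg.Agent.H68.TwoSFive
open Matrix

/-- `GL₄(7)`. -/
abbrev GL47 := GL (Fin 4) (ZMod 7)

theorem hq : 7 ≤ 2 ^ 8 := by norm_num
theorem hnq : 4 * (7 - 1) ^ 2 < 2 ^ 8 := by norm_num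

/-- Decoding. -/
noncomputable def den (x : ℕ) : GL47 := matDen 8 4 7 x

theorem mem_iff {x : ℕ} : mem x = true ↔ x ∈ elems := by
  unfold mem
  rw [Bool.not_eq_true', Bool.eq_false_iff, Ne, lall_iff]
  constructor
  · intro h
    by_contra hx
    exact h fun y hy => by
      simp only [Bool.not_eq_true', Bool.eq_false_iff, Ne, Nat.beq_eq]
      exact fun e => hx (e ▸ hy)
  · intro hx h
    have := h x hx
    simp at this

theorem check_parts :
    (∀ x ∈ elems, validMat 8 4 7 x = true ∧ (∀ g ∈ gensL, mm x g ∈ elems) ∧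
      (x = e1 ∨ norm3 x = true ∨ norm5 x = true ∨ powNeg x = true)) ∧
    e1 ∈ elems ∧ negOne ∈ elems ∧ x8 ∈ elems ∧ x10 ∈ elems ∧ x12 ∈ elems ∧ x3 ∈ elems ∧
      x5 ∈ elems ∧ ∀ g ∈ gensL, g ∈ elems := by
  have h := check_ok
  simp only [check, Bool.and_eq_true, Bool.or_eq_true, lall_iff, mem_iff, Nat.beq_eq] at h
  obtain ⟨⟨⟨⟨⟨⟨⟨⟨h1, h2⟩, h3⟩, h4⟩, h5⟩, h6⟩, h7⟩, h8⟩, h9⟩ := h
  exact ⟨fun x hx => ⟨(h1 x hx).1.1, (h1 x hx).1.2, by simpa [or_assoc] using (h1 x hx).2⟩,
    h2, h3, h4, h5, h6, h7, h8, h9⟩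

theorem canon {x : ℕ} (hx : x ∈ elems) : MatCanon 8 4 7 x := by
  have h := (check_parts.1 x hx).1
  simp only [validMat, Bool.and_eq_true, allN_iff, Nat.ble_eq, Nat.beq_eq, Nat.add_one_le_iff] at h
  exact h

theorem toMat_mm {x y : ℕ} (hx : MatCanon 8 4 7 x) (hy : MatCanon 8 4 7 y) :
    MatCanon 8 4 7 (mm x y) ∧ toMat 8 4 7 (mm x y) = toMat 8 4 7 x * toMat 8 4 7 y :=
  matCanon_mul hq (by norm_num) hnq hx.1 hy.1

theorem toMat_e1 : toMat 8 4 7 e1 = 1 := (matCanon_one hq (by norm_num)).2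

theorem toMat_negOne : toMat 8 4 7 negOne = -1 := by decide +kernel

theorem natCast_eq_zero_iff_mod' (a : ℕ) : (a : ZMod 7) = 0 ↔ a % 7 = 0 := by
  rw [← ZMod.natCast_mod a 7]
  constructor
  · intro h
    have := congrArg ZMod.val h
    simpa [ZMod.val_natCast, Nat.mod_mod] using this
  · intro h; simp [h]

theorem entry (m : ℕ) (i j : Fin 4) : toMat 8 4 7 m i j = (getP 8 m ((i : ℕ) * 4 + j) : ZMod 7) :=
  rfl

/-- The meaning of the check of one element. -/
theorem classify {x : ℕ} (hx : x ∈ elems) :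
    let M := toMat 8 4 7 x
    M = 1 ∨ 1 + M + M ^ 2 = 0 ∨ 1 + M + M ^ 2 + M ^ 3 + M ^ 4 = 0 ∨
      ∃ m, 1 ≤ m ∧ m ≤ 6 ∧ M ^ m = -1 := by
  intro M
  have c := canon hx
  obtain ⟨c2, e2⟩ := toMat_mm c c
  obtain ⟨c3, e3⟩ := toMat_mm c2 c
  obtain ⟨c4, e4⟩ := toMat_mm c3 c
  obtain ⟨c5, e5⟩ := toMat_mm c4 c
  obtain ⟨c6, e6⟩ := toMat_mm c5 c
  have f2 : toMat 8 4 7 (mm x x) = M ^ 2 := by rw [e2, sq]
  have f3 : toMat 8 4 7 (mm (mm x x) x) = M ^ 3 := by rw [e3, f2, pow_succ M 2]
  have f4 : toMat 8 4 7 (mm (mm (mm x x) x) x) = M ^ 4 := by rw [e4, f3, pow_succ M 3]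
  have f5 : toMat 8 4 7 (mm (mm (mm (mm x x) x) x) x) = M ^ 5 := by rw [e5, f4, pow_succ M 4]
  have f6 : toMat 8 4 7 (mm (mm (mm (mm (mm x x) x) x) x) x) = M ^ 6 := by
    rw [e6, f5, pow_succ M 5]
  rcases (check_parts.1 x hx).2.2 with h | h | h | h
  · left; simp only [M, h, toMat_e1]
  · right; left
    simp only [norm3, allN_iff, Nat.beq_eq] at h
    ext i j
    have := h _ (idx_lt i j)
    rw [← natCast_eq_zero_iff_mod'] at this
    simp only [Nat.cast_add, ← entry, toMat_e1, f2] at this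
    simpa using this
  · right; right; left
    simp only [norm5, allN_iff, Nat.beq_eq] at h
    ext i j
    have := h _ (idx_lt i j)
    rw [← natCast_eq_zero_iff_mod'] at this
    simp only [Nat.cast_add, ← entry, toMat_e1, f2, f3, f4] at this
    simpa using this
  · right; right; right
    simp only [powNeg, Bool.or_eq_true, Nat.beq_eq] at h
    rcases h with ((((h | h) | h) | h) | h) | h
    · exact ⟨1, le_rfl, by norm_num, by rw [pow_one]; simp only [M, h, toMat_negOne]⟩
    · exact ⟨2, by norm_num, by norm_num, by rw [← f2, h, toMat_negOne]⟩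
    · exact ⟨3, by norm_num, by norm_num, by rw [← f3, h, toMat_negOne]⟩
    · exact ⟨4, by norm_num, by norm_num, by rw [← f4, h, toMat_negOne]⟩
    · exact ⟨5, by norm_num, by norm_num, by rw [← f5, h, toMat_negOne]⟩
    · exact ⟨6, by norm_num, by norm_num, by rw [← f6, h, toMat_negOne]⟩

theorem matOK {x : ℕ} (hx : x ∈ elems) : MatOK 8 4 7 x := by
  refine ⟨canon hx, ?_⟩
  set M := toMat 8 4 7 x with hM
  have key : ∃ n, 1 ≤ n ∧ M ^ n = 1 := by
    rcases classify hx with h | h | h | ⟨m, hm, -, h⟩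
    · exact ⟨1, le_rfl, by rw [pow_one]; exact h⟩
    · refine ⟨3, by norm_num, sub_eq_zero.mp ?_⟩
      rw [show M ^ 3 - 1 = (M - 1) * (1 + M + M ^ 2) by noncomm_ring, h, mul_zero]
    · refine ⟨5, by norm_num, sub_eq_zero.mp ?_⟩
      rw [show M ^ 5 - 1 = (M - 1) * (1 + M + M ^ 2 + M ^ 3 + M ^ 4) by noncomm_ring, h, mul_zero]
    · exact ⟨m + m, by omega, by rw [pow_add, h, neg_mul_neg, one_mul]⟩
  obtain ⟨n, hn, h⟩ := key
  exact (IsUnit.of_pow_eq_one h (by omega))

theorem den_coe {x : ℕ} (hx : x ∈ elems) : (den x : Matrix (Fin 4) (Fin 4) (ZMod 7)) = toMat 8 4 7 x :=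
  matDen_coe (matOK hx)

/-- The group `2.S₅⁻`. -/
def K : Subgroup GL47 := Subgroup.closure (den '' {g | g ∈ gensL})

/-- The matrix of an element of `K`. -/
abbrev mat (k : K) : Matrix (Fin 4) (Fin 4) (ZMod 7) := ((k : GL47) : Matrix (Fin 4) (Fin 4) (ZMod 7))

theorem exists_code (k : K) :
    ∃ x ∈ elems, mat k = toMat 8 4 7 x := by
  obtain ⟨g, hg⟩ := k
  change ∃ x ∈ elems, (g : Matrix (Fin 4) (Fin 4) (ZMod 7)) = _
  rw [← Subgroup.mem_toSubmonoid, K, Subgroup.closure_toSubmonoid_of_finite] at hg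
  induction hg using Submonoid.closure_induction_right with
  | one => exact ⟨e1, check_parts.2.1, by rw [toMat_e1, Units.val_one]⟩
  | mul_right y _ z hz ih =>
    obtain ⟨x, hx, hy⟩ := ih
    obtain ⟨c, hc, rfl⟩ := hz
    have hcm : c ∈ elems := check_parts.2.2.2.2.2.2.2.2 c hc
    refine ⟨mm x c, (check_parts.1 x hx).2.1 c hc, ?_⟩
    rw [Units.val_mul, hy, den_coe hcm, (toMat_mm (canon hx) (canon hcm)).2]

theorem mat_mul (k l : K) : mat (k * l) = mat k * mat l := rfl

theorem mat_one : mat 1 = 1 := rfl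

theorem elems_range {x : ℕ} (hx : x ∈ elems) (h : den x ∈ K) :
    mat ⟨den x, h⟩ = toMat 8 4 7 x := den_coe hx

/-- The central involution. -/
def negU : GL47 := -1

/-- The space of odd functions on `K`. -/
def Odd3 : AddSubgroup (K → ZMod 3) where
  carrier := {f | ∀ x y : K, (y : GL47) = negU * x → f y = -f x}
  add_mem' {f g} hf hg x y h := by simp [hf x y h, hg x y h, add_comm]
  zero_mem' x y _ := by simp
  neg_mem' {f} hf x y h := by simp [hf x y h]

/-- The module. -/
abbrev V := (Fin 4 → ZMod 7) × Odd3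

/-- Right translation of odd functions. -/
def transl (k : K) (f : Odd3) : Odd3 :=
  ⟨fun x => (f : K → ZMod 3) (x * k), fun x y h => f.2 _ _ (by
    simp only [Subgroup.coe_mul, h, mul_assoc])⟩

/-- The action on the module, as a multiplicative group. -/
def act : K →* MulAut (Multiplicative V) where
  toFun k :=
    { toFun := fun v => .ofAdd ((mat k) *ᵥ v.toAdd.1,
        transl k v.toAdd.2)
      invFun := fun v => .ofAdd ((mat k⁻¹) *ᵥ v.toAdd.1,
        transl k⁻¹ v.toAdd.2)
      left_inv := fun v => by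
        apply Multiplicative.toAdd.injective
        refine Prod.ext ?_ (Subtype.ext (funext fun x => ?_))
        · simp [Matrix.mulVec_mulVec, ← mat_mul, mat_one]
        · simp [transl, mul_assoc]
      right_inv := fun v => by
        apply Multiplicative.toAdd.injective
        refine Prod.ext ?_ (Subtype.ext (funext fun x => ?_))
        · simp [Matrix.mulVec_mulVec, ← mat_mul, mat_one]
        · simp [transl, mul_assoc]
      map_mul' := fun v w => by
        apply Multiplicative.toAdd.injective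
        refine Prod.ext ?_ (Subtype.ext (funext fun x => ?_))
        · simp [Matrix.mulVec_add]
        · simp [transl] }
  map_one' := by
    refine MulEquiv.ext fun v => ?_
    apply Multiplicative.toAdd.injective
    refine Prod.ext ?_ (Subtype.ext (funext fun x => ?_))
    · simp [mat_one]
    · simp [transl]
  map_mul' k l := by
    refine MulEquiv.ext fun v => ?_
    apply Multiplicative.toAdd.injective
    refine Prod.ext ?_ (Subtype.ext (funext fun x => ?_))
    · simp [Matrix.mulVec_mulVec, mat_mul]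
    · simp [transl, mul_assoc]

/-- The group. -/
abbrev Grp := Multiplicative V ⋊[act] K

instance finite_grp : Finite Grp := Finite.of_equiv _ SemidirectProduct.equivProd.symm

theorem val_pow (k : K) (m : ℕ) :
    mat (k ^ m) = mat k ^ m := by
  induction m with
  | zero => simp [mat_one]
  | succ n ih => rw [pow_succ, mat_mul, ih, pow_succ]

theorem pow_eq (a : Fin 4 → ZMod 7) (f : Odd3) (k : K) (m : ℕ) :
    ((⟨Multiplicative.ofAdd (a, f), k⟩ : Grp) ^ m).left.toAdd.1
        = (∑ i ∈ Finset.range m, (mat k) ^ i) *ᵥ a ∧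
    (∀ x : K, (((⟨Multiplicative.ofAdd (a, f), k⟩ : Grp) ^ m).left.toAdd.2 : K → ZMod 3) x
        = ∑ i ∈ Finset.range m, (f : K → ZMod 3) (x * k ^ i)) ∧
    ((⟨Multiplicative.ofAdd (a, f), k⟩ : Grp) ^ m).right = k ^ m := by
  induction m with
  | zero => simp
  | succ n ih =>
    obtain ⟨h1, h2, h3⟩ := ih
    refine ⟨?_, fun x => ?_, ?_⟩
    · rw [pow_succ, SemidirectProduct.mul_left, h3, toAdd_mul, Prod.fst_add, h1,
        Finset.sum_range_succ, Matrix.add_mulVec, ← val_pow k n]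
      simp [act]
    · rw [pow_succ, SemidirectProduct.mul_left, h3, toAdd_mul, Prod.snd_add,
        AddSubgroup.coe_add, Pi.add_apply, h2 x, Finset.sum_range_succ]
      simp [act, transl]
    · rw [pow_succ, SemidirectProduct.mul_right, h3, pow_succ]

theorem pow_eq_one (a : Fin 4 → ZMod 7) (f : Odd3) (k : K) (m : ℕ)
    (h1 : (∑ i ∈ Finset.range m, (mat k) ^ i) *ᵥ a = 0)
    (h2 : ∀ x : K, ∑ i ∈ Finset.range m, (f : K → ZMod 3) (x * k ^ i) = 0)
    (h3 : k ^ m = 1) : (⟨Multiplicative.ofAdd (a, f), k⟩ : Grp) ^ m = 1 := by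
  obtain ⟨e1, e2, e3⟩ := pow_eq a f k m
  refine SemidirectProduct.ext ?_ (by rw [e3, h3]; rfl)
  apply Multiplicative.toAdd.injective
  refine Prod.ext (e1.trans h1) (Subtype.ext (funext fun x => ?_))
  rw [e2 x, h2 x]
  simp

theorem three_sum {ι : Type*} (s : Finset ι) (g : ι → ZMod 3) :
    (∑ i ∈ s, g i) + (∑ i ∈ s, g i) + ∑ i ∈ s, g i = 0 := by
  generalize ∑ i ∈ s, g i = t
  revert t; decide

theorem eq_one_of_val {k : K} (h : mat k = 1) : k = 1 :=
  Subtype.ext (Units.ext h)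

/-- The element orders. -/
def orders : Set ℕ := {1, 2, 3, 4, 5, 6, 7, 8, 9, 10, 12, 15, 21}

theorem orderOf_mem (g : Grp) : orderOf g ∈ orders := by
  obtain ⟨v, k⟩ := g
  obtain ⟨⟨a, f⟩, rfl⟩ : ∃ w, v = Multiplicative.ofAdd w := ⟨v.toAdd, rfl⟩
  set M := mat k
  obtain ⟨x, hx, hkx⟩ := exists_code k
  have hall : ∀ n : ℕ, n ∈ [9, 15, 21, 2, 4, 6, 8, 10, 12] → ∀ d : ℕ, d ∣ n → d ∈ orders := by
    intro n hn d hd
    have hn0 : n ≠ 0 := by intro h; subst h; simp at hn
    have hle : d ≤ 21 := (Nat.le_of_dvd (Nat.pos_of_ne_zero hn0) hd).trans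
      (by simp only [List.mem_cons, List.not_mem_nil, or_false] at hn; omega)
    simp only [List.mem_cons, List.not_mem_nil, or_false] at hn
    simp only [orders, Set.mem_insert_iff, Set.mem_singleton_iff]
    interval_cases d <;> omega
  rcases classify hx with h | h | h | ⟨m, hm1, hm6, h⟩
  · -- k = 1
    have hk : k = 1 := eq_one_of_val (hkx.trans h)
    refine hall 21 (by simp) _ (orderOf_dvd_of_pow_eq_one (pow_eq_one a f k 21 ?_ ?_ ?_))
    · subst hk
      simp only [mat_one, one_pow, Finset.sum_const, Finset.card_range, nsmul_one]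
      rw [show ((21 : ℕ) : Matrix (Fin 4) (Fin 4) (ZMod 7)) = 0 by decide +kernel]
      exact Matrix.zero_mulVec a
    · intro y
      subst hk
      simp only [one_pow, mul_one, Finset.sum_const, Finset.card_range]
      generalize (f : K → ZMod 3) y = t
      revert t; decide
    · rw [hk, one_pow]
  · -- order 3
    rw [← hkx] at h
    have hk3 : k ^ 3 = 1 := eq_one_of_val (by
      rw [val_pow]
      refine sub_eq_zero.mp ?_
      rw [show M ^ 3 - 1 = (M - 1) * (1 + M + M ^ 2) by noncomm_ring, h, mul_zero])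
    have hM3 : M ^ 3 = 1 := by rw [← val_pow, hk3]; rfl
    refine hall 9 (by simp) _ (orderOf_dvd_of_pow_eq_one (pow_eq_one a f k 9 ?_ ?_ ?_))
    · have : ∑ i ∈ Finset.range 9, M ^ i = (1 + M + M ^ 2) * (1 + M ^ 3 + M ^ 6) := by
        simp only [Finset.sum_range_succ, Finset.sum_range_zero]; noncomm_ring
      rw [this, h, zero_mul, Matrix.zero_mulVec]
    · intro y
      rw [show Finset.range 9 = Finset.range (3 + 3 + 3) from rfl, Finset.sum_range_add,
        Finset.sum_range_add]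
      simp only [pow_add, hk3, one_mul]
      exact three_sum _ _
    · rw [show 9 = 3 * 3 from rfl, pow_mul, hk3, one_pow]
  · -- order 5
    rw [← hkx] at h
    have hk5 : k ^ 5 = 1 := eq_one_of_val (by
      rw [val_pow]
      refine sub_eq_zero.mp ?_
      rw [show M ^ 5 - 1 = (M - 1) * (1 + M + M ^ 2 + M ^ 3 + M ^ 4) by noncomm_ring, h, mul_zero])
    refine hall 15 (by simp) _ (orderOf_dvd_of_pow_eq_one (pow_eq_one a f k 15 ?_ ?_ ?_))
    · have : ∑ i ∈ Finset.range 15, M ^ i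
          = (1 + M + M ^ 2 + M ^ 3 + M ^ 4) * (1 + M ^ 5 + M ^ 10) := by
        simp only [Finset.sum_range_succ, Finset.sum_range_zero]; noncomm_ring
      rw [this, h, zero_mul, Matrix.zero_mulVec]
    · intro y
      rw [show Finset.range 15 = Finset.range (5 + 5 + 5) from rfl, Finset.sum_range_add,
        Finset.sum_range_add]
      simp only [pow_add, hk5, one_mul]
      exact three_sum _ _
    · rw [show 15 = 5 * 3 from rfl, pow_mul, hk5, one_pow]
  · -- even order
    rw [← hkx] at h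
    have hkm : ((k ^ m : K) : GL47) = negU := Units.ext (by
      change mat (k ^ m) = _
      rw [val_pow, h]; simp [negU])
    refine hall (m + m) ?_ _ (orderOf_dvd_of_pow_eq_one (pow_eq_one a f k (m + m) ?_ ?_ ?_))
    · interval_cases m <;> simp
    · rw [Finset.sum_range_add]
      simp only [pow_add, h, neg_mul, one_mul, Finset.sum_neg_distrib, add_neg_cancel]
      exact Matrix.zero_mulVec a
    · intro y
      rw [Finset.sum_range_add, ← Finset.sum_add_distrib]
      refine Finset.sum_eq_zero fun i _ => ?_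
      have hneg : (f : K → ZMod 3) (y * k ^ (m + i)) = -(f : K → ZMod 3) (y * k ^ i) := by
        refine f.2 _ _ ?_
        rw [show y * k ^ (m + i) = y * k ^ m * k ^ i by rw [pow_add, mul_assoc]]
        simp only [Subgroup.coe_mul, hkm]
        have hc : (y : GL47) * negU = negU * y := by
          apply Units.ext; simp [negU]
        rw [hc, mul_assoc]
      rw [hneg, add_neg_cancel]
    · exact eq_one_of_val (by rw [val_pow, pow_add, h, neg_mul_neg, one_mul])

theorem den_gen_mem {g : ℕ} (hg : g ∈ gensL) : den g ∈ K :=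
  Subgroup.subset_closure ⟨g, hg, rfl⟩

theorem negOne_word : List.foldl (fun acc i => mm acc (gensL.getD i 0)) e1 [0, 0] = negOne := by decide +kernel

theorem x8_word : List.foldl (fun acc i => mm acc (gensL.getD i 0)) e1 [1, 2] = x8 := by decide +kernel

theorem x10_word : List.foldl (fun acc i => mm acc (gensL.getD i 0)) e1 [0, 0, 0, 1] = x10 := by decide +kernel

theorem x12_word : List.foldl (fun acc i => mm acc (gensL.getD i 0)) e1 [0, 1, 2, 1] = x12 := by decide +kernel

theorem x3_word : List.foldl (fun acc i => mm acc (gensL.getD i 0)) e1 [1, 1] = x3 := by decide +kernel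

theorem x5_word : List.foldl (fun acc i => mm acc (gensL.getD i 0)) e1 [0, 1] = x5 := by decide +kernel

theorem foldl_mem (l : List ℕ) (hl : ∀ i ∈ l, i < gensL.length) :
    ∀ x ∈ elems, den x ∈ K → List.foldl (fun acc i => mm acc (gensL.getD i 0)) x l ∈ elems ∧
      den (List.foldl (fun acc i => mm acc (gensL.getD i 0)) x l) ∈ K := by
  induction l with
  | nil => exact fun x hx hK => ⟨hx, hK⟩
  | cons i t ih =>
    intro x hx hK
    have hi : gensL.getD i 0 ∈ gensL := by
      rw [List.getD_eq_getElem _ _ (hl i List.mem_cons_self)]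
      exact List.getElem_mem _
    have hc : gensL.getD i 0 ∈ elems := check_parts.2.2.2.2.2.2.2.2 _ hi
    rw [List.foldl_cons]
    refine ih (fun j hj => hl j (List.mem_cons_of_mem _ hj)) (mm x (gensL.getD i 0))
      ((check_parts.1 x hx).2.1 _ hi) ?_
    have e : den (mm x (gensL.getD i 0)) = den x * den (gensL.getD i 0) := by
      apply Units.ext
      rw [Units.val_mul, den_coe ((check_parts.1 x hx).2.1 _ hi), den_coe hx, den_coe hc,
        (toMat_mm (canon hx) (canon hc)).2]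
    rw [e]
    exact mul_mem hK (den_gen_mem hi)

theorem den_e1_mem : den e1 ∈ K := by
  have : den e1 = 1 := Units.ext (by rw [den_coe check_parts.2.1, toMat_e1, Units.val_one])
  rw [this]
  exact one_mem K

theorem exists_of_word {x : ℕ} (l : List ℕ) (hl : ∀ i ∈ l, i < gensL.length)
    (h : List.foldl (fun acc i => mm acc (gensL.getD i 0)) e1 l = x) :
    ∃ k : K, mat k = toMat 8 4 7 x := by
  obtain ⟨h1, h2⟩ := foldl_mem l hl e1 check_parts.2.1 den_e1_mem
  rw [h] at h1 h2
  exact ⟨⟨den x, h2⟩, den_coe h1⟩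

/-- Powers of codes. -/
noncomputable def pwc (x : ℕ) : ℕ → ℕ
  | 0 => e1
  | n + 1 => mm (pwc x n) x

theorem pwc_spec {x : ℕ} (hx : x ∈ elems) : ∀ n,
    MatCanon 8 4 7 (pwc x n) ∧ toMat 8 4 7 (pwc x n) = toMat 8 4 7 x ^ n
  | 0 => ⟨(matCanon_one hq (by norm_num)).1, by rw [pow_zero]; exact toMat_e1⟩
  | n + 1 => by
    obtain ⟨c, e⟩ := pwc_spec hx n
    obtain ⟨c', e'⟩ := toMat_mm c (canon hx)
    exact ⟨c', e'.trans (by rw [e, pow_succ])⟩

theorem code_facts :
    pwc x8 4 = negOne ∧ pwc x10 5 = negOne ∧ pwc x10 2 ≠ e1 ∧ pwc x12 6 = negOne ∧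
      pwc x12 4 ≠ e1 ∧ x3 ≠ e1 ∧ pwc x3 3 = e1 ∧ x5 ≠ e1 ∧ pwc x5 5 = e1 ∧ negOne ≠ e1 := by
  decide +kernel

theorem order_facts :
    toMat 8 4 7 x8 ^ 4 = -1 ∧ toMat 8 4 7 x10 ^ 5 = -1 ∧ toMat 8 4 7 x10 ^ 2 ≠ 1 ∧
    toMat 8 4 7 x12 ^ 6 = -1 ∧ toMat 8 4 7 x12 ^ 4 ≠ 1 ∧
    toMat 8 4 7 x3 ≠ 1 ∧ toMat 8 4 7 x3 ^ 3 = 1 ∧
    toMat 8 4 7 x5 ≠ 1 ∧ toMat 8 4 7 x5 ^ 5 = 1 ∧ (-1 : Matrix (Fin 4) (Fin 4) (ZMod 7)) ≠ 1 := by
  obtain ⟨-, he, hn, h8, h10, h12, h3, h5, -⟩ := check_parts
  obtain ⟨a1, a2, a3, a4, a5, a6, a7, a8, a9, a10⟩ := code_facts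
  have hne : ∀ {c : ℕ}, MatCanon 8 4 7 c → c ≠ e1 → toMat 8 4 7 c ≠ 1 := fun hc h e =>
    h (matCanon_ext hc (canon he) (e.trans toMat_e1.symm))
  refine ⟨?_, ?_, ?_, ?_, ?_, hne (canon h3) a6, ?_, hne (canon h5) a8, ?_, ?_⟩
  · rw [← (pwc_spec h8 4).2, a1, toMat_negOne]
  · rw [← (pwc_spec h10 5).2, a2, toMat_negOne]
  · rw [← (pwc_spec h10 2).2]; exact hne (pwc_spec h10 2).1 a3
  · rw [← (pwc_spec h12 6).2, a4, toMat_negOne]
  · rw [← (pwc_spec h12 4).2]; exact hne (pwc_spec h12 4).1 a5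
  · rw [← (pwc_spec h3 3).2, a7, toMat_e1]
  · rw [← (pwc_spec h5 5).2, a9, toMat_e1]
  · rw [← toMat_negOne]; exact hne (canon hn) a10

open Classical in
/-- The odd function supported at `1` and `-1`. -/
noncomputable def delta (z : K) (hz : (z : GL47) = negU) : Odd3 :=
  ⟨fun x => (if x = 1 then 1 else 0) - (if x = z then 1 else 0), fun x y h => by
    have hzz : negU * negU = 1 := Units.ext (by simp [negU])
    have e1 : y = 1 ↔ x = z := by
      constructor <;> intro e
      · apply Subtype.ext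
        rw [e] at h
        calc (x : GL47) = negU * (negU * x) := by rw [← mul_assoc, hzz, one_mul]
          _ = z := by rw [← h, OneMemClass.coe_one, mul_one, hz]
      · apply Subtype.ext
        rw [h, e, hz, hzz]; rfl
    have e2 : y = z ↔ x = 1 := by
      constructor <;> intro e
      · apply Subtype.ext
        rw [e, hz] at h
        exact mul_left_cancel (h.symm.trans (mul_one negU).symm)
      · apply Subtype.ext
        rw [h, e, hz]; simp
    simp only [e1, e2, neg_sub]⟩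

theorem delta_sum (z : K) (hz : (z : GL47) = negU) (k : K) (n : ℕ) (hn : 0 < n)
    (h : ∀ i, 0 < i → i < n → k ^ i ≠ 1 ∧ k ^ i ≠ z) :
    ∑ i ∈ Finset.range n, (delta z hz : K → ZMod 3) (1 * k ^ i) = 1 := by
  classical
  have hz1 : (1 : K) ≠ z := fun e => by
    have := congrArg (fun k : K => ((k : GL47) : Matrix (Fin 4) (Fin 4) (ZMod 7))) e
    simp only [OneMemClass.coe_one, Units.val_one, hz, negU, Units.val_neg] at this
    exact order_facts.2.2.2.2.2.2.2.2.2 this.symm
  rw [Finset.sum_eq_single 0]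
  · simp [delta, hz1]
  · intro i hi hne
    obtain ⟨h1, h2⟩ := h i (Nat.pos_of_ne_zero hne) (Finset.mem_range.mp hi)
    simp [delta, h1, h2]
  · intro h0; exact absurd (Finset.mem_range.mpr hn) h0

/-- The element orders of the group. -/
theorem range_orderOf_grp : Set.range (orderOf : Grp → ℕ) = orders := by
  refine Set.Subset.antisymm (Set.range_subset_iff.mpr orderOf_mem) ?_
  have hdvd : ∀ n ∈ Set.range (orderOf : Grp → ℕ), ∀ d, d ∣ n →
      d ∈ Set.range (orderOf : Grp → ℕ) := by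
    rintro _ ⟨g, rfl⟩ d hd
    exact ⟨g ^ (orderOf g / d), orderOf_pow_orderOf_div (orderOf_pos g).ne' hd⟩
  obtain ⟨f8, f10, f10', f12, f12', f3, f3', f5, f5', hneg⟩ := order_facts
  obtain ⟨z, hzm⟩ := exists_of_word _ (by decide) negOne_word
  rw [toMat_negOne] at hzm
  have hz : (z : GL47) = negU := Units.ext (by change mat z = _; rw [hzm]; simp [negU])
  obtain ⟨k8, m8⟩ := exists_of_word _ (by decide) x8_word
  obtain ⟨k10, m10⟩ := exists_of_word _ (by decide) x10_word
  obtain ⟨k12, m12⟩ := exists_of_word _ (by decide) x12_word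
  obtain ⟨k3, m3⟩ := exists_of_word _ (by decide) x3_word
  obtain ⟨k5, m5⟩ := exists_of_word _ (by decide) x5_word
  rw [← m8] at f8
  rw [← m10] at f10 f10'
  rw [← m12] at f12 f12'
  rw [← m3] at f3 f3'
  rw [← m5] at f5 f5'
  have hsq : ∀ (k : K) (m : ℕ), mat k ^ m = -1 → k ^ (m + m) = 1 ∧ k ^ m ≠ 1 := by
    intro k m h
    constructor
    · exact eq_one_of_val (by rw [val_pow, pow_add, h, neg_mul_neg, one_mul])
    · intro e
      rw [← val_pow, e, mat_one] at h
      exact hneg h.symm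
  have hin : ∀ k : K, orderOf k ∈ Set.range (orderOf : Grp → ℕ) := fun k =>
    ⟨SemidirectProduct.inr k, orderOf_injective _ SemidirectProduct.inr_injective k⟩
  have h8 : 8 ∈ Set.range (orderOf : Grp → ℕ) := by
    have : Fact (Nat.Prime 2) := ⟨Nat.prime_two⟩
    obtain ⟨a, b⟩ := hsq k8 4 f8
    have e : orderOf k8 = 2 ^ 3 := orderOf_eq_prime_pow (n := 2) b a
    have h := hin k8
    rw [e] at h
    exact h
  have h10 : 10 ∈ Set.range (orderOf : Grp → ℕ) := by
    obtain ⟨a, b⟩ := hsq k10 5 f10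
    have hne2 : k10 ^ 2 ≠ 1 := fun e => f10' (by rw [← val_pow, e, mat_one])
    have e : orderOf k10 = 10 := by
      have hd := orderOf_dvd_of_pow_eq_one a
      have hle := Nat.le_of_dvd (by norm_num) hd
      have n5 : ¬ orderOf k10 ∣ 5 := fun h => b (orderOf_dvd_iff_pow_eq_one.mp h)
      have n2 : ¬ orderOf k10 ∣ 2 := fun h => hne2 (orderOf_dvd_iff_pow_eq_one.mp h)
      norm_num at hd
      interval_cases (orderOf k10) <;> revert hd n5 n2 <;> decide
    exact e ▸ hin k10
  have h12 : 12 ∈ Set.range (orderOf : Grp → ℕ) := by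
    obtain ⟨a, b⟩ := hsq k12 6 f12
    have hne4 : k12 ^ 4 ≠ 1 := fun e => f12' (by rw [← val_pow, e, mat_one])
    have e : orderOf k12 = 12 := by
      have hd := orderOf_dvd_of_pow_eq_one a
      have hle := Nat.le_of_dvd (by norm_num) hd
      have n6 : ¬ orderOf k12 ∣ 6 := fun h => b (orderOf_dvd_iff_pow_eq_one.mp h)
      have n4 : ¬ orderOf k12 ∣ 4 := fun h => hne4 (orderOf_dvd_iff_pow_eq_one.mp h)
      norm_num at hd
      interval_cases (orderOf k12) <;> revert hd n6 n4 <;> decide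
    exact e ▸ hin k12
  have hk3 : k3 ^ 3 = 1 := eq_one_of_val (by rw [val_pow, f3'])
  have hk5 : k5 ^ 5 = 1 := eq_one_of_val (by rw [val_pow, f5'])
  have hk3ne : k3 ≠ 1 := fun e => f3 (by rw [e, mat_one])
  have hk5ne : k5 ≠ 1 := fun e => f5 (by rw [e, mat_one])
  have hord3 : orderOf k3 = 3 :=
    have : Fact (Nat.Prime 3) := ⟨Nat.prime_three⟩
    orderOf_eq_prime hk3 hk3ne
  have hord5 : orderOf k5 = 5 :=
    have : Fact (Nat.Prime 5) := ⟨by norm_num⟩
    orderOf_eq_prime hk5 hk5ne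
  have hz2 : z ^ 2 = 1 := eq_one_of_val (by rw [val_pow, hzm, neg_one_sq])
  have hzne : z ≠ 1 := fun e => hneg (by rw [← hzm, e, mat_one])
  have hordz : orderOf z = 2 :=
    have : Fact (Nat.Prime 2) := ⟨Nat.prime_two⟩
    orderOf_eq_prime hz2 hzne
  have hnotz : ∀ (k : K) (p i : ℕ), orderOf k = p → Odd p → k ^ i ≠ z := by
    intro k p i hk hp e
    have := orderOf_pow_dvd (x := k) i
    rw [e, hk, hordz] at this
    obtain ⟨c, hc⟩ := this
    obtain ⟨d, hd⟩ := hp
    omega
  let a0 : Fin 4 → ZMod 7 := fun _ => 1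
  let g9 : Grp := ⟨Multiplicative.ofAdd ((0 : Fin 4 → ZMod 7), delta z hz), k3⟩
  let g15 : Grp := ⟨Multiplicative.ofAdd ((0 : Fin 4 → ZMod 7), delta z hz), k5⟩
  let g21 : Grp := ⟨Multiplicative.ofAdd (a0, delta z hz), 1⟩
  have hleft : ∀ (g : Grp), g = 1 → g.left.toAdd = (0, 0) := fun g h => by subst h; rfl
  have h9 : 9 ∈ Set.range (orderOf : Grp → ℕ) := by
    refine ⟨g9, ?_⟩
    have hne : g9 ^ 3 ≠ 1 := by
      intro e
      obtain ⟨-, e2, -⟩ := pow_eq (0 : Fin 4 → ZMod 7) (delta z hz) k3 3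
      have h2 := e2 1
      rw [hleft _ e, delta_sum z hz k3 3 (by norm_num) (fun i hi1 hi3 => ⟨fun h => ?_,
        hnotz k3 3 i hord3 (by decide)⟩)] at h2
      · exact absurd h2 (by simp)
      · exact absurd (Nat.le_of_dvd hi1 (hord3 ▸ orderOf_dvd_of_pow_eq_one h)) (by omega)
    have h9' : orderOf g9 ∣ 9 := by
      apply orderOf_dvd_of_pow_eq_one
      refine pow_eq_one _ _ _ 9 (by simp) (fun y => ?_)
        (by rw [show 9 = 3 * 3 from rfl, pow_mul, hk3, one_pow])
      rw [show Finset.range 9 = Finset.range (3 + 3 + 3) from rfl, Finset.sum_range_add,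
        Finset.sum_range_add]
      simp only [pow_add, hk3, one_mul]
      exact three_sum _ _
    have n3 : ¬ orderOf g9 ∣ 3 := fun h => hne (orderOf_dvd_iff_pow_eq_one.mp h)
    have hle := Nat.le_of_dvd (by norm_num) h9'
    interval_cases (orderOf g9) <;> revert h9' n3 <;> decide
  have h15 : 15 ∈ Set.range (orderOf : Grp → ℕ) := by
    refine ⟨g15, ?_⟩
    have hne : g15 ^ 5 ≠ 1 := by
      intro e
      obtain ⟨-, e2, -⟩ := pow_eq (0 : Fin 4 → ZMod 7) (delta z hz) k5 5
      have h2 := e2 1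
      rw [hleft _ e, delta_sum z hz k5 5 (by norm_num) (fun i hi1 hi3 => ⟨fun h => ?_,
        hnotz k5 5 i hord5 (by decide)⟩)] at h2
      · exact absurd h2 (by simp)
      · exact absurd (Nat.le_of_dvd hi1 (hord5 ▸ orderOf_dvd_of_pow_eq_one h)) (by omega)
    have hne3 : g15 ^ 3 ≠ 1 := by
      intro e
      obtain ⟨-, -, e3⟩ := pow_eq (0 : Fin 4 → ZMod 7) (delta z hz) k5 3
      rw [e] at e3
      have := Nat.le_of_dvd (by norm_num) (hord5 ▸ orderOf_dvd_of_pow_eq_one e3.symm)
      omega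
    have h15' : orderOf g15 ∣ 15 := by
      apply orderOf_dvd_of_pow_eq_one
      refine pow_eq_one _ _ _ 15 (by simp) (fun y => ?_)
        (by rw [show 15 = 5 * 3 from rfl, pow_mul, hk5, one_pow])
      rw [show Finset.range 15 = Finset.range (5 + 5 + 5) from rfl, Finset.sum_range_add,
        Finset.sum_range_add]
      simp only [pow_add, hk5, one_mul]
      exact three_sum _ _
    have n5 : ¬ orderOf g15 ∣ 5 := fun h => hne (orderOf_dvd_iff_pow_eq_one.mp h)
    have n3 : ¬ orderOf g15 ∣ 3 := fun h => hne3 (orderOf_dvd_iff_pow_eq_one.mp h)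
    have hle := Nat.le_of_dvd (by norm_num) h15'
    interval_cases (orderOf g15) <;> revert h15' n5 n3 <;> decide
  have h21 : 21 ∈ Set.range (orderOf : Grp → ℕ) := by
    refine ⟨g21, ?_⟩
    have hne7 : g21 ^ 7 ≠ 1 := by
      intro e
      obtain ⟨-, e2, -⟩ := pow_eq a0 (delta z hz) 1 7
      have h2 := e2 1
      rw [hleft _ e] at h2
      simp [delta, hzne.symm] at h2
      exact absurd h2 (by decide)
    have hne3 : g21 ^ 3 ≠ 1 := by
      intro e
      obtain ⟨e1, -, -⟩ := pow_eq a0 (delta z hz) 1 3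
      rw [hleft _ e] at e1
      have h3 := congrFun e1 0
      simp [mat_one, a0, Finset.sum_range_succ, Matrix.add_mulVec] at h3
      exact absurd h3 (by decide)
    have h21' : orderOf g21 ∣ 21 := by
      apply orderOf_dvd_of_pow_eq_one
      refine pow_eq_one _ _ _ 21 ?_ (fun y => ?_) (one_pow _)
      · simp only [mat_one, one_pow, Finset.sum_const, Finset.card_range, nsmul_one]
        rw [show ((21 : ℕ) : Matrix (Fin 4) (Fin 4) (ZMod 7)) = 0 by decide +kernel]
        exact Matrix.zero_mulVec _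
      · simp only [one_pow, mul_one, Finset.sum_const, Finset.card_range]
        generalize (delta z hz : K → ZMod 3) y = t
        revert t; decide
    have n7 : ¬ orderOf g21 ∣ 7 := fun h => hne7 (orderOf_dvd_iff_pow_eq_one.mp h)
    have n3 : ¬ orderOf g21 ∣ 3 := fun h => hne3 (orderOf_dvd_iff_pow_eq_one.mp h)
    have hle := Nat.le_of_dvd (by norm_num) h21'
    interval_cases (orderOf g21) <;> revert h21' n7 n3 <;> decide
  intro n hn
  simp only [orders, Set.mem_insert_iff, Set.mem_singleton_iff] at hn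
  rcases hn with rfl | rfl | rfl | rfl | rfl | rfl | rfl | rfl | rfl | rfl | rfl | rfl | rfl
  · exact hdvd _ h8 _ (one_dvd _)
  · exact hdvd _ h8 _ (by norm_num)
  · exact hdvd _ h9 _ (by norm_num)
  · exact hdvd _ h8 _ (by norm_num)
  · exact hdvd _ h15 _ (by norm_num)
  · exact hdvd _ h12 _ (by norm_num)
  · exact hdvd _ h21 _ (by norm_num)
  · exact h8
  · exact h9
  · exact h10
  · exact h12
  · exact h15
  · exact h21

/-- The part of exponent 7 is normal. -/
theorem exists_normal :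
    ∃ (W : Subgroup Grp) (p : ℕ), W.Normal ∧ W ≠ ⊥ ∧ p.Prime ∧ ∀ x : W, x ^ p = 1 := by
  let W : Subgroup Grp :=
    { carrier := {g | g.right = 1 ∧ g.left.toAdd.2 = 0}
      one_mem' := ⟨rfl, rfl⟩
      mul_mem' := fun {g h} hg hh => ⟨by simp [hg.1, hh.1], by
        simp [SemidirectProduct.mul_left, hg.1, hg.2, hh.2]⟩
      inv_mem' := fun {g} hg => ⟨by simp [hg.1], by
        simp [SemidirectProduct.inv_left, hg.1, hg.2]⟩ }
  refine ⟨W, 7, ?_, ?_, by norm_num, fun x => ?_⟩
  · constructor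
    rintro w ⟨hw1, hw2⟩ g
    refine ⟨by simp [hw1], ?_⟩
    have htr0 : ∀ k : K, transl k 0 = 0 := fun k => Subtype.ext (funext fun _ => rfl)
    have hneg : ∀ (k : K) (f : Odd3), transl k (-f) = -transl k f :=
      fun k f => Subtype.ext (funext fun _ => rfl)
    have htt : ∀ (k l : K) (f : Odd3), transl k (transl l f) = transl (k * l) f :=
      fun k l f => Subtype.ext (funext fun x => by simp [transl, mul_assoc])
    have ht1 : ∀ f : Odd3, transl 1 f = f :=
      fun f => Subtype.ext (funext fun x => by simp [transl])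
    simp [SemidirectProduct.mul_left, SemidirectProduct.inv_left, act, hw1, hw2, htr0, hneg, htt,
      ht1]
  · intro h
    let w : Grp := ⟨Multiplicative.ofAdd ((fun _ => 1 : Fin 4 → ZMod 7), 0), 1⟩
    have hw : w ∈ W := ⟨rfl, rfl⟩
    rw [h, Subgroup.mem_bot] at hw
    have h1 := congrFun (congrArg (fun g : Grp => g.left.toAdd.1) hw) 0
    exact absurd h1 (by simp [w]; decide)
  · obtain ⟨⟨v, k⟩, hk, hf⟩ := x
    obtain ⟨⟨a, f⟩, rfl⟩ : ∃ w, v = Multiplicative.ofAdd w := ⟨v.toAdd, rfl⟩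
    simp only [toAdd_ofAdd] at hk hf
    subst hk
    subst hf
    refine Subtype.ext (pow_eq_one a 0 1 7 ?_ (fun y => by simp) (one_pow _))
    simp only [mat_one, one_pow, Finset.sum_const, Finset.card_range, nsmul_one]
    rw [show ((7 : ℕ) : Matrix (Fin 4) (Fin 4) (ZMod 7)) = 0 by decide +kernel]
    exact Matrix.zero_mulVec _

end Cfsg.Agent.H68.Ten
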